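import Mathlib
import Groth.Prelude.Def_Hensel
import Groth.Prelude.Def_EssEt
import Groth.Agent.Henz21.FaithfullyFlat
import Groth.Agent.Hensel20.Stages
import Groth.Agent.EssEt14.Basic

/-!
Local essentially etale subalgebras of a strict henselization.
-/

set_option autoImplicit false

open IsLocalRing

namespace Groth.Agent.SubSh14

universe u

section General

variable {A B C : Type u} [CommRing A] [IsLocalRing A] [CommRing B] [Algebra A B] [CommRing C] [Algebra A C]

theorem of_algEquiv (h : EGA4loc.IsEssentiallyEtale A B) (e : B ≃ₐ[A] C) : EGA4loc.IsEssentiallyEtale A C := by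
  obtain ⟨D, _, _, q, _, hD, hq, ⟨f⟩⟩ := h
  exact ⟨D, inferInstance, inferInstance, q, inferInstance, hD, hq, ⟨e.symm.trans f⟩⟩

theorem flat (h : EGA4loc.IsEssentiallyEtale A B) : Module.Flat A B := by
  obtain ⟨D, _, _, q, _, hD, hq, ⟨f⟩⟩ := h
  have : Module.Flat A (Localization.AtPrime q) := Module.Flat.trans A D _
  exact Module.Flat.of_linearEquiv f.toLinearEquiv

theorem isNoetherianRing [IsNoetherianRing A] (h : EGA4loc.IsEssentiallyEtale A B) : IsNoetherianRing B := by
  obtain ⟨D, _, _, q, _, hD, hq, ⟨f⟩⟩ := h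
  have : IsNoetherianRing D := Algebra.FiniteType.isNoetherianRing A D
  exact isNoetherianRing_of_surjective _ _ f.symm.toRingEquiv.toRingHom f.symm.surjective

end General

variable {A S : Type u} [CommRing A] [IsLocalRing A] [CommRing S] [IsLocalRing S] [Algebra A S]
  [IsLocalHom (algebraMap A S)] [Hensel.IsStrictHenselization A S]

instance flat_strictHenselization : Module.Flat A S :=
  (Henz21.strictHenselization_faithfullyFlat S).toFlat

/-- Local essentially etale algebras mapping to the strict henselization map faithfully flatly. -/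
theorem faithfullyFlat_algHom {E : Type u} [CommRing E] [IsLocalRing E] [Algebra A E]
    (hE : EGA4loc.IsEssentiallyEtale A E) (φ : E →ₐ[A] S) : φ.toRingHom.FaithfullyFlat := by
  letI : Algebra E S := φ.toRingHom.toAlgebra
  have : IsScalarTower A E S := IsScalarTower.of_algHom φ
  have := EssEt14.formallyEtale hE
  have := EssEt14.essFiniteType hE
  have : Module.Flat E S := Hensel20.flat_of_formallyUnramified A E S
  have : IsLocalHom (algebraMap E S) := EssEt14.isLocalHom_algHom hE φ
  exact RingHom.faithfullyFlat_algebraMap_iff.2 Module.FaithfullyFlat.of_flat_of_isLocalHom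

theorem injective_algHom {E : Type u} [CommRing E] [IsLocalRing E] [Algebra A E]
    (hE : EGA4loc.IsEssentiallyEtale A E) (φ : E →ₐ[A] S) : Function.Injective φ := by
  letI : Algebra E S := φ.toRingHom.toAlgebra
  have : Module.FaithfullyFlat E S := RingHom.faithfullyFlat_algebraMap_iff.1 (faithfullyFlat_algHom hE φ)
  exact FaithfulSMul.algebraMap_injective E S

/-- The image of a local essentially etale algebra. -/
theorem range_spec {E : Type u} [CommRing E] [IsLocalRing E] [Algebra A E]
    (hE : EGA4loc.IsEssentiallyEtale A E) (φ : E →ₐ[A] S) :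
    ∃ _ : IsLocalRing φ.range, EGA4loc.IsEssentiallyEtale A φ.range := by
  let e := AlgEquiv.ofInjective φ (injective_algHom hE φ)
  exact ⟨e.toRingEquiv.isLocalRing, of_algEquiv hE e⟩

section Stage

variable (E : Subalgebra A S) [IsLocalRing E]

theorem isLocalHom (hE : EGA4loc.IsEssentiallyEtale A E) : IsLocalHom (algebraMap E S) :=
  EssEt14.isLocalHom_algHom hE E.val

theorem faithfullyFlat (hE : EGA4loc.IsEssentiallyEtale A E) : Module.FaithfullyFlat E S :=
  RingHom.faithfullyFlat_algebraMap_iff.1 (faithfullyFlat_algHom hE E.val)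

variable {E}

theorem mem_of_mul_mem (hE : EGA4loc.IsEssentiallyEtale A E) {c x : S} (hc : c ∈ E) (hcx : c * x ∈ E)
    (hreg : c ∈ nonZeroDivisors S) : x ∈ E := by
  have := faithfullyFlat E hE
  have h : (⟨c * x, hcx⟩ : E) ∈ ((Ideal.span {(⟨c, hc⟩ : E)}).map (algebraMap E S)).comap (algebraMap E S) := by
    rw [Ideal.mem_comap, Ideal.map_span, Set.image_singleton]
    exact Ideal.mem_span_singleton.2 ⟨x, rfl⟩
  rw [Ideal.comap_map_eq_self_of_faithfullyFlat] at h
  obtain ⟨y, hy⟩ := Ideal.mem_span_singleton.1 h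
  have h2 : c * x = c * (y : S) := congrArg Subtype.val hy
  exact (mul_cancel_left_mem_nonZeroDivisors hreg).1 h2 ▸ y.2

theorem mem_of_isUnit (hE : EGA4loc.IsEssentiallyEtale A E) {c : S} (hc : c ∈ E) (hu : IsUnit c) {x : S}
    (hcx : c * x ∈ E) : x ∈ E :=
  mem_of_mul_mem hE hc hcx hu.mem_nonZeroDivisors

end Stage

/-- Finitely many elements of a strict henselization lie in a local essentially etale subalgebra. -/
theorem exists_stage (s : Finset S) :
    ∃ E : Subalgebra A S, (s : Set S) ⊆ (E : Set S) ∧ ∃ _ : IsLocalRing E, EGA4loc.IsEssentiallyEtale A E := by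
  let K := SeparableClosure (ResidueField A)
  let e := Henz21.strictHenselizationEquiv (R := A) S
  obtain ⟨i, hi⟩ := Hensel20.exists_stage (R := A) (K := K) s fun x => e.symm x
  have hE : EGA4loc.IsEssentiallyEtale A (Hensel20.Stage i) :=
    ⟨i.S, inferInstance, inferInstance, Hensel20.stagePrime i, inferInstance, inferInstance,
      Hensel20.stagePrime_comap i, ⟨AlgEquiv.refl⟩⟩
  let φ : Hensel20.Stage i →ₐ[A] S := e.toAlgHom.comp (Hensel20.stageHom i)
  refine ⟨φ.range, fun x hx => ?_, range_spec hE φ⟩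
  obtain ⟨y, hy⟩ := hi x hx
  exact ⟨y, by simp [φ, hy]⟩

theorem exists_stage_of_essFiniteType (D : Subalgebra A S) [Algebra.EssFiniteType A D] (t : Finset S) :
    ∃ E : Subalgebra A S, D ≤ E ∧ (t : Set S) ⊆ (E : Set S) ∧
      ∃ _ : IsLocalRing E, EGA4loc.IsEssentiallyEtale A E := by
  classical
  obtain ⟨σ, hσ⟩ := (Algebra.essFiniteType_iff A D).1 inferInstance
  obtain ⟨E, hsE, hloc, hE⟩ := exists_stage (A := A) (σ.image D.val ∪ t)
  rw [Finset.coe_union, Set.union_subset_iff, Finset.coe_image] at hsE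
  refine ⟨E, fun d hd => ?_, hsE.2, hloc, hE⟩
  have hle : (Algebra.adjoin A (σ : Set D)).map D.val ≤ E := by
    rw [AlgHom.map_adjoin, Algebra.adjoin_le_iff]
    exact hsE.1
  obtain ⟨u, hu, huu, hdu⟩ := hσ ⟨d, hd⟩
  refine mem_of_isUnit hE (hle ⟨u, hu, rfl⟩) (huu.map D.val) ?_
  rw [mul_comm]
  exact hle ⟨_, hdu, rfl⟩

end Groth.Agent.SubSh14
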