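import Mathlib
import Groth.Agent.SubSh14.Basic

/-!
Dominated unramified subalgebras of a strict henselization are essentially etale.
-/

set_option autoImplicit false

open IsLocalRing

namespace Groth.Agent.SubSh14

universe u

variable {A S : Type u} [CommRing A] [IsLocalRing A] [CommRing S] [IsLocalRing S] [Algebra A S]
  [IsLocalHom (algebraMap A S)] [Hensel.IsStrictHenselization A S]

omit [IsLocalHom (algebraMap A S)] [Hensel.IsStrictHenselization A S] in
theorem isLocalHom_base [IsLocalHom (algebraMap A S)] (D : Subalgebra A S) [IsLocalRing D] :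
    IsLocalHom (algebraMap A D) := ⟨fun a ha => isUnit_of_map_unit (algebraMap A S) a (ha.map D.val)⟩

theorem isSeparable_residueField (D : Subalgebra A S) [IsLocalRing D] [IsLocalHom (algebraMap D S)]
    [IsLocalHom (algebraMap A D)] : Algebra.IsSeparable (ResidueField A) (ResidueField D) := by
  have : IsSepClosure (ResidueField A) (ResidueField S) := Hensel.IsStrictHenselization.isSepClosure
  let ψ : ResidueField D →ₐ[ResidueField A] ResidueField S :=
    { ResidueField.map (algebraMap D S) with
      commutes' := fun x => by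
        obtain ⟨a, rfl⟩ := residue_surjective x
        rfl }
  exact Algebra.IsSeparable.of_algHom (ResidueField A) (ResidueField S) ψ

theorem formallyUnramified_of_map_eq (D : Subalgebra A S) [IsLocalRing D] [IsLocalHom (algebraMap D S)]
    [Algebra.EssFiniteType A D] (hm : (maximalIdeal A).map (algebraMap A D) = maximalIdeal D) :
    Algebra.FormallyUnramified A D :=
  have := isLocalHom_base D
  have := isSeparable_residueField D
  Algebra.FormallyUnramified.of_map_maximalIdeal hm

theorem essEtale_of_formallyUnramified (D : Subalgebra A S) [IsLocalRing D] [IsLocalHom (algebraMap D S)]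
    [Algebra.EssFiniteType A D] [Algebra.FormallyUnramified A D] : EGA4loc.IsEssentiallyEtale A D := by
  let C := Algebra.EssFiniteType.subalgebra A D
  let Q : Ideal C := (maximalIdeal D).comap (algebraMap C D)
  have hM : Algebra.EssFiniteType.submonoid A D = Q.primeCompl := by
    ext c
    simp only [Algebra.EssFiniteType.submonoid, Submonoid.mem_comap, IsUnit.mem_submonoid_iff,
      Ideal.mem_primeCompl_iff, Q, Ideal.mem_comap, mem_maximalIdeal, mem_nonunits_iff, not_not]
    rfl
  have : IsLocalization Q.primeCompl D := hM ▸ (inferInstance : IsLocalization (Algebra.EssFiniteType.submonoid A D) D)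
  have : Algebra.IsUnramifiedAt A Q :=
    Algebra.FormallyUnramified.of_equiv ((IsLocalization.algEquiv Q.primeCompl D (Localization.AtPrime Q)).restrictScalars A)
  obtain ⟨f, hf, P, φ, hφ⟩ := Algebra.IsUnramifiedAt.exists_hasStandardEtaleSurjectionOn (R := A) Q
  let ι : Localization.Away f →ₐ[A] D :=
    (IsLocalization.liftAlgHom (M := Submonoid.powers f) (f := IsScalarTower.toAlgHom C C D)
      (fun y => by
        obtain ⟨n, hn⟩ := y.2
        exact IsLocalization.map_units (M := Q.primeCompl) D
          ⟨y, hn ▸ fun h => hf ((inferInstance : Q.IsPrime).mem_of_pow_mem n h)⟩)).restrictScalars A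
  let g : P.Ring →ₐ[A] D := ι.comp φ
  let q : Ideal P.Ring := (maximalIdeal D).comap g.toRingHom
  have : q.IsPrime := Ideal.comap_isPrime _ _
  have hunit : ∀ y : q.primeCompl, IsUnit (g y) := fun y => notMem_maximalIdeal.1 y.2
  let g' : Localization.AtPrime q →ₐ[A] D := IsLocalization.liftAlgHom (M := q.primeCompl) (f := g) hunit
  have hg' : ∀ y, g' (algebraMap _ _ y) = g y := fun y => IsLocalization.lift_eq _ y
  have hlA := isLocalHom_base D
  have hq : q.comap (algebraMap A P.Ring) = maximalIdeal A := by
    change ((maximalIdeal D).comap g.toRingHom).comap _ = _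
    rw [Ideal.comap_comap, AlgHom.toRingHom_eq_coe, AlgHom.comp_algebraMap]
    exact ((local_hom_TFAE (algebraMap A D)).out 0 4).1 hlA
  have hE : EGA4loc.IsEssentiallyEtale A (Localization.AtPrime q) :=
    ⟨P.Ring, inferInstance, inferInstance, q, inferInstance, inferInstance, hq, ⟨AlgEquiv.refl⟩⟩
  have hinj : Function.Injective g' := .of_comp (f := D.val) (injective_algHom hE (D.val.comp g'))
  have himg : ∀ c : C, ∃ y, g y = algebraMap C D c := fun c => by
    obtain ⟨y, hy⟩ := hφ (algebraMap C _ c)
    refine ⟨y, ?_⟩
    change ι (φ y) = _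
    rw [hy]
    exact IsLocalization.lift_eq _ c
  have hsurj : Function.Surjective g' := fun d => by
    obtain ⟨⟨c, s⟩, hcs⟩ := IsLocalization.surj Q.primeCompl d
    obtain ⟨y, hy⟩ := himg c
    obtain ⟨z, hz⟩ := himg s
    have hzq : z ∉ q := fun h => s.2 (show algebraMap C D s ∈ maximalIdeal D from hz ▸ h)
    refine ⟨IsLocalization.mk' _ y (⟨z, hzq⟩ : q.primeCompl), ?_⟩
    apply (hunit ⟨z, hzq⟩).mul_right_cancel
    rw [← hg' z, ← map_mul, IsLocalization.mk'_spec, hg', hg', hy, hz, hcs]
  exact of_algEquiv hE (AlgEquiv.ofBijective g' ⟨hinj, hsurj⟩)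

theorem essEtale_of_map_eq (D : Subalgebra A S) [IsLocalRing D] [IsLocalHom (algebraMap D S)]
    [Algebra.EssFiniteType A D] (hm : (maximalIdeal A).map (algebraMap A D) = maximalIdeal D) :
    EGA4loc.IsEssentiallyEtale A D :=
  have := formallyUnramified_of_map_eq D hm
  essEtale_of_formallyUnramified D

end Groth.Agent.SubSh14
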