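import Mathlib
import Groth.Agent.SubSh14.Unram
import Groth.Agent.Henz21.FiniteEtaleLift
import Groth.Agent.Henz21.FiniteLocal
import Groth.Agent.Hensel20.EssEtale

/-!
Galois stages of the strict henselization of a henselian local ring.
-/

set_option autoImplicit false

open IsLocalRing

namespace Groth.Agent.SubSh14

universe u

theorem exists_galois_stage {A S : Type u} [CommRing A] [HenselianLocalRing A] [IsNoetherianRing A]
    [CommRing S] [IsLocalRing S] [Algebra A S] [IsLocalHom (algebraMap A S)] [Hensel.IsStrictHenselization A S]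
    (s : Finset S) :
    ∃ E : Subalgebra A S, (s : Set S) ⊆ (E : Set S) ∧ ∃ (_ : IsLocalRing E) (_ : IsLocalHom (algebraMap A E)),
      EGA4loc.IsEssentiallyEtale A E ∧ Module.Finite A E ∧ IsGalois (ResidueField A) (ResidueField E) := by
  have hsc : IsSepClosure (ResidueField A) (ResidueField S) := Hensel.IsStrictHenselization.isSepClosure
  have : IsGalois (ResidueField A) (ResidueField S) := IsSepClosure.isGalois
  obtain ⟨E₀, hsE₀, _, hE₀⟩ := exists_stage (A := A) s
  have := isLocalHom E₀ hE₀
  have := EssEt14.isLocalHom hE₀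
  have := EssEt14.formallyEtale hE₀
  have := EssEt14.essFiniteType hE₀
  have : Module.Finite (ResidueField A) (ResidueField E₀) := Algebra.FormallyUnramified.finite_of_free _ _
  let ψ₀ : ResidueField E₀ →ₐ[ResidueField A] ResidueField S :=
    { ResidueField.map (algebraMap E₀ S) with
      commutes' := fun x => by
        obtain ⟨a, rfl⟩ := residue_surjective x
        rfl }
  let l₀ : IntermediateField (ResidueField A) (ResidueField S) := ψ₀.fieldRange
  have : FiniteDimensional (ResidueField A) l₀ :=
    Module.Finite.equiv (AlgEquiv.ofInjectiveField ψ₀).toLinearEquiv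
  let l := IntermediateField.normalClosure (ResidueField A) l₀ (ResidueField S)
  have : IsGalois (ResidueField A) l := IsGalois.normalClosure (ResidueField A) l₀ (ResidueField S)
  have hl₀l : l₀ ≤ l := IntermediateField.le_normalClosure l₀
  obtain ⟨R, _, _, _, _, hRfin, hRet, ⟨eR⟩⟩ := Henz21.exists_finite_etale_local_lift (A := A) l
  have := hRet
  have := hRfin
  have hR : EGA4loc.IsEssentiallyEtale A R := by
    have : IsLocalization (maximalIdeal R).primeCompl R :=
      IsLocalization.self fun x hx => notMem_maximalIdeal.1 hx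
    exact ⟨R, inferInstance, inferInstance, maximalIdeal R, inferInstance, hRet,
      ((local_hom_TFAE (algebraMap A R)).out 0 4).1 ‹_›,
      ⟨((IsLocalization.algEquiv (maximalIdeal R).primeCompl R _).restrictScalars A)⟩⟩
  have hhS : HenselianLocalRing S := Hensel.IsStrictHenselization.henselian (R := A)
  let α : R →ₐ[A] ResidueField S :=
    ((l.val.comp eR.toAlgHom).restrictScalars A).comp (IsScalarTower.toAlgHom A R (ResidueField R))
  obtain ⟨φ, hφ⟩ := Hensel20.essEtale_lift hR α
  obtain ⟨hloc, hE⟩ := range_spec hR φ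
  let e := AlgEquiv.ofInjective φ (injective_algHom hR φ)
  have : Module.Finite A φ.range := Module.Finite.equiv e.toLinearEquiv
  have : IsLocalHom (algebraMap A φ.range) := EssEt14.isLocalHom hE
  have : Algebra.IsIntegral A φ.range := inferInstance
  have hhE : HenselianLocalRing φ.range := Henz21.henselianLocalRing_of_isIntegral (A := A)
  have := isLocalHom φ.range hE
  let ψ : ResidueField φ.range →ₐ[ResidueField A] ResidueField S :=
    { ResidueField.map (algebraMap φ.range S) with
      commutes' := fun x => by
        obtain ⟨a, rfl⟩ := residue_surjective x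
        rfl }
  have hψ : ψ.fieldRange = l := by
    ext y
    constructor
    · rintro ⟨x, rfl⟩
      obtain ⟨⟨x, r, rfl⟩, rfl⟩ := residue_surjective x
      change residue S (φ r) ∈ l
      rw [hφ]
      exact (eR (residue R r)).2
    · intro hy
      obtain ⟨z, hz⟩ := eR.surjective ⟨y, hy⟩
      obtain ⟨r, rfl⟩ := residue_surjective z
      refine ⟨residue _ ⟨φ r, r, rfl⟩, ?_⟩
      change residue S (φ r) = y
      rw [hφ]
      exact congrArg Subtype.val hz
  have hψ' : (l : Set (ResidueField S)) = Set.range ψ := by rw [← hψ]; rfl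
  have hgal : IsGalois (ResidueField A) (ResidueField φ.range) :=
    IsGalois.of_algEquiv ((AlgEquiv.ofInjectiveField ψ).trans (IntermediateField.equivOfEq hψ)).symm
  refine ⟨φ.range, ?_, hloc, inferInstance, hE, inferInstance, hgal⟩
  suffices hle : E₀ ≤ φ.range from hsE₀.trans hle
  let β : E₀ →ₐ[A] ResidueField S := (IsScalarTower.toAlgHom A S (ResidueField S)).comp E₀.val
  let ψA := ψ.restrictScalars A
  have hβ : ∀ x, β x ∈ ψA.range := fun x => by
    have : β x ∈ l := hl₀l ⟨residue _ x, rfl⟩
    rw [← SetLike.mem_coe, hψ'] at this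
    exact this
  let β' : E₀ →ₐ[A] ResidueField φ.range :=
    (AlgEquiv.ofInjective ψA (show Function.Injective ψA from ψ.toRingHom.injective)).symm.toAlgHom.comp
      (β.codRestrict ψA.range hβ)
  have hβ' : ∀ x, ψ (β' x) = residue S (x : S) := fun x => by
    change ψA _ = _
    exact congrArg Subtype.val ((AlgEquiv.ofInjective ψA (show Function.Injective ψA from ψ.toRingHom.injective)).apply_symm_apply ⟨β x, hβ x⟩)
  obtain ⟨χ, hχ⟩ := Hensel20.essEtale_lift hE₀ β'
  have heq : φ.range.val.comp χ = E₀.val := by
    refine Hensel20.essEtale_hom_ext hE₀ _ _ fun x => ?_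
    change residue S (χ x : S) = residue S (x : S)
    rw [← hβ' x, ← hχ x]
    rfl
  intro x hx
  have := AlgHom.congr_fun heq ⟨x, hx⟩
  change (χ ⟨x, hx⟩ : S) = x at this
  rw [← this]
  exact (χ ⟨x, hx⟩).2

end Groth.Agent.SubSh14
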