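import Mathlib
import Groth.Agent.SubSh14.Basic
import Groth.Agent.Hensel20.EssEtale
import Groth.Agent.Hensel20.Local

/-!
Subfields of the fraction field of a Galois stage of a henselian local domain.
-/

set_option autoImplicit false

open IsLocalRing Polynomial
open scoped TensorProduct nonZeroDivisors

namespace Groth.Agent.SubSh14

universe u

theorem eq_of_isRoot_of_residue_eq {R : Type u} [CommRing R] [IsLocalRing R] (G : R[X]) {a b : R}
    (ha : G.eval a = 0) (hb : G.eval b = 0) (hab : residue R a = residue R b)
    (hd : IsUnit (G.derivative.eval a)) : a = b := by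
  obtain ⟨c, hc⟩ := binomExpansion G a (b - a)
  rw [add_sub_cancel, ha, hb, zero_add] at hc
  have h2 : (G.derivative.eval a + c * (b - a)) * (b - a) = 0 := by rw [hc]; ring
  have hu : IsUnit (G.derivative.eval a + c * (b - a)) := by
    rw [← residue_ne_zero_iff_isUnit, map_add, map_mul, map_sub, hab, sub_self, mul_zero, add_zero]
    exact (residue_ne_zero_iff_isUnit _).2 hd
  exact (sub_eq_zero.1 (hu.mul_right_eq_zero.1 h2)).symm

variable {A : Type u} [CommRing A] [IsLocalRing A] {E : Type u} [CommRing E] [IsLocalRing E] [Algebra A E]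
  [IsLocalHom (algebraMap A E)] [Module.Finite A E]

/-- Lifts of independent residues are independent. -/
theorem linearIndependent_lift [Module.Flat A E] {ι : Type u} (v : ι → E)
    (hv : LinearIndependent (ResidueField A) fun i => residue E (v i)) : LinearIndependent A v := by
  refine Module.IsLocalRing.linearIndependent_of_flat v ?_
  let f : ResidueField A ⊗[A] E →ₗ[ResidueField A] ResidueField E :=
    TensorProduct.AlgebraTensorModule.lift
      (LinearMap.toSpanSingleton (ResidueField A) _ ((IsScalarTower.toAlgHom A E (ResidueField E)).toLinearMap))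
  refine LinearIndependent.of_comp f ?_
  convert! hv using 1
  funext i
  simp [f]

/-- Lifts of spanning residues span. -/
theorem span_lift [IsNoetherianRing A] {ι : Type u} (v : ι → E)
    (hm : (maximalIdeal A).map (algebraMap A E) = maximalIdeal E)
    (hv : Submodule.span (ResidueField A) (Set.range fun i => residue E (v i)) = ⊤) :
    Submodule.span A (Set.range v) = ⊤ := by
  refine top_le_iff.1 (Submodule.le_of_le_smul_of_le_jacobson_bot (I := maximalIdeal A) Module.Finite.fg_top
    (maximalIdeal_le_jacobson _) fun x _ => ?_)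
  let f : E →ₗ[A] ResidueField E := (IsScalarTower.toAlgHom A E (ResidueField E)).toLinearMap
  have h1 : residue E x ∈ (Submodule.span A (Set.range v)).map f := by
    rw [Submodule.map_span, ← Set.range_comp]
    have h2 : residue E x ∈ (Submodule.span (ResidueField A) (Set.range fun i => residue E (v i))).restrictScalars A := by
      rw [hv]; trivial
    rwa [Submodule.restrictScalars_span A (ResidueField A) residue_surjective] at h2
  obtain ⟨y, hy, hyx⟩ := h1
  have hxy : x - y ∈ maximalIdeal E := by
    rw [← residue_eq_zero_iff, map_sub]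
    exact sub_eq_zero.2 hyx.symm
  rw [← hm, ← Submodule.restrictScalars_mem A, ← Ideal.smul_top_eq_map] at hxy
  exact add_sub_cancel y x ▸ Submodule.add_mem_sup hy hxy

theorem sumExtend_inl {K V ι : Type*} [DivisionRing K] [AddCommGroup V] [Module K V] {v : ι → V}
    (hs : LinearIndependent K v) : (Module.Basis.sumExtend hs) ∘ Sum.inl = v := by
  funext i
  simp [Module.Basis.sumExtend]
  rfl

variable [IsDomain A] [IsNoetherianRing A] [IsDomain E] [Module.Flat A E] [Algebra (FractionRing A) (FractionRing E)]
  [IsScalarTower A (FractionRing A) (FractionRing E)]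

omit [IsNoetherianRing A] [Module.Flat A E] in
theorem linearIndependent_lift_fractionRing [Module.Flat A E] {ι : Type u} (v : ι → E)
    (hv : LinearIndependent (ResidueField A) fun i => residue E (v i)) :
    LinearIndependent (FractionRing A) fun i => algebraMap E (FractionRing E) (v i) := by
  refine LinearIndependent.localization (R := A) (FractionRing A) A⁰ ?_
  exact (linearIndependent_lift v hv).map' (IsScalarTower.toAlgHom A E (FractionRing E)).toLinearMap
    (LinearMap.ker_eq_bot.2 (IsFractionRing.injective E (FractionRing E)))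

theorem exists_clear (x : FractionRing E) :
    ∃ a : A, a ≠ 0 ∧ ∃ y : E, algebraMap A (FractionRing E) a * x = algebraMap E (FractionRing E) y := by
  obtain ⟨⟨y, b⟩, hb⟩ := IsLocalization.surj E⁰ x
  have hb0 : (b : E) ≠ 0 := nonZeroDivisors.coe_ne_zero b
  have := Ideal.comap_ne_bot_of_integral_mem (R := A) (I := Ideal.span {(b : E)}) hb0
    (Ideal.mem_span_singleton_self _) (Algebra.IsIntegral.isIntegral _)
  obtain ⟨a, ha, ha0⟩ := Submodule.exists_mem_ne_zero_of_ne_bot this
  obtain ⟨w, hw⟩ := Ideal.mem_span_singleton.1 ha
  refine ⟨a, ha0, y * w, ?_⟩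
  rw [IsScalarTower.algebraMap_apply A E (FractionRing E), hw, map_mul, map_mul, ← hb]
  ring

theorem finrank_fractionRing (hm : (maximalIdeal A).map (algebraMap A E) = maximalIdeal E)
    [Module.Finite (ResidueField A) (ResidueField E)] :
    FiniteDimensional (FractionRing A) (FractionRing E) ∧
      Module.finrank (FractionRing A) (FractionRing E) = Module.finrank (ResidueField A) (ResidueField E) := by
  let K := FractionRing A
  let F := FractionRing E
  let k := ResidueField A
  let lE := ResidueField E
  -- the fraction field is spanned by lifts of a basis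
  let b := Module.Free.chooseBasis k lE
  choose v hv using fun i => residue_surjective (b i)
  have hbspan : Submodule.span A (Set.range v) = ⊤ := span_lift v hm (by
    rw [show (fun i => residue E (v i)) = b from funext hv]; exact b.span_eq)
  have hFspan : Submodule.span K (Set.range fun i => algebraMap E F (v i)) = ⊤ := by
    refine eq_top_iff.2 fun x _ => ?_
    obtain ⟨a, ha, y, hy⟩ := exists_clear (A := A) x
    have hy' : algebraMap E F y ∈ Submodule.span K (Set.range fun i => algebraMap E F (v i)) := by
      have h := Submodule.apply_mem_span_image_of_mem_span (IsScalarTower.toAlgHom A E F).toLinearMap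
        (hbspan ▸ Submodule.mem_top : y ∈ Submodule.span A (Set.range v))
      rw [← Set.range_comp] at h
      exact Submodule.span_le_restrictScalars A K _ h
    rw [← hy, ← Algebra.smul_def, ← algebraMap_smul K a x] at hy'
    exact (Submodule.smul_mem_iff _ (fun h => ha (IsFractionRing.injective A K (by rw [h, map_zero])))).1 hy'
  have : FiniteDimensional K F := Module.Finite.of_basis (Module.Basis.mk (linearIndependent_lift_fractionRing v (by
    rw [show (fun i => residue E (v i)) = b from funext hv]; exact b.linearIndependent)) hFspan.ge)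
  have hrank : Module.finrank K F = Module.finrank k lE := by
    rw [Module.finrank_eq_card_basis (Module.Basis.mk (linearIndependent_lift_fractionRing v (by
      rw [show (fun i => residue E (v i)) = b from funext hv]; exact b.linearIndependent)) hFspan.ge),
      Module.finrank_eq_card_basis b]
  exact ⟨inferInstance, hrank⟩

/-- The residual Galois group acts on the fraction field. -/
theorem exists_galois_action [Algebra.FormallyUnramified A E] [Algebra.EssFiniteType A E] [HenselianRing E (maximalIdeal E)]
    (hE : EGA4loc.IsEssentiallyEtale A E) [IsGalois (ResidueField A) (ResidueField E)]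
    [Module.Finite (ResidueField A) (ResidueField E)] [FiniteDimensional (FractionRing A) (FractionRing E)]
    (hrank : Module.finrank (FractionRing A) (FractionRing E) = Module.finrank (ResidueField A) (ResidueField E)) :
    IsGalois (FractionRing A) (FractionRing E) ∧
      ∃ Φ : Gal(ResidueField E/ResidueField A) →* Gal(FractionRing E/FractionRing A), Function.Bijective Φ ∧
        ∀ σ, ∃ ψ : E →ₐ[A] E, (∀ x, residue E (ψ x) = σ (residue E x)) ∧
          ∀ x, Φ σ (algebraMap E (FractionRing E) x) = algebraMap E (FractionRing E) (ψ x) := by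
  let hh : HenselianLocalRing E := Hensel20.henselianLocalRing_of_henselianRing E
  let K := FractionRing A
  let F := FractionRing E
  let k := ResidueField A
  let lE := ResidueField E
  have hinjE := IsFractionRing.injective E (FractionRing E)
  -- the Galois group acts
  let α : Gal(lE/k) → E →ₐ[A] lE := fun σ => (σ.toAlgHom.restrictScalars A).comp (IsScalarTower.toAlgHom A E lE)
  choose ψ hψ using fun σ => Hensel20.essEtale_lift hE (α σ)
  have hψ' : ∀ σ x, residue E (ψ σ x) = σ (residue E x) := hψ
  have hcomp : ∀ σ τ, (ψ σ).comp (ψ τ) = ψ (σ * τ) := fun σ τ =>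
    Hensel20.essEtale_hom_ext hE _ _ fun x => by rw [AlgHom.comp_apply, hψ', hψ', hψ']; rfl
  have hone : ψ 1 = AlgHom.id A E := Hensel20.essEtale_hom_ext hE _ _ fun x => by rw [hψ']; rfl
  let ψe : Gal(lE/k) → (E ≃ₐ[A] E) := fun σ => AlgEquiv.ofAlgHom (ψ σ) (ψ σ⁻¹)
    (by rw [hcomp, mul_inv_cancel, hone]) (by rw [hcomp, inv_mul_cancel, hone])
  let Φ₀ : Gal(lE/k) → Gal(F/K) := fun σ => IsFractionRing.fieldEquivOfAlgEquiv K F F (ψe σ)
  have hΦ₀ : ∀ σ x, Φ₀ σ (algebraMap E F x) = algebraMap E F (ψ σ x) := fun σ x =>
    IsFractionRing.ringEquivOfRingEquiv_algebraMap _ x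
  have hΦext : ∀ u w : Gal(F/K), (∀ x, u (algebraMap E F x) = w (algebraMap E F x)) → u = w := fun u w h => by
    ext z
    exact RingHom.congr_fun (IsLocalization.ringHom_ext E⁰ (j := (u : F →+* F)) (k := (w : F →+* F))
      (RingHom.ext h)) z
  let Φ : Gal(lE/k) →* Gal(F/K) := MonoidHom.mk' Φ₀ fun σ τ => hΦext _ _ fun x => by
    change Φ₀ (σ * τ) _ = Φ₀ σ (Φ₀ τ _)
    rw [hΦ₀, hΦ₀, hΦ₀, ← hcomp]
    rfl
  have hΦinj : Function.Injective Φ := fun σ τ h => AlgEquiv.ext fun y => by
    obtain ⟨x, rfl⟩ := residue_surjective y
    have h1 : Φ₀ σ (algebraMap E F x) = Φ₀ τ (algebraMap E F x) := congrArg (fun u : Gal(F/K) => u (algebraMap E F x)) h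
    rw [hΦ₀, hΦ₀] at h1
    rw [← hψ', ← hψ', hinjE h1]
  have hcard : Nat.card Gal(F/K) = Module.finrank K F := by
    refine le_antisymm ?_ ?_
    · rw [Nat.card_eq_fintype_card]; exact AlgEquiv.card_le
    · rw [hrank, ← IsGalois.card_aut_eq_finrank]
      exact Nat.card_le_card_of_injective Φ hΦinj
  have : IsGalois K F := IsGalois.of_card_aut_eq_finrank _ _ hcard
  have hΦbij : Function.Bijective Φ := (Nat.bijective_iff_injective_and_card Φ).2
    ⟨hΦinj, by rw [IsGalois.card_aut_eq_finrank, IsGalois.card_aut_eq_finrank, hrank]⟩
  exact ⟨this, Φ, hΦbij, fun σ => ⟨ψ σ, hψ' σ, hΦ₀ σ⟩⟩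

/-- A subfield is generated by one integral element with separable residue. -/
theorem exists_root_mem [HenselianRing E (maximalIdeal E)] [IsGalois (ResidueField A) (ResidueField E)]
    [Module.Finite (ResidueField A) (ResidueField E)] [FiniteDimensional (FractionRing A) (FractionRing E)]
    [IsGalois (FractionRing A) (FractionRing E)]
    (hrank : Module.finrank (FractionRing A) (FractionRing E) = Module.finrank (ResidueField A) (ResidueField E))
    (Φ : Gal(ResidueField E/ResidueField A) →* Gal(FractionRing E/FractionRing A)) (hΦbij : Function.Bijective Φ)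
    (hΦ : ∀ σ, ∃ ψ : E →ₐ[A] E, (∀ x, residue E (ψ x) = σ (residue E x)) ∧
          ∀ x, Φ σ (algebraMap E (FractionRing E) x) = algebraMap E (FractionRing E) (ψ x))
    (LK : IntermediateField (FractionRing A) (FractionRing E)) :
    ∃ (d : ℕ) (e : E), algebraMap E (FractionRing E) e ∈ LK ∧ Module.finrank (FractionRing A) LK = d ∧
      LinearIndependent (ResidueField A) fun i : Fin d => residue E (e ^ (i : ℕ)) := by
  choose ψ hψ' hΦ₀ using hΦ
  let hh : HenselianLocalRing E := Hensel20.henselianLocalRing_of_henselianRing E
  let K := FractionRing A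
  let F := FractionRing E
  let k := ResidueField A
  let lE := ResidueField E
  let H : Subgroup Gal(lE/k) := (IntermediateField.fixingSubgroup LK).comap Φ
  let lfix : IntermediateField k lE := IntermediateField.fixedField H
  obtain ⟨θ₀, hθ₀⟩ := Field.exists_primitive_element k lfix
  let θ : lE := θ₀
  have hθ : IntermediateField.adjoin k {θ} = lfix := by
    have h := congrArg (IntermediateField.map lfix.val) hθ₀
    rw [IntermediateField.adjoin_map, Set.image_singleton, ← AlgHom.fieldRange_eq_map,
      IntermediateField.fieldRange_val] at h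
    exact h
  let d := (minpoly k θ).natDegree
  have hint : IsIntegral k θ := Algebra.IsIntegral.isIntegral θ
  have hd : Module.finrank k lfix = d := by rw [← hθ]; exact IntermediateField.adjoin.finrank hint
  obtain ⟨G, hG, -, hGm⟩ := Polynomial.lifts_and_natDegree_eq_and_monic
    (Polynomial.map_surjective (residue A) residue_surjective (minpoly k θ)) (minpoly.monic hint)
  let GE := G.map (algebraMap A E)
  have hres : GE.map (residue E) = (minpoly k θ).map (algebraMap k lE) := by
    rw [← hG, Polynomial.map_map, Polynomial.map_map]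
    congr 1
  obtain ⟨θ', hθ'⟩ := residue_surjective (R := E) θ
  have hev : ∀ x, residue E (GE.eval x) = aeval (residue E x) (minpoly k θ) := fun x => by
    rw [← Polynomial.eval_map_apply, hres, Polynomial.eval_map_algebraMap]
  have hev' : ∀ x, residue E (GE.derivative.eval x) = aeval (residue E x) (minpoly k θ).derivative := fun x => by
    rw [← Polynomial.eval_map_apply, ← Polynomial.derivative_map, hres, Polynomial.derivative_map,
      Polynomial.eval_map_algebraMap]
  have hder : ∀ x, residue E x = θ → IsUnit (GE.derivative.eval x) := fun x hx => by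
    rw [← residue_ne_zero_iff_isUnit, hev', hx]
    exact (Algebra.IsSeparable.isSeparable k θ).aeval_derivative_ne_zero (minpoly.aeval k θ)
  obtain ⟨e, he, heθ⟩ := hh.is_henselian GE (hGm.map _) θ'
    (by rw [← residue_eq_zero_iff, hev, hθ', minpoly.aeval]) (hder θ' hθ')
  have heθ' : residue E e = θ := by
    rw [← residue_eq_zero_iff, map_sub, sub_eq_zero] at heθ
    rw [heθ, hθ']
  have heL : algebraMap E F e ∈ LK := by
    rw [← IsGalois.fixedField_fixingSubgroup LK]
    intro u
    obtain ⟨σ, hσ⟩ := hΦbij.2 u.1
    have hσH : σ ∈ H := by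
      refine Subgroup.mem_comap.2 ?_
      rw [hσ]
      exact u.2
    have hσθ : σ θ = θ := θ₀.2 ⟨σ, hσH⟩
    have hfix : ψ σ e = e := by
      refine eq_of_isRoot_of_residue_eq GE ?_ he (by rw [hψ', heθ', hσθ]) (hder _ (by rw [hψ', heθ', hσθ]))
      have := congrArg (ψ σ) (show (GE.eval e) = 0 from he)
      rwa [map_zero, Polynomial.eval_map, ← Polynomial.aeval_def, ← Polynomial.aeval_algHom_apply,
        Polynomial.aeval_def, ← Polynomial.eval_map] at this
    change (u.1 : Gal(F/K)) (algebraMap E F e) = _
    rw [← hσ]
    rw [hΦ₀, hfix]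
  have hLrank : Module.finrank K LK = d := by
    have h1 := Module.finrank_mul_finrank K LK F
    have h2 := Module.finrank_mul_finrank k lfix lE
    have h3 : Nat.card H = Nat.card (IntermediateField.fixingSubgroup LK) :=
      Nat.card_congr
        { toFun := fun σ => ⟨Φ σ.1, σ.2⟩
          invFun := fun u => ⟨(MulEquiv.ofBijective Φ hΦbij).symm u.1, by
            refine Subgroup.mem_comap.2 ?_
            rw [show Φ ((MulEquiv.ofBijective Φ hΦbij).symm u.1) = u.1 from (MulEquiv.ofBijective Φ hΦbij).apply_symm_apply u.1]
            exact u.2⟩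
          left_inv := fun σ => Subtype.ext ((MulEquiv.ofBijective Φ hΦbij).symm_apply_apply σ.1)
          right_inv := fun u => Subtype.ext ((MulEquiv.ofBijective Φ hΦbij).apply_symm_apply u.1) }
    rw [IntermediateField.finrank_fixedField_eq_card H, h3, IsGalois.card_fixingSubgroup_eq_finrank, hd,
      ← hrank, ← h1] at h2
    exact (Nat.eq_of_mul_eq_mul_right Module.finrank_pos h2).symm
  refine ⟨d, e, heL, hLrank, ?_⟩
  simpa [heθ'] using linearIndependent_pow (K := k) θ

/-- Coordinates with respect to powers with independent residues. -/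
theorem exists_coords (hm : (maximalIdeal A).map (algebraMap A E) = maximalIdeal E) {d : ℕ} (pw : Fin d → E)
    (hpwres : LinearIndependent (ResidueField A) fun i => residue E (pw i)) {x : E} {a : A} (ha0 : a ≠ 0)
    (r : Fin d → A) (h1 : a • x = ∑ i, r i • pw i) : ∃ c : Fin d → A, x = ∑ i, c i • pw i := by
  classical
  let k := ResidueField A
  let sx := Module.Basis.sumExtend hpwres
  choose v' hv' using fun i => residue_surjective (sx (Sum.inr i))
  let w : Fin d ⊕ Module.Basis.sumExtendIndex hpwres → E := Sum.elim pw v'
  have hwres : (fun i => residue E (w i)) = sx := by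
    funext i
    cases i with
    | inl i => exact (congrFun (sumExtend_inl hpwres) i).symm
    | inr i => exact hv' i
  have hwli : LinearIndependent A w := by
    have := linearIndependent_lift (A := A) (fun i : ULift.{u} (Fin d ⊕ Module.Basis.sumExtendIndex hpwres) => w i.down)
      ((hwres.symm ▸ sx.linearIndependent : LinearIndependent k fun i => residue E (w i)).comp ULift.down ULift.down_injective)
    exact this.comp ULift.up ULift.up_injective
  have hwspan : Submodule.span A (Set.range w) = ⊤ := by
    have := span_lift (A := A) (fun i : ULift.{u} (Fin d ⊕ Module.Basis.sumExtendIndex hpwres) => w i.down) hm (by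
      rw [show (fun i : ULift.{u} (Fin d ⊕ Module.Basis.sumExtendIndex hpwres) => residue E (w i.down)) = sx ∘ ULift.down from
        funext fun i => congrFun hwres i.down, ULift.down_surjective.range_comp]
      exact sx.span_eq)
    rwa [show (fun i : ULift.{u} (Fin d ⊕ Module.Basis.sumExtendIndex hpwres) => w i.down) = w ∘ ULift.down from rfl,
      ULift.down_surjective.range_comp] at this
  let wb := Module.Basis.mk hwli hwspan.ge
  refine ⟨fun i => wb.repr x (Sum.inl i), wb.repr.injective (Finsupp.ext fun j => ?_)⟩
  have hwb : ∀ i, wb.repr (pw i) = Finsupp.single (Sum.inl i) 1 := fun i => by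
    rw [show pw i = wb (Sum.inl i) from (Module.Basis.mk_apply hwli hwspan.ge (Sum.inl i)).symm, wb.repr_self]
  simp only [map_sum, map_smul, hwb, Finsupp.coe_finset_sum, Finset.sum_apply, Finsupp.smul_apply,
    Finsupp.single_apply, smul_eq_mul, mul_ite, mul_one, mul_zero]
  cases j with
  | inl j => simp
  | inr j =>
    have h2 := congrArg (fun y => wb.repr y (Sum.inr j)) h1
    simp [map_sum, map_smul, hwb, Finsupp.coe_finset_sum, Finset.sum_apply] at h2
    rw [h2.resolve_left ha0]; simp

omit [Module.Flat A E] [Algebra (FractionRing A) (FractionRing E)]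
  [IsScalarTower A (FractionRing A) (FractionRing E)] in
theorem exists_adjoin_eq_preimage [HenselianRing E (maximalIdeal E)] (hE : EGA4loc.IsEssentiallyEtale A E)
    [IsGalois (ResidueField A) (ResidueField E)] (L : Subfield (FractionRing E))
    (hL : ∀ a : A, algebraMap A (FractionRing E) a ∈ L) :
    ∃ e : E, (Algebra.adjoin A {e} : Set E) = (algebraMap E (FractionRing E)) ⁻¹' (L : Set (FractionRing E)) ∧
      ∀ x ∈ Algebra.adjoin A {e}, x ∈ maximalIdeal E →
        x ∈ (maximalIdeal A) • Subalgebra.toSubmodule (Algebra.adjoin A {e}) := by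
  have := flat hE
  have := EssEt14.formallyEtale hE
  have := EssEt14.essFiniteType hE
  have hm := EssEt14.map_maximalIdeal hE
  have : Module.FaithfullyFlat A E := Module.FaithfullyFlat.of_flat_of_isLocalHom
  have hinjE := IsFractionRing.injective E (FractionRing E)
  let K := FractionRing A
  let F := FractionRing E
  have : FaithfulSMul A F := (faithfulSMul_iff_algebraMap_injective A F).2 (by
    rw [IsScalarTower.algebraMap_eq A E]; exact hinjE.comp (FaithfulSMul.algebraMap_injective A E))
  letI : Algebra K F := FractionRing.liftAlgebra A F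
  have : Module.Finite (ResidueField A) (ResidueField E) := Algebra.FormallyUnramified.finite_of_free _ _
  obtain ⟨_, hrank⟩ := finrank_fractionRing (A := A) (E := E) hm
  obtain ⟨_, Φ, hΦbij, hΦ⟩ := exists_galois_action hE hrank
  let LK : IntermediateField K F := Subfield.toIntermediateField L fun c => by
    obtain ⟨a, a', -, rfl⟩ := IsFractionRing.div_surjective A c
    rw [map_div₀, ← IsScalarTower.algebraMap_apply, ← IsScalarTower.algebraMap_apply]
    exact div_mem (hL a) (hL a')
  obtain ⟨d, e, heL, hLrank, hpwres⟩ := exists_root_mem hrank Φ hΦbij hΦ LK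
  let pw : Fin d → E := fun i => e ^ (i : ℕ)
  have hpwF : LinearIndependent K fun i => algebraMap E F (pw i) :=
    (linearIndependent_lift_fractionRing (A := A) (fun i : ULift.{u} (Fin d) => pw i.down)
      (hpwres.comp ULift.down ULift.down_injective)).comp ULift.up ULift.up_injective
  have hpwL : Submodule.span K (Set.range fun i => algebraMap E F (pw i)) = Subalgebra.toSubmodule LK.toSubalgebra := by
    refine Submodule.eq_of_le_of_finrank_eq (Submodule.span_le.2 ?_) ?_
    · rintro _ ⟨i, rfl⟩
      change algebraMap E F (e ^ (i : ℕ)) ∈ LK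
      rw [map_pow]
      exact pow_mem heL _
    · rw [finrank_span_eq_card hpwF, Fintype.card_fin]
      exact hLrank.symm
  have hpwmem : ∀ i, pw i ∈ Algebra.adjoin A ({e} : Set E) := fun i =>
    show e ^ (i : ℕ) ∈ Algebra.adjoin A ({e} : Set E) from
      pow_mem (show e ∈ Algebra.adjoin A ({e} : Set E) from Algebra.subset_adjoin (Set.mem_singleton e)) (i : ℕ)
  have heL' : algebraMap E F e ∈ L := heL
  have hle : Algebra.adjoin A {e} ≤
      ({ L.toSubring.comap (algebraMap E F) with
        algebraMap_mem' := fun a => show algebraMap E F (algebraMap A E a) ∈ L from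
          (IsScalarTower.algebraMap_apply A E F a) ▸ hL a } : Subalgebra A E) :=
    Algebra.adjoin_le (Set.singleton_subset_iff.2 heL')
  have hDL : ∀ x ∈ Algebra.adjoin A {e}, algebraMap E F x ∈ LK := fun x hx => hle hx
  have hmain : ∀ x : E, algebraMap E F x ∈ LK → ∃ c : Fin d → A, x = ∑ i, c i • pw i := fun x hx => by
    have hx' : algebraMap E F x ∈ Submodule.span K (Set.range fun i => algebraMap E F (pw i)) := hpwL ▸ hx
    obtain ⟨g, hg⟩ := (Submodule.mem_span_range_iff_exists_fun K).1 hx'
    obtain ⟨a, ha⟩ := IsLocalization.exist_integer_multiples_of_finite A⁰ g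
    choose r hr using ha
    have h1 : (a : A) • x = ∑ i, r i • pw i := hinjE (by
      rw [Algebra.smul_def, map_mul, ← IsScalarTower.algebraMap_apply, ← hg, map_sum, Finset.mul_sum]
      refine Finset.sum_congr rfl fun i _ => ?_
      rw [← Algebra.smul_def, ← smul_assoc, ← hr i, algebraMap_smul, Algebra.smul_def (r i) (pw i), map_mul,
        ← IsScalarTower.algebraMap_apply, Algebra.smul_def])
    exact exists_coords hm pw hpwres (nonZeroDivisors.coe_ne_zero a) r h1
  refine ⟨e, Set.ext fun x => ⟨hDL x, fun hx => ?_⟩, fun x hx hxm => ?_⟩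
  · obtain ⟨c, rfl⟩ := hmain x hx
    exact sum_mem fun i _ => Subalgebra.smul_mem _ (hpwmem i) _
  · obtain ⟨c, rfl⟩ := hmain x (hDL x hx)
    have hc : ∀ i, residue A (c i) = 0 := by
      refine Fintype.linearIndependent_iff.1 hpwres (fun i => residue A (c i)) ?_
      rw [← residue_eq_zero_iff, map_sum] at hxm
      refine Eq.trans (Finset.sum_congr rfl fun i _ => ?_) hxm
      rw [Algebra.smul_def, Algebra.smul_def, map_mul]
      rfl
    exact sum_mem fun i _ => Submodule.smul_mem_smul ((residue_eq_zero_iff _).1 (hc i)) (hpwmem i)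

end Groth.Agent.SubSh14
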