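import Mathlib
import Groth.Agent.H98N2.Excellent
import Groth.Agent.EGA4H10.CompleteNagata
import Groth.Agent.Cohen12.Completion

/-!
Local G-rings are Nagata: finiteness of integral closures in finitely generated field extensions of
residue fields.
-/

set_option autoImplicit false

open IsLocalRing TensorProduct

namespace Groth.Agent.SubSh14

universe u

/-- The formal fibres of a local G-ring are geometrically reduced. -/
theorem isReduced_cpl_tensor {A : Type u} [CommRing A] [IsLocalRing A] [IsNoetherianRing A]
    (h : CAlg.IsGRing A) (p : Ideal A) [p.IsPrime] (L : Type u) [Field L] [Algebra A L]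
    [Algebra p.ResidueField L] [IsScalarTower A p.ResidueField L] [Module.Finite p.ResidueField L] :
    IsReduced (AdicCompletion (maximalIdeal A) A ⊗[A] L) := by
  obtain ⟨-, hG⟩ := (H98N2.isRegularHom_cpl h).2 p
  have := hG L inferInstance
  have := H98N2.isReduced_of_isRegularRing
    (L ⊗[p.ResidueField] (p.Fiber (AdicCompletion (maximalIdeal A) A)))
  let e1 := (Algebra.TensorProduct.cancelBaseChange A p.ResidueField L L
    (AdicCompletion (maximalIdeal A) A)).toRingEquiv
  let e2 := (Algebra.TensorProduct.comm A (AdicCompletion (maximalIdeal A) A) L).toRingEquiv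
  exact isReduced_of_injective (e2.trans e1.symm) (e2.trans e1.symm).injective

set_option maxHeartbeats 800000 in
/-- A local G-ring is Nagata. -/
theorem finite_integralClosure_field {A : Type u} [CommRing A] [IsLocalRing A] [IsNoetherianRing A]
    (h : CAlg.IsGRing A) (L : Type u) [Field L] [Algebra A L] (t : Finset L)
    (ht : ∀ x : L, ∃ a : A, algebraMap A L a ≠ 0 ∧
      algebraMap A L a * x ∈ Submodule.span A (t : Set L)) :
    Module.Finite A (integralClosure A L) := by
  let p : Ideal A := RingHom.ker (algebraMap A L)
  have : p.IsPrime := RingHom.ker_isPrime _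
  letI : Algebra p.ResidueField L :=
    (Ideal.ResidueField.lift p (algebraMap A L) le_rfl fun a ha => isUnit_iff_ne_zero.2 ha).toAlgebra
  have : IsScalarTower A p.ResidueField L :=
    IsScalarTower.of_algebraMap_eq fun a => (Ideal.ResidueField.lift_algebraMap (I := p) _ _ _ _).symm
  have : Module.Finite p.ResidueField L := by
    refine ⟨⟨t, eq_top_iff.2 fun x _ => ?_⟩⟩
    obtain ⟨a, ha, hax⟩ := ht x
    have h1 : algebraMap A p.ResidueField a ≠ 0 := fun h0 => ha (by
      rw [IsScalarTower.algebraMap_apply A p.ResidueField L, h0, map_zero])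
    have h2 := Submodule.span_le_restrictScalars A p.ResidueField (t : Set L) hax
    rw [Submodule.restrictScalars_mem, IsScalarTower.algebraMap_apply A p.ResidueField L,
      ← Algebra.smul_def] at h2
    exact (Submodule.smul_mem_iff _ h1).1 h2
  let Â := AdicCompletion (maximalIdeal A) A
  have : IsNoetherianRing Â := Cohen12.isNoetherianRing_completion A
  have : IsAdicComplete (maximalIdeal Â) Â := Cohen12.isAdicComplete_completion A
  have : Module.Flat A Â := (H98N2.isRegularHom_cpl h).1
  have : IsLocalHom (algebraMap A Â) := inferInstance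
  have : Module.FaithfullyFlat A Â := Module.FaithfullyFlat.of_flat_of_isLocalHom
  have hN := EGA4H10.isNagata_of_complete Â
  have : IsReduced (Â ⊗[A] L) := isReduced_cpl_tensor h p L
  have : Algebra.EssFiniteType A L := Algebra.EssFiniteType.comp A p.ResidueField L
  have : IsNoetherianRing (Â ⊗[A] L) := Algebra.EssFiniteType.isNoetherianRing Â (Â ⊗[A] L)
  let S := Â ⊗[A] L
  have : Finite (minimalPrimes S) := (minimalPrimes.finite_of_isNoetherianRing S).to_subtype
  have hP : ∀ P : minimalPrimes S, (P : Ideal S).IsPrime := fun P => P.2.1.1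
  let F := fun P : minimalPrimes S => FractionRing (S ⧸ (P : Ideal S))
  have hfin : ∀ P, Module.Finite Â (integralClosure Â (F P)) := fun P => by
    have := hP P
    let π : S →ₐ[Â] F P :=
      (IsScalarTower.toAlgHom Â (S ⧸ (P : Ideal S)) (F P)).comp (Ideal.Quotient.mkₐ Â (P : Ideal S))
    have hπÂ : ∀ c : Â, algebraMap Â (F P) c = π (c ⊗ₜ[A] 1) := fun c => (π.commutes c).symm
    let g : L →ₐ[A] F P :=
      (π.restrictScalars A).comp (Algebra.TensorProduct.includeRight : L →ₐ[A] S)
    let q : Ideal Â := RingHom.ker (algebraMap Â (F P))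
    have : q.IsPrime := RingHom.ker_isPrime _
    letI : Algebra (Â ⧸ q) (F P) := (RingHom.kerLift (algebraMap Â (F P))).toAlgebra
    have hinj : Function.Injective (algebraMap (Â ⧸ q) (F P)) := RingHom.kerLift_injective _
    have : FaithfulSMul (Â ⧸ q) (F P) := (faithfulSMul_iff_algebraMap_injective _ _).2 hinj
    let K := FractionRing (Â ⧸ q)
    letI : Algebra K (F P) := FractionRing.liftAlgebra (Â ⧸ q) (F P)
    have : IsScalarTower Â (Â ⧸ q) (F P) := IsScalarTower.of_algebraMap_eq fun _ => rfl
    have : IsScalarTower Â K (F P) := IsScalarTower.of_algebraMap_eq fun c => by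
      rw [IsScalarTower.algebraMap_apply Â (Â ⧸ q) (F P), IsScalarTower.algebraMap_apply Â (Â ⧸ q) K,
        ← IsScalarTower.algebraMap_apply (Â ⧸ q) K (F P)]
    have : IsScalarTower A K (F P) := IsScalarTower.of_algebraMap_eq fun a => by
      rw [IsScalarTower.algebraMap_apply A Â K, ← IsScalarTower.algebraMap_apply Â K (F P),
        ← IsScalarTower.algebraMap_apply]
    -- the subalgebra generated by `L` is finite
    let gens : Set (F P) := g '' (t : Set L)
    have hint : ∀ y ∈ gens, IsIntegral K y := by
      rintro _ ⟨x, -, rfl⟩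
      obtain ⟨f, hf, hfx⟩ := Algebra.IsIntegral.isIntegral (R := p.ResidueField) x
      let j : p.ResidueField →+* K := Ideal.ResidueField.lift p (algebraMap A K)
        (fun a ha => by
          refine RingHom.mem_ker.2 ((algebraMap K (F P)).injective ?_)
          rw [← IsScalarTower.algebraMap_apply, map_zero, ← g.commutes, RingHom.mem_ker.1 ha, map_zero])
        (fun a ha => isUnit_iff_ne_zero.2 fun h0 => ha (g.toRingHom.injective (by
          show g (algebraMap A L a) = g 0
          rw [g.commutes, map_zero, IsScalarTower.algebraMap_apply A K (F P), h0, map_zero])))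
      refine ⟨f.map j, hf.map _, ?_⟩
      have hc : (algebraMap K (F P)).comp j = g.toRingHom.comp (algebraMap p.ResidueField L) := by
        refine Ideal.ResidueField.ringHom_ext (RingHom.ext fun a => ?_)
        simp only [RingHom.comp_apply, j, Ideal.ResidueField.lift_algebraMap,
          ← IsScalarTower.algebraMap_apply]
        exact (g.commutes a).symm
      rw [Polynomial.eval₂_map, hc]
      change Polynomial.eval₂ _ (g.toRingHom x) f = 0
      rw [← Polynomial.hom_eval₂, hfx, map_zero]
    let U : Subalgebra K (F P) := Algebra.adjoin K gens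
    have hUfg : U.toSubmodule.FG := fg_adjoin_of_finite (t.finite_toSet.image g) hint
    have hUfin : Module.Finite K U := Module.Finite.iff_fg.2 hUfg
    have hU : U = ⊤ := by
      refine eq_top_iff.2 fun y _ => ?_
      have hinv : ∀ u ∈ U, u⁻¹ ∈ U := fun u hu => by
        have : IsIntegral K (⟨u, hu⟩ : U) := Algebra.IsIntegral.isIntegral _
        exact U.inv_mem_of_algebraic (x := ⟨u, hu⟩) ((this.map U.val).isAlgebraic)
      have hK : ∀ k : K, algebraMap K (F P) k ∈ U := U.algebraMap_mem
      have hA : ∀ a : A, algebraMap A (F P) a ∈ U := fun a => by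
        rw [IsScalarTower.algebraMap_apply A K (F P)]; exact hK _
      have hgmem : ∀ x : L, g x ∈ U := fun x => by
        obtain ⟨a, ha, hax⟩ := ht x
        have h1 : g (algebraMap A L a * x) ∈ U := by
          have hle : Submodule.span A (t : Set L) ≤
              (Subalgebra.toSubmodule (U.restrictScalars A)).comap g.toLinearMap :=
            Submodule.span_le.2 fun z hz => Algebra.subset_adjoin ⟨z, hz, rfl⟩
          exact hle hax
        have h2 : g x = (g (algebraMap A L a))⁻¹ * g (algebraMap A L a * x) := by
          rw [map_mul, inv_mul_cancel_left₀]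
          exact (map_ne_zero g).2 ha
        rw [h2]
        exact mul_mem (hinv _ (by rw [g.commutes]; exact hA a)) h1
      have hS : ∀ s : S, π s ∈ U := fun s => by
        induction s using TensorProduct.induction_on with
        | zero => rw [map_zero]; exact zero_mem _
        | add a b ha hb => rw [map_add]; exact add_mem ha hb
        | tmul c x =>
          rw [show c ⊗ₜ[A] x = (c ⊗ₜ[A] (1 : L)) * ((1 : Â) ⊗ₜ[A] x) by
            rw [Algebra.TensorProduct.tmul_mul_tmul, mul_one, one_mul], map_mul]
          refine mul_mem ?_ (hgmem x)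
          rw [← hπÂ, IsScalarTower.algebraMap_apply Â K (F P)]
          exact hK _
      obtain ⟨a, b, hb, hab⟩ := IsFractionRing.div_surjective (S ⧸ (P : Ideal S)) y
      obtain ⟨a, rfl⟩ := Ideal.Quotient.mk_surjective a
      obtain ⟨b', rfl⟩ := Ideal.Quotient.mk_surjective b
      have h2 : y = π a * (π b')⁻¹ := by
        rw [← div_eq_mul_inv, ← hab]
        rfl
      rw [h2]
      exact mul_mem (hS a) (hinv _ (hS b'))
    have : FiniteDimensional K (F P) := by
      refine ⟨?_⟩
      rw [hU, Algebra.top_toSubmodule] at hUfg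
      exact hUfg
    have : Module.Finite (Â ⧸ q) (integralClosure (Â ⧸ q) (F P)) := hN.2 q (F P) this
    have : Module.Finite Â (integralClosure (Â ⧸ q) (F P)) := Module.Finite.trans (Â ⧸ q) _
    let f : integralClosure Â (F P) →ₗ[Â] integralClosure (Â ⧸ q) (F P) :=
      { toFun := fun x => ⟨x.1, IsIntegral.tower_top (A := Â ⧸ q) x.2⟩
        map_add' := fun _ _ => rfl
        map_smul' := fun _ _ => rfl }
    exact Module.Finite.of_injective f fun x y h => Subtype.ext (congrArg Subtype.val h :)
  let A' := integralClosure A L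
  let φ : Â ⊗[A] A' →ₐ[Â] S := Algebra.TensorProduct.map (AlgHom.id Â Â) A'.val
  have hφ : Function.Injective φ :=
    Module.Flat.lTensor_preserves_injective_linearMap (M := Â) A'.val.toLinearMap Subtype.val_injective
  let f : ∀ P : minimalPrimes S, Â ⊗[A] A' →ₐ[Â] integralClosure Â (F P) := fun P =>
    (((IsScalarTower.toAlgHom Â (S ⧸ (P : Ideal S)) (F P)).comp
      (Ideal.Quotient.mkₐ Â (P : Ideal S))).comp φ).codRestrict _ fun z =>
      (Algebra.IsIntegral.isIntegral z).map _
  have : Module.Finite Â (Â ⊗[A] A') := by
    refine Module.Finite.of_injective (LinearMap.pi fun P => (f P).toLinearMap) fun x y hxy => ?_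
    refine hφ (sub_eq_zero.1 ((isNilpotent_iff_eq_zero).1 (nilpotent_iff_mem_prime.2 fun J hJ => ?_)))
    obtain ⟨P, hP', hPJ⟩ := Ideal.exists_minimalPrimes_le (I := (⊥ : Ideal S)) (J := J) bot_le
    apply hPJ
    have := hP ⟨P, hP'⟩
    have h1 := congrArg Subtype.val (congrFun hxy ⟨P, hP'⟩)
    have h2 := IsFractionRing.injective (S ⧸ P) (F ⟨P, hP'⟩) h1
    exact (Ideal.Quotient.eq).1 h2
  exact Module.Finite.of_finite_tensorProduct_of_faithfullyFlat Â

end Groth.Agent.SubSh14
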