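import Mathlib
import Groth.Agent.Cohen12.Completion
import Groth.Agent.WE91.LocalIntegral
import Groth.Agent.EtAlg23.HenselBasic

/-!
The integral closure of a Noetherian local ring in its total ring of fractions has finitely many maximal ideals.
-/

set_option autoImplicit false

open IsLocalRing
open scoped nonZeroDivisors TensorProduct

namespace Groth.Agent.SubSh14

universe u

variable (E : Type u) [CommRing E] [IsLocalRing E] [IsNoetherianRing E]

/-- A finite birational extension has at most as many maximal ideals as the completion has minimal primes. -/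
theorem exists_injective_maximal (B : Type u) [CommRing B] [Algebra E B] [Module.Finite E B]
    (hinj : Function.Injective (algebraMap E B))
    (hbir : ∀ b : B, ∃ t ∈ E⁰, ∃ e : E, t • b = algebraMap E B e) (hreg : ∀ t ∈ E⁰, IsSMulRegular B t) :
    ∃ f : MaximalSpectrum B → (minimalPrimes (AdicCompletion (maximalIdeal E) E) : Set _), Function.Injective f := by
  let Ê := AdicCompletion (maximalIdeal E) E
  let R := Ê ⊗[E] B
  have : IsNoetherianRing Ê := Cohen12.isNoetherianRing_completion E
  have : IsAdicComplete (maximalIdeal Ê) Ê := Cohen12.isAdicComplete_completion E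
  have : HenselianLocalRing Ê := EtAlg23.henselianLocalRing_of_henselianRing Ê
  have : Module.FaithfullyFlat E Ê := Module.FaithfullyFlat.of_flat_of_isLocalHom
  let ι : B →ₐ[E] R := Algebra.TensorProduct.includeRight
  let φ : Ê →+* R := algebraMap Ê R
  have hts : ∀ (t : E) (z : R), t • z = φ (algebraMap E Ê t) * z := fun t z => by
    rw [← IsScalarTower.algebraMap_apply E Ê R]
    exact Algebra.smul_def t z
  have htφ : ∀ t : E, algebraMap E R t = φ (algebraMap E Ê t) := fun t => IsScalarTower.algebraMap_apply E Ê R t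
  have hφ : Function.Injective φ := by
    intro x y h
    have h1 := Module.Flat.lTensor_preserves_injective_linearMap (M := Ê) (Algebra.linearMap E B) hinj
    apply (TensorProduct.rid E Ê).symm.injective
    refine h1 ?_
    have h' : x ⊗ₜ[E] (1 : B) = y ⊗ₜ[E] (1 : B) := h
    simpa using h'
  -- every element of the tensor product becomes an element of the completion
  have hclear : ∀ z : R, ∃ t ∈ E⁰, ∃ c : Ê, t • z = φ c := fun z => by
    induction z using TensorProduct.induction_on with
    | zero => exact ⟨1, one_mem _, 0, by simp⟩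
    | tmul c b =>
      obtain ⟨t, ht, e, he⟩ := hbir b
      refine ⟨t, ht, c * algebraMap E Ê e, ?_⟩
      rw [← TensorProduct.tmul_smul, he, Algebra.algebraMap_eq_smul_one e, TensorProduct.tmul_smul]
      change e • (c ⊗ₜ[E] (1 : B)) = (c * algebraMap E Ê e) ⊗ₜ[E] (1 : B)
      rw [TensorProduct.smul_tmul', Algebra.smul_def, mul_comm]
    | add x y hx hy =>
      obtain ⟨t, ht, c, hc⟩ := hx
      obtain ⟨t', ht', c', hc'⟩ := hy
      refine ⟨t * t', mul_mem ht ht', algebraMap E Ê t' * c + algebraMap E Ê t * c', ?_⟩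
      rw [smul_add, map_add, map_mul, map_mul, ← hc, ← hc']
      simp only [← hts, smul_smul, mul_comm t t']
  have hdisj : ∀ P : Ideal R, P ∈ minimalPrimes R → ∀ t ∈ E⁰, algebraMap E R t ∉ P := fun P hP t ht h => by
    have hflat : IsSMulRegular R t := IsSMulRegular.lTensor Ê (hreg t ht)
    refine notMem_nonZeroDivisors_of_mem_mem_minimalPrimes h hP
      (mem_nonZeroDivisors_iff_right.2 fun y hy => hflat ?_)
    change t • y = t • 0
    rw [smul_zero, hts, ← htφ, mul_comm]
    exact hy
  have hmem : ∀ P : Ideal R, P.IsPrime → (∀ t ∈ E⁰, algebraMap E R t ∉ P) →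
      ∀ z t (c : Ê), t ∈ E⁰ → t • z = φ c → (z ∈ P ↔ c ∈ P.comap φ) := fun P hP hd z t c ht hz => by
    rw [Ideal.mem_comap, ← hz, hts, ← htφ]
    exact ⟨P.mul_mem_left _, fun h => (hP.mem_or_mem h).resolve_left (hd t ht)⟩
  have hminc : ∀ P : Ideal R, P ∈ minimalPrimes R → P.comap φ ∈ minimalPrimes Ê := fun P hP => by
    have := hP.1.1
    refine ⟨⟨Ideal.comap_isPrime φ P, bot_le⟩, fun q hq hqP => ?_⟩
    have hqd : ∀ t ∈ E⁰, algebraMap E Ê t ∉ q := fun t ht h =>
      hdisj P hP t ht ((htφ t).symm ▸ hqP h)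
    let Q : Ideal R :=
      { carrier := {z | ∃ t ∈ E⁰, ∃ c ∈ q, t • z = φ c}
        add_mem' := by
          rintro x y ⟨a, ha, c, hc, h⟩ ⟨a', ha', c', hc', h'⟩
          refine ⟨a * a', mul_mem ha ha', algebraMap E Ê a' * c + algebraMap E Ê a * c',
            add_mem (Ideal.mul_mem_left _ _ hc) (Ideal.mul_mem_left _ _ hc'), ?_⟩
          rw [smul_add, map_add, map_mul, map_mul, ← h, ← h']
          simp only [← hts, smul_smul, mul_comm a a']
        zero_mem' := ⟨1, one_mem _, 0, zero_mem _, by simp⟩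
        smul_mem' := by
          rintro r x ⟨a, ha, c, hc, h⟩
          obtain ⟨b, hb, d, hd⟩ := hclear r
          refine ⟨b * a, mul_mem hb ha, d * c, Ideal.mul_mem_left _ _ hc, ?_⟩
          rw [map_mul, ← h, ← hd, smul_eq_mul, smul_mul_smul_comm] }
    have hQ : Q.IsPrime := by
      refine ⟨fun h => ?_, fun {x y} hxy => ?_⟩
      · obtain ⟨t, ht, c, hc, h1⟩ := show (1 : R) ∈ Q from h ▸ Submodule.mem_top
        rw [hts, mul_one] at h1
        exact hqd t ht (hφ h1 ▸ hc)
      · obtain ⟨t, ht, c, hc, h⟩ := hxy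
        obtain ⟨a, ha, d, hd⟩ := hclear x
        obtain ⟨a', ha', d', hd'⟩ := hclear y
        have h2 : φ (algebraMap E Ê t * (d * d')) = φ (algebraMap E Ê (a * a') * c) := by
          simp only [map_mul, ← h, ← hd, ← hd', hts]
          ring
        have h3 : algebraMap E Ê t * (d * d') ∈ q := hφ h2 ▸ Ideal.mul_mem_left _ _ hc
        exact ((hq.1.mem_or_mem ((hq.1.mem_or_mem h3).resolve_left (hqd t ht)))).imp
          (fun h => ⟨a, ha, d, h, hd⟩) (fun h => ⟨a', ha', d', h, hd'⟩)
    have hQP : Q ≤ P := fun z ⟨t, ht, c, hc, h⟩ => (hmem P hP.1.1 (hdisj P hP) z t c ht h).2 (hqP hc)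
    have hPQ := hP.2 ⟨hQ, bot_le⟩ hQP
    intro c hc
    obtain ⟨t, ht, c', hc', h⟩ := hPQ hc
    rw [hts, ← map_mul] at h
    exact (hq.1.mem_or_mem ((hφ h).symm ▸ hc' : algebraMap E Ê t * c ∈ q)).resolve_left (hqd t ht)
  -- a maximal ideal is the contraction of a maximal ideal of the tensor product
  have hsurj : ∀ m : MaximalSpectrum B, ∃ P ∈ minimalPrimes R, ∃ M : Ideal R, M.IsPrime ∧ P ≤ M ∧ M.comap ι = m.asIdeal := by
    intro m
    have := m.isMaximal
    obtain ⟨⟨M', hM'⟩, hMm⟩ := PrimeSpectrum.comap_surjective_of_faithfullyFlat (B := B ⊗[E] Ê)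
      ⟨m.asIdeal, inferInstance⟩
    let M : Ideal R := M'.comap (Algebra.TensorProduct.comm E Ê B).toRingEquiv.toRingHom
    have hMp : M.IsPrime := Ideal.comap_isPrime _ _
    obtain ⟨P, hP, hPM⟩ := Ideal.exists_minimalPrimes_le (show (⊥ : Ideal R) ≤ M from bot_le)
    refine ⟨P, hP, M, hMp, hPM, ?_⟩
    have hMm' : M'.comap (algebraMap B (B ⊗[E] Ê)) = m.asIdeal := congrArg PrimeSpectrum.asIdeal hMm
    rw [← hMm']
    ext b
    simp only [Ideal.mem_comap, M, ι]
    rfl
  choose P hP M hM hPM hMm using hsurj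
  refine ⟨fun m => ⟨(P m).comap φ, hminc _ (hP m)⟩, fun m m' h => ?_⟩
  have h' : (P m).comap φ = (P m').comap φ := congrArg Subtype.val h
  have hPP : P m = P m' := by
    ext z
    obtain ⟨t, ht, c, hc⟩ := hclear z
    rw [hmem _ (hP m).1.1 (hdisj _ (hP m)) z t c ht hc, hmem _ (hP m').1.1 (hdisj _ (hP m')) z t c ht hc, h']
  have := (hP m).1.1
  have : IsLocalRing (R ⧸ P m) := WE91.isLocalRing_of_isIntegral_of_isDomain Ê (R ⧸ P m)
  have key : ∀ (n : MaximalSpectrum B) (hle : P m ≤ M n), n.asIdeal =
      (maximalIdeal (R ⧸ P m)).comap ((Ideal.Quotient.mk (P m)).comp ι.toRingHom) := by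
    intro n hle
    have := n.isMaximal
    refine n.isMaximal.eq_of_le (Ideal.comap_ne_top _ (maximalIdeal.isMaximal _).ne_top) ?_
    rw [← Ideal.comap_comap, ← hMm n]
    refine Ideal.comap_mono ?_
    refine Ideal.map_le_iff_le_comap.1 (le_maximalIdeal ?_)
    intro htop
    have := congrArg (Ideal.comap (Ideal.Quotient.mk (P m))) htop
    rw [Ideal.comap_map_of_surjective _ Ideal.Quotient.mk_surjective, Ideal.comap_top, ← RingHom.ker_eq_comap_bot,
      Ideal.mk_ker, sup_eq_left.2 hle] at this
    exact (hM n).ne_top this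
  exact MaximalSpectrum.ext ((key m (hPM m)).trans (key m' (hPP ▸ hPM m')).symm)

theorem finite_maximal_of_birational (C : Type u) [CommRing C] [Algebra E C] [Algebra.IsIntegral E C]
    (hinj : Function.Injective (algebraMap E C))
    (hbir : ∀ b : C, ∃ t ∈ E⁰, ∃ e : E, t • b = algebraMap E C e) (hreg : ∀ t ∈ E⁰, IsSMulRegular C t) :
    {N : Ideal C | N.IsMaximal}.Finite := by
  classical
  have : IsNoetherianRing (AdicCompletion (maximalIdeal E) E) := Cohen12.isNoetherianRing_completion E
  have hfin := minimalPrimes.finite_of_isNoetherianRing (AdicCompletion (maximalIdeal E) E)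
  have := hfin.fintype
  by_contra hinf
  obtain ⟨T, hT, hcard⟩ := Set.Infinite.exists_subset_card_eq hinf
    (Fintype.card (minimalPrimes (AdicCompletion (maximalIdeal E) E)) + 1)
  have hsep : ∀ p : T × T, p.1 ≠ p.2 → ∃ x, x ∈ (p.1 : Ideal C) ∧ x ∉ (p.2 : Ideal C) := fun p hne => by
    by_contra! hc
    exact hne (Subtype.ext ((hT p.1.2).eq_of_le (hT p.2.2).ne_top hc))
  choose x hx hx' using hsep
  let σ : Set C := Set.range fun p : {p : T × T // p.1 ≠ p.2} => x p.1 p.2
  have hσ : σ.Finite := Set.finite_range _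
  let B := Algebra.adjoin E σ
  have : Module.Finite E B := Module.Finite.iff_fg.2
    (fg_adjoin_of_finite hσ fun y _ => Algebra.IsIntegral.isIntegral y)
  obtain ⟨f, hf⟩ := exists_injective_maximal E B (fun a b h => hinj (congrArg Subtype.val h))
    (fun b => by
      obtain ⟨t, ht, e, he⟩ := hbir b
      exact ⟨t, ht, e, Subtype.ext he⟩)
    (fun t ht a b h => Subtype.ext (hreg t ht (congrArg Subtype.val h)))
  have hBC : (algebraMap B C).IsIntegral := fun y => (Algebra.IsIntegral.isIntegral (R := E) y).tower_top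
  have : Algebra.IsIntegral B C := ⟨hBC⟩
  let g : T → MaximalSpectrum B := fun N => ⟨(N : Ideal C).comap (algebraMap B C),
    have : (N : Ideal C).IsMaximal := hT N.2; Ideal.isMaximal_comap_of_isIntegral_of_isMaximal _⟩
  have hg : Function.Injective g := fun N N' h => by
    by_contra hne
    have hmem : (⟨x (N, N') hne, Algebra.subset_adjoin ⟨⟨(N, N'), hne⟩, rfl⟩⟩ : B) ∈
        (N : Ideal C).comap (algebraMap B C) := hx (N, N') hne
    rw [show (N : Ideal C).comap (algebraMap B C) = (N' : Ideal C).comap (algebraMap B C) from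
      congrArg MaximalSpectrum.asIdeal h] at hmem
    exact hx' (N, N') hne hmem
  have := Fintype.card_le_of_injective (f ∘ g) (hf.comp hg)
  rw [Fintype.card_coe, hcard] at this
  omega

theorem finite_maximal_integralClosure :
    {N : Ideal (integralClosure E (FractionRing E)) | N.IsMaximal}.Finite := by
  refine finite_maximal_of_birational E _ ?_ ?_ ?_
  · exact fun a b h => IsFractionRing.injective E (FractionRing E) (congrArg Subtype.val h)
  · intro b
    obtain ⟨⟨e, t⟩, h⟩ := IsLocalization.surj E⁰ (b : FractionRing E)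
    refine ⟨t, t.2, e, Subtype.ext ?_⟩
    rw [Subalgebra.coe_smul, Algebra.smul_def, mul_comm]
    exact h
  · intro t ht a b h
    refine Subtype.ext ((IsLocalization.map_units (FractionRing E) ⟨t, ht⟩).mul_left_cancel ?_)
    have := congrArg Subtype.val h
    change t • (a : FractionRing E) = t • (b : FractionRing E) at this
    simpa only [Algebra.smul_def] using this

end Groth.Agent.SubSh14
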