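import Mathlib
import Groth.Prelude.Def_EssEt
import Groth.Agent.EssEt14.Basic
import Groth.Agent.SubSh14.Basic

/-!
Total rings of fractions of essentially etale algebras over reduced rings with finitely many minimal primes.
-/

set_option autoImplicit false

open scoped nonZeroDivisors

namespace Groth.Agent.SubSh14

universe u

theorem mem_nonZeroDivisors_of_forall_notMem {R : Type u} [CommRing R] [IsReduced R] {x : R}
    (h : ∀ p ∈ minimalPrimes R, x ∉ p) : x ∈ R⁰ := by
  refine mem_nonZeroDivisors_iff_right.2 fun y hy => ?_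
  have hy' : y ∈ nilradical R := by
    rw [nilradical, Ideal.zero_eq_bot, ← Ideal.sInf_minimalPrimes]
    refine Submodule.mem_sInf.2 fun p hp => (hp.1.1.mem_or_mem ?_).resolve_right (h p hp)
    rw [hy]
    exact zero_mem _
  rwa [nilradical_eq_zero] at hy'

theorem isArtinianRing_of_isReduced {R : Type u} [CommRing R] [IsReduced R] (hfin : (minimalPrimes R).Finite)
    (hdim : ∀ p : Ideal R, p.IsPrime → p ∈ minimalPrimes R) : IsArtinianRing R := by
  have := hfin.to_subtype
  have hmax : ∀ p : minimalPrimes R, p.1.IsMaximal := fun p => by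
    obtain ⟨m, hm, hpm⟩ := Ideal.exists_le_maximal p.1 p.2.1.1.ne_top
    rwa [le_antisymm hpm ((hdim m hm.isPrime).2 p.2.1 hpm)]
  let : ∀ p : minimalPrimes R, Field (R ⧸ p.1) := fun p => @Ideal.Quotient.field _ _ p.1 (hmax p)
  have hco : Pairwise fun i j : minimalPrimes R => IsCoprime i.1 j.1 := fun i j hij => by
    simp only [Ideal.isCoprime_iff_sup_eq]
    exact (hmax i).coprime_of_ne (hmax j) fun h => hij (Subtype.ext h)
  have h0 : (⨅ p : minimalPrimes R, p.1) = ⊥ := by
    have h1 : nilradical R = ⊥ := nilradical_eq_zero R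
    rw [← h1, nilradical, Ideal.zero_eq_bot, ← Ideal.sInf_minimalPrimes, sInf_eq_iInf']
  let e : R ≃+* ∀ p : minimalPrimes R, R ⧸ p.1 := (RingEquiv.quotientBot R).symm.trans
    ((Ideal.quotEquivOfEq h0.symm).trans (Ideal.quotientInfRingEquivPiQuotient _ hco))
  exact e.symm.surjective.isArtinianRing (f := e.symm.toRingHom)

theorem isArtinianRing_fractionRing (A : Type u) [CommRing A] [IsReduced A] (hmin : (minimalPrimes A).Finite) :
    IsArtinianRing (FractionRing A) := by
  classical
  have : IsReduced (FractionRing A) := isReduced_localizationPreserves A⁰ _ inferInstance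
  have hdisj : ∀ p : Ideal A, p.IsPrime → Disjoint (A⁰ : Set A) p → p ∈ minimalPrimes A := fun p hp hd => by
    have hsub : (p : Set A) ⊆ ⋃ q ∈ (hmin.toFinset : Set (Ideal A)), (q : Set A) := fun x hx => by
      by_contra hx'
      refine Set.disjoint_left.1 hd (mem_nonZeroDivisors_of_forall_notMem fun q hq hxq => hx' ?_) hx
      exact Set.mem_biUnion (show q ∈ (hmin.toFinset : Set (Ideal A)) from hmin.mem_toFinset.2 hq) hxq
    obtain ⟨q, hq, hpq⟩ := (Ideal.subset_union_prime (⊥ : Ideal A) ⊥ fun i hi _ _ => (hmin.mem_toFinset.1 hi).1.1).1 hsub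
    have hq' := hmin.mem_toFinset.1 hq
    rwa [le_antisymm hpq (hq'.2 ⟨hp, bot_le⟩ hpq)]
  have hcomap : ∀ P : Ideal (FractionRing A), P.IsPrime →
      P.comap (algebraMap A (FractionRing A)) ∈ minimalPrimes A := fun P hP => by
    obtain ⟨hp, hd⟩ := (IsLocalization.isPrime_iff_isPrime_disjoint A⁰ _ P).1 hP
    exact hdisj _ hp hd
  have hinj : Function.Injective (Ideal.comap (algebraMap A (FractionRing A))) :=
    (IsLocalization.orderEmbedding A⁰ (FractionRing A)).injective
  refine isArtinianRing_of_isReduced ((hmin.preimage hinj.injOn).subset fun P hP => hcomap P hP.1.1)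
    fun P hP => ⟨⟨hP, bot_le⟩, fun Q hQ hQP => ?_⟩
  exact (hinj (le_antisymm (Ideal.comap_mono hQP) ((hcomap P hP).2 ⟨(hcomap Q hQ.1).1.1, bot_le⟩ (Ideal.comap_mono hQP)))).ge

/-- A non-zero-divisor integral over an Artinian ring is a unit. -/
theorem isUnit_of_isIntegral {K L : Type u} [CommRing K] [IsArtinianRing K] [CommRing L] [Algebra K L] {z : L}
    (hz : IsIntegral K z) (hreg : z ∈ L⁰) : IsUnit z := by
  have : Module.Finite K (Algebra.adjoin K {z}) := Module.Finite.iff_fg.2 hz.fg_adjoin_singleton
  have : IsArtinianRing (Algebra.adjoin K {z}) := IsArtinianRing.of_finite K _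
  let z' : Algebra.adjoin K {z} := ⟨z, Algebra.subset_adjoin rfl⟩
  have hz' : z' ∈ (Algebra.adjoin K {z})⁰ := mem_nonZeroDivisors_iff_right.2 fun y hy =>
    Subtype.ext (mem_nonZeroDivisors_iff_right.1 hreg _ (congrArg Subtype.val hy))
  exact (IsArtinianRing.isUnit_of_mem_nonZeroDivisors hz').map (Algebra.adjoin K {z}).val

section Ext

variable {A : Type u} [CommRing A] [IsReduced A] (hmin : (minimalPrimes A).Finite)
  (E : Type u) [CommRing E] [Algebra A E] [Algebra.EssFiniteType A E] [Algebra.FormallyUnramified A E]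

include hmin in
theorem finite_localization_nonZeroDivisors :
    Module.Finite (Localization A⁰) (Localization (Algebra.algebraMapSubmonoid E A⁰)) := by
  have : IsArtinianRing (Localization A⁰) := isArtinianRing_fractionRing A hmin
  let ET := Localization (Algebra.algebraMapSubmonoid E A⁰)
  have : Algebra.FormallyUnramified E ET := .of_isLocalization (Algebra.algebraMapSubmonoid E A⁰)
  have : Algebra.EssFiniteType E ET := .of_isLocalization ET (Algebra.algebraMapSubmonoid E A⁰)
  have : Algebra.FormallyUnramified A ET := .comp A E ET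
  have : Algebra.EssFiniteType A ET := .comp A E ET
  have : Algebra.FormallyUnramified (Localization A⁰) ET := .of_restrictScalars A _ _
  have : Algebra.EssFiniteType (Localization A⁰) ET := .of_comp A _ _
  exact Module.Finite.of_quasiFinite

omit [IsReduced A] [Algebra.EssFiniteType A E] [Algebra.FormallyUnramified A E] in
theorem algebraMapSubmonoid_le [Module.Flat A E] : Algebra.algebraMapSubmonoid E A⁰ ≤ E⁰ := by
  rintro _ ⟨a, ha, rfl⟩
  refine mem_nonZeroDivisors_iff_right.2 fun y hy => ?_
  have hreg : IsSMulRegular E a := Module.Flat.isSMulRegular_of_isRegular (isRegular_iff_mem_nonZeroDivisors.2 ha)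
  exact hreg (show a • y = a • 0 by rw [smul_zero, Algebra.smul_def, mul_comm]; exact hy)

include hmin in
/-- The total ring of fractions is the localization at the non-zero-divisors of the base. -/
theorem isLocalization_fractionRing [Module.Flat A E] :
    IsLocalization (Algebra.algebraMapSubmonoid E A⁰) (FractionRing E) := by
  let ET := Localization (Algebra.algebraMapSubmonoid E A⁰)
  have hfin := finite_localization_nonZeroDivisors hmin E
  have : IsArtinianRing (Localization A⁰) := isArtinianRing_fractionRing A hmin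
  have : IsArtinianRing ET := IsArtinianRing.of_finite (Localization A⁰) ET
  have hle := algebraMapSubmonoid_le (A := A) E
  have : IsFractionRing E ET := by
    refine IsLocalization.of_le (Algebra.algebraMapSubmonoid E A⁰) E⁰ hle fun s hs => ?_
    exact IsArtinianRing.isUnit_of_mem_nonZeroDivisors
      (IsLocalization.map_nonZeroDivisors_le (Algebra.algebraMapSubmonoid E A⁰) ET (Submonoid.mem_map_of_mem _ hs))
  exact IsLocalization.isLocalization_of_algEquiv _ (IsLocalization.algEquiv E⁰ ET (FractionRing E))

include hmin in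
theorem exists_finset_span [Module.Flat A E] :
    ∃ t : Finset (FractionRing E), ∀ x : FractionRing E, ∃ a ∈ A⁰,
      algebraMap A (FractionRing E) a * x ∈ Submodule.span A (t : Set (FractionRing E)) := by
  classical
  let ET := Localization (Algebra.algebraMapSubmonoid E A⁰)
  have hfin := finite_localization_nonZeroDivisors hmin E
  have := isLocalization_fractionRing hmin E
  let e : ET ≃ₐ[E] FractionRing E := IsLocalization.algEquiv (Algebra.algebraMapSubmonoid E A⁰) _ _
  let e' : ET ≃ₐ[A] FractionRing E := e.restrictScalars A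
  obtain ⟨n, g, hg⟩ := Submodule.fg_iff_exists_fin_generating_family.1 (Module.Finite.fg_top (R := Localization A⁰) (M := ET))
  refine ⟨Finset.univ.image fun i => e' (g i), fun x => ?_⟩
  obtain ⟨c, hc⟩ := (Submodule.mem_span_range_iff_exists_fun _).1 (hg ▸ Submodule.mem_top : e'.symm x ∈ Submodule.span _ (Set.range g))
  obtain ⟨b, hb⟩ := IsLocalization.exist_integer_multiples_of_finite A⁰ c
  choose r hr using hb
  refine ⟨b, b.2, ?_⟩
  have h1 : algebraMap A (FractionRing E) b * x = e' (∑ i, r i • g i) := by
    rw [← e'.commutes, ← e'.apply_symm_apply x, ← map_mul, ← hc, ← Algebra.smul_def, Finset.smul_sum]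
    refine congrArg e' (Finset.sum_congr rfl fun i _ => ?_)
    rw [← smul_assoc, ← hr i, algebraMap_smul]
  rw [h1, map_sum]
  refine sum_mem fun i _ => ?_
  rw [map_smul]
  exact Submodule.smul_mem _ _ (Submodule.subset_span (Finset.mem_coe.2 (Finset.mem_image_of_mem _ (Finset.mem_univ i))))

end Ext

end Groth.Agent.SubSh14
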