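import Mathlib
import Groth.Agent.SubSh14.Frac

/-!
Subalgebras of essentially etale algebras over reduced rings with finitely many minimal primes.
-/

set_option autoImplicit false

open scoped nonZeroDivisors

namespace Groth.Agent.SubSh14

universe u

section Ext

variable {A : Type u} [CommRing A] [IsReduced A] (hmin : (minimalPrimes A).Finite)
  {E : Type u} [CommRing E] [Algebra A E] [Algebra.EssFiniteType A E] [Algebra.FormallyUnramified A E]
  [Module.Flat A E]

omit [IsReduced A] [Algebra.EssFiniteType A E] [Algebra.FormallyUnramified A E] in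
theorem algebraMap_mem_nonZeroDivisors {a : A} (ha : a ∈ A⁰) : algebraMap A E a ∈ E⁰ :=
  algebraMapSubmonoid_le (A := A) E ⟨a, ha, rfl⟩

omit [IsReduced A] [Algebra.EssFiniteType A E] [Algebra.FormallyUnramified A E] in
theorem injective_toLocalization :
    Function.Injective (algebraMap E (Localization (Algebra.algebraMapSubmonoid E A⁰))) :=
  IsLocalization.injective (Localization (Algebra.algebraMapSubmonoid E A⁰)) (algebraMapSubmonoid_le (A := A) E)

include hmin in
/-- An element regular in the algebra it generates divides a non-zero-divisor of the base. -/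
theorem exists_mul_eq {s : E} (hs : ∀ w ∈ Algebra.adjoin A {s}, s * w = 0 → w = 0) :
    ∃ w ∈ Algebra.adjoin A {s}, ∃ a ∈ A⁰, s * w = algebraMap A E a := by
  let K := Localization A⁰
  let F := Localization (Algebra.algebraMapSubmonoid E A⁰)
  have hfin : Module.Finite K F := finite_localization_nonZeroDivisors hmin E
  have : IsArtinianRing K := isArtinianRing_fractionRing A hmin
  let σ : F := algebraMap E F s
  have hclear : ∀ z ∈ Algebra.adjoin K {σ}, ∃ a ∈ A⁰, ∃ w ∈ Algebra.adjoin A {s},
      algebraMap A F a * z = algebraMap E F w := by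
    intro z hz
    induction hz using Algebra.adjoin_induction with
    | mem x hx =>
      obtain rfl := hx
      exact ⟨1, one_mem _, s, Algebra.subset_adjoin rfl, by simp [σ]⟩
    | algebraMap c =>
      obtain ⟨⟨r, b⟩, hrb⟩ := IsLocalization.surj A⁰ c
      refine ⟨b, b.2, algebraMap A E r, Subalgebra.algebraMap_mem _ r, ?_⟩
      rw [← IsScalarTower.algebraMap_apply A E F, IsScalarTower.algebraMap_apply A K F,
        IsScalarTower.algebraMap_apply A K F r, ← map_mul, mul_comm, hrb]
    | add x y _ _ hx hy =>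
      obtain ⟨a, ha, w, hw, h⟩ := hx
      obtain ⟨a', ha', w', hw', h'⟩ := hy
      refine ⟨a * a', mul_mem ha ha', a' • w + a • w', add_mem (Subalgebra.smul_mem _ hw a') (Subalgebra.smul_mem _ hw' a), ?_⟩
      simp only [map_add, map_mul, Algebra.smul_def, ← h, ← h', ← IsScalarTower.algebraMap_apply A E F]
      ring
    | mul x y _ _ hx hy =>
      obtain ⟨a, ha, w, hw, h⟩ := hx
      obtain ⟨a', ha', w', hw', h'⟩ := hy
      refine ⟨a * a', mul_mem ha ha', w * w', mul_mem hw hw', ?_⟩
      simp only [map_mul, ← h, ← h']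
      ring
  have hσint : IsIntegral K σ := IsIntegral.of_finite K σ
  let σ' : Algebra.adjoin K {σ} := ⟨σ, Algebra.subset_adjoin rfl⟩
  have : Module.Finite K (Algebra.adjoin K {σ}) := Module.Finite.iff_fg.2 hσint.fg_adjoin_singleton
  have hreg : σ' ∈ (Algebra.adjoin K {σ})⁰ := by
    refine mem_nonZeroDivisors_iff_right.2 fun y hy => ?_
    obtain ⟨a, ha, w, hw, h⟩ := hclear y y.2
    have hy' : (y : F) * σ = 0 := congrArg Subtype.val hy
    have hsw : s * w = 0 := injective_toLocalization (A := A) (E := E) (by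
      rw [map_mul, map_zero, ← h]
      change σ * _ = 0
      rw [mul_left_comm, mul_comm σ, hy', mul_zero])
    rw [hs w hw hsw, map_zero] at h
    refine Subtype.ext ((IsUnit.mul_right_eq_zero ?_).1 h)
    rw [IsScalarTower.algebraMap_apply A E F]
    exact IsLocalization.map_units F (⟨_, a, ha, rfl⟩ : Algebra.algebraMapSubmonoid E A⁰)
  obtain ⟨z, hz⟩ := isUnit_iff_exists_inv.1 (isUnit_of_isIntegral (K := K)
    (IsIntegral.of_finite K σ') hreg)
  obtain ⟨a, ha, w, hw, h⟩ := hclear z z.2
  refine ⟨w, hw, a, ha, injective_toLocalization (A := A) (E := E) ?_⟩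
  have hz' : σ * (z : F) = 1 := congrArg Subtype.val hz
  rw [map_mul, ← h, ← IsScalarTower.algebraMap_apply A E F]
  change σ * _ = _
  rw [mul_left_comm, hz', mul_one]

include hmin in
theorem mem_nonZeroDivisors_of_regular {s : E} (hs : ∀ w ∈ Algebra.adjoin A {s}, s * w = 0 → w = 0) : s ∈ E⁰ := by
  obtain ⟨w, -, a, ha, h⟩ := exists_mul_eq hmin hs
  exact (mul_mem_nonZeroDivisors.1 (h ▸ algebraMap_mem_nonZeroDivisors ha)).1

include hmin in
/-- Subalgebras have finitely generated total rings of fractions. -/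
theorem exists_finset_fractionRing {D : Type u} [CommRing D] [Algebra A D] (g : D →ₐ[A] E)
    (hg : Function.Injective g) :
    ∃ t : Finset (FractionRing D), ∀ x : FractionRing D, ∃ a ∈ A⁰,
      algebraMap A (FractionRing D) a * x ∈ Algebra.adjoin A (t : Set (FractionRing D)) := by
  classical
  let K := Localization A⁰
  let F := Localization (Algebra.algebraMapSubmonoid E A⁰)
  have hfin : Module.Finite K F := finite_localization_nonZeroDivisors hmin E
  have : IsArtinianRing K := isArtinianRing_fractionRing A hmin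
  obtain ⟨s, hs, hspan⟩ := Submodule.fg_span_iff_fg_span_finset_subset (R := K)
    (Set.range fun d : D => algebraMap E F (g d)) |>.1 (IsNoetherian.noetherian _)
  let t : Finset (FractionRing D) :=
    s.attach.image fun x => algebraMap D (FractionRing D) (hs x.2).choose
  refine ⟨t, fun x => ?_⟩
  obtain ⟨⟨d, σ⟩, hd⟩ := IsLocalization.surj D⁰ x
  obtain ⟨w, hw, a, ha, hw'⟩ := exists_mul_eq hmin (s := g σ) fun w hw h => by
    obtain ⟨w, rfl⟩ := (Algebra.adjoin_le (S := g.range) (Set.singleton_subset_iff.2 ⟨_, rfl⟩)) hw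
    rw [mem_nonZeroDivisors_iff_right.1 σ.2 w (hg (by simpa [mul_comm] using h)), map_zero]
  obtain ⟨w', rfl⟩ := (Algebra.adjoin_le (S := g.range) (Set.singleton_subset_iff.2 ⟨_, rfl⟩)) hw
  have hxa : algebraMap A (FractionRing D) a * x = algebraMap D (FractionRing D) (d * w') := by
    rw [IsScalarTower.algebraMap_apply A D (FractionRing D),
      show algebraMap A D a = (σ : D) * w' from hg ((g.commutes a).trans (hw'.symm.trans (map_mul g _ _).symm)), map_mul, map_mul, ← hd]
    ring
  have hmem : algebraMap E F (g (d * w')) ∈ Submodule.span K (s : Set F) := hspan ▸ Submodule.subset_span ⟨_, rfl⟩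
  obtain ⟨c, hc⟩ := Submodule.mem_span_finset'.1 hmem
  obtain ⟨b, hb⟩ := IsLocalization.exist_integer_multiples_of_finite A⁰ c
  choose r hr using hb
  have hkey : algebraMap A D b * (d * w') = ∑ i : s, r i • (hs i.2).choose := by
    refine hg (injective_toLocalization (A := A) (E := E) ?_)
    have hi : ∀ i : s, algebraMap E F (g (hs i.2).choose) = i := fun i => (hs i.2).choose_spec
    rw [map_mul g, g.commutes, map_mul (algebraMap E F), ← hc,
      ← IsScalarTower.algebraMap_apply A E F, Finset.mul_sum, map_sum, map_sum]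
    refine Finset.sum_congr rfl fun i _ => ?_
    rw [← Algebra.smul_def, ← smul_assoc, ← hr i, algebraMap_smul, map_smul, Algebra.smul_def, Algebra.smul_def (r i) (g _),
      map_mul, ← IsScalarTower.algebraMap_apply A E F, hi]
  refine ⟨b * a, mul_mem b.2 ha, ?_⟩
  rw [map_mul, mul_assoc, hxa, IsScalarTower.algebraMap_apply A D (FractionRing D), ← map_mul, hkey, map_sum]
  refine sum_mem fun i _ => ?_
  rw [Algebra.smul_def, map_mul, ← IsScalarTower.algebraMap_apply A D (FractionRing D), ← Algebra.smul_def]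
  exact Subalgebra.smul_mem _ (Algebra.subset_adjoin (Finset.mem_coe.2 (Finset.mem_image.2 ⟨i, Finset.mem_attach _ _, rfl⟩))) _

end Ext

variable {A S : Type u} [CommRing A] [IsLocalRing A] [IsReduced A] (hmin : (minimalPrimes A).Finite)
  [CommRing S] [IsLocalRing S] [Algebra A S] [IsLocalHom (algebraMap A S)] [Hensel.IsStrictHenselization A S]

include hmin in
theorem mem_nonZeroDivisors_coe {D : Subalgebra A S} (s : D) (hs : s ∈ D⁰) : (s : S) ∈ S⁰ := by
  obtain ⟨E, hsE, _, hE⟩ := exists_stage (A := A) ({(s : S)} : Finset S)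
  have hsE' : (s : S) ∈ E := hsE (by simp)
  have := EssEt14.formallyEtale hE
  have := EssEt14.essFiniteType hE
  have := flat hE
  have := faithfullyFlat E hE
  have hreg := mem_nonZeroDivisors_of_regular hmin (s := (⟨s, hsE'⟩ : E)) fun w hw h => by
    have hwD : (w : S) ∈ D := by
      have h1 : (w : S) ∈ (Algebra.adjoin A {(⟨s, hsE'⟩ : E)}).map E.val := ⟨w, hw, rfl⟩
      rw [AlgHom.map_adjoin, Set.image_singleton] at h1
      exact (Algebra.adjoin_le (Set.singleton_subset_iff.2 (show E.val ⟨s, hsE'⟩ ∈ (D : Set S) from s.2))) h1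
    have h2 : (⟨w, hwD⟩ : D) * s = 0 := Subtype.ext (by
      have h3 : ((s : S)) * (w : S) = 0 := congrArg Subtype.val h
      simpa [mul_comm] using h3)
    exact Subtype.ext (show (w : S) = 0 from congrArg Subtype.val (mem_nonZeroDivisors_iff_right.1 hs _ h2))
  refine mem_nonZeroDivisors_iff_right.2 fun y hy => ?_
  have hS : IsSMulRegular S (⟨s, hsE'⟩ : E) :=
    Module.Flat.isSMulRegular_of_isRegular (isRegular_iff_mem_nonZeroDivisors.2 hreg)
  exact hS (show (⟨s, hsE'⟩ : E) • y = (⟨s, hsE'⟩ : E) • 0 by rw [smul_zero]; exact (mul_comm _ _).trans hy)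

include hmin in
theorem exists_stage_of_fractionRing {D : Subalgebra A S}
    (hfg : ∃ t : Finset (FractionRing D), ∀ x : FractionRing D, ∃ a ∈ A⁰,
      algebraMap A (FractionRing D) a * x ∈ Algebra.adjoin A (t : Set (FractionRing D))) (s₀ : Finset S) :
    ∃ E : Subalgebra A S, D ≤ E ∧ (s₀ : Set S) ⊆ (E : Set S) ∧
      ∃ _ : IsLocalRing E, EGA4loc.IsEssentiallyEtale A E := by
  classical
  obtain ⟨t, ht⟩ := hfg
  choose num hnum using fun x : FractionRing D => IsLocalization.surj D⁰ x
  let s : Finset S := s₀ ∪ t.image (fun x => ((num x).1 : S)) ∪ t.image (fun x => (((num x).2 : D) : S))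
  obtain ⟨E, hsE, hloc, hE⟩ := exists_stage (A := A) s
  have hs₀ : (s₀ : Set S) ⊆ (E : Set S) := fun y hy => hsE (by simp [s]; exact Or.inl hy)
  refine ⟨E, fun d hd => ?_, hs₀, hloc, hE⟩
  obtain ⟨a, ha, hd'⟩ := ht (algebraMap D (FractionRing D) ⟨d, hd⟩)
  have key : ∀ y ∈ Algebra.adjoin A (t : Set (FractionRing D)), ∃ σ ∈ D⁰, ∃ e : D,
      (σ : S) ∈ E ∧ (e : S) ∈ E ∧ algebraMap D (FractionRing D) σ * y = algebraMap D (FractionRing D) e := by
    intro y hy
    induction hy using Algebra.adjoin_induction with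
    | mem x hx =>
      refine ⟨(num x).2, (num x).2.2, (num x).1, ?_, ?_, by rw [mul_comm]; exact hnum x⟩
      · exact hsE (Finset.mem_coe.2 (Finset.mem_union_right _ (Finset.mem_image_of_mem _ hx)))
      · exact hsE (Finset.mem_coe.2 (Finset.mem_union_left _ (Finset.mem_union_right _ (Finset.mem_image_of_mem _ hx))))
    | algebraMap r =>
      exact ⟨1, one_mem _, algebraMap A D r, one_mem E, E.algebraMap_mem r,
        by rw [map_one, one_mul, ← IsScalarTower.algebraMap_apply A D (FractionRing D)]⟩
    | add x y _ _ hx hy =>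
      obtain ⟨σ, hσ, e, hσE, heE, h⟩ := hx
      obtain ⟨σ', hσ', e', hσE', heE', h'⟩ := hy
      refine ⟨σ * σ', mul_mem hσ hσ', σ' * e + σ * e', mul_mem hσE hσE',
        add_mem (mul_mem hσE' heE) (mul_mem hσE heE'), ?_⟩
      simp only [map_add, map_mul, ← h, ← h']
      ring
    | mul x y _ _ hx hy =>
      obtain ⟨σ, hσ, e, hσE, heE, h⟩ := hx
      obtain ⟨σ', hσ', e', hσE', heE', h'⟩ := hy
      refine ⟨σ * σ', mul_mem hσ hσ', e * e', mul_mem hσE hσE', mul_mem heE heE', ?_⟩
      simp only [map_mul, ← h, ← h']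
      ring
  obtain ⟨σ, hσ, e, hσE, heE, h⟩ := key _ hd'
  rw [IsScalarTower.algebraMap_apply A D (FractionRing D), ← mul_assoc, ← map_mul, ← map_mul] at h
  have h' : (σ : S) * algebraMap A S a * d = e :=
    congrArg Subtype.val (IsFractionRing.injective D (FractionRing D) h)
  refine mem_of_mul_mem hE (mul_mem hσE (E.algebraMap_mem a)) (h' ▸ heE)
    (mul_mem (mem_nonZeroDivisors_coe hmin σ hσ) (algebraMap_mem_nonZeroDivisors (E := S) ha))

end Groth.Agent.SubSh14
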