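import Mathlib
import Groth.Agent.SubSh14.SubFrac
import Groth.Agent.SubSh14.Maximal
import Groth.Agent.SubSh14.Unram

/-!
Intersections of intermediate rings with the integral closure.
-/

set_option autoImplicit false

open IsLocalRing
open scoped nonZeroDivisors

namespace Groth.Agent.SubSh14

universe u

variable {A : Type u} [CommRing A] [IsLocalRing A] [IsReduced A] [IsNoetherianRing A]
  {E : Type u} [CommRing E] [IsLocalRing E] [Algebra A E] [IsLocalHom (algebraMap A E)]
  (hE : EGA4loc.IsEssentiallyEtale A E)
  (L : Subalgebra A (FractionRing E))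
  (hL : ∀ s ∈ A⁰, ∃ y ∈ L, algebraMap A (FractionRing E) s * y = 1)

omit [IsLocalHom (algebraMap A E)] in
include hE hL in
theorem exists_mul_inv {l : FractionRing E} (hl : l ∈ L) :
    ∃ e : E, algebraMap E (FractionRing E) e ∈ L ∧ ∃ s ∈ A⁰, ∃ y ∈ L,
      algebraMap A (FractionRing E) s * y = 1 ∧ l = algebraMap E (FractionRing E) e * y := by
  have := EssEt14.formallyEtale hE
  have := EssEt14.essFiniteType hE
  have := flat hE
  have := isLocalization_fractionRing (minimalPrimes.finite_of_isNoetherianRing A) E
  obtain ⟨⟨e, ⟨_, a, ha, rfl⟩⟩, he⟩ := IsLocalization.surj (Algebra.algebraMapSubmonoid E A⁰) l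
  obtain ⟨y, hy, hay⟩ := hL a ha
  rw [← IsScalarTower.algebraMap_apply] at he
  refine ⟨e, ?_, a, ha, y, hy, hay, ?_⟩
  · rw [← he]
    exact mul_mem hl (L.algebraMap_mem a)
  · rw [← he, mul_assoc, hay, mul_one]

omit [IsLocalHom (algebraMap A E)] in
include hE hL in
theorem inv_mem {c z : FractionRing E} (hc : c ∈ L) (h : c * z = 1) : z ∈ L := by
  have := EssEt14.formallyEtale hE
  have := EssEt14.essFiniteType hE
  have := flat hE
  obtain ⟨e, he, b, hb, y, hy, hby, rfl⟩ := exists_mul_inv hE L hL hc
  have hu : IsUnit (algebraMap E (FractionRing E) e) :=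
    isUnit_of_mul_isUnit_left (show IsUnit (algebraMap E (FractionRing E) e * (y * z)) by
      rw [← mul_assoc, h]; exact isUnit_one)
  obtain ⟨w, hw, a, ha, hea⟩ := exists_mul_eq (minimalPrimes.finite_of_isNoetherianRing A) (s := e) fun w _ hw =>
    IsFractionRing.injective E (FractionRing E) (by
      rw [map_zero]; exact hu.mul_right_eq_zero.1 (by rw [← map_mul, hw, map_zero]))
  obtain ⟨y', hy', hay'⟩ := hL a ha
  have hw' : algebraMap E (FractionRing E) w ∈ L :=
    (Algebra.adjoin_le (S := L.comap (IsScalarTower.toAlgHom A E (FractionRing E))) (Set.singleton_subset_iff.2 he)) hw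
  have hz : z = algebraMap A (FractionRing E) b * algebraMap E (FractionRing E) w * y' := by
    have h1 : algebraMap E (FractionRing E) e * algebraMap E (FractionRing E) w = algebraMap A (FractionRing E) a := by
      rw [← map_mul, hea, ← IsScalarTower.algebraMap_apply]
    calc z = z * (algebraMap E (FractionRing E) e * algebraMap E (FractionRing E) w * y') *
          (algebraMap A (FractionRing E) b * y) := by rw [h1, hay', hby, mul_one, mul_one]
      _ = (algebraMap E (FractionRing E) e * y * z) * (algebraMap A (FractionRing E) b *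
          algebraMap E (FractionRing E) w * y') := by ring
      _ = _ := by rw [h, one_mul]
  rw [hz]
  exact mul_mem (mul_mem (L.algebraMap_mem b) hw') hy'

omit [IsNoetherianRing A] [IsReduced A] in
include hE in
theorem isMaximal_comap_algHom {E' : Type u} [CommRing E'] [Algebra A E'] [Algebra E E'] [IsScalarTower A E E']
    [Algebra.IsIntegral E E'] {C : Type u} [CommRing C] [Algebra A C] (g : C →ₐ[A] E')
    (M : Ideal E') [hM : M.IsMaximal] : (M.comap g.toRingHom).IsMaximal := by
  let π : E' →+* E' ⧸ M := Ideal.Quotient.mk M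
  have hE' : RingHom.IsIntegral (π.comp (algebraMap E E')) :=
    RingHom.IsIntegral.trans _ _ (Algebra.IsIntegral.isIntegral (R := E) (A := E'))
      (RingHom.isIntegral_of_surjective _ Ideal.Quotient.mk_surjective)
  have hmax : (M.comap (algebraMap E E')).IsMaximal := Ideal.isMaximal_comap_of_isIntegral_of_isMaximal M
  let l : ResidueField E →+* E' ⧸ M :=
    Ideal.Quotient.lift _ (π.comp (algebraMap E E')) fun x hx =>
      Ideal.Quotient.eq_zero_iff_mem.2 ((eq_maximalIdeal hmax).ge hx)
  have := EssEt14.formallyEtale hE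
  have := EssEt14.essFiniteType hE
  have : Module.Finite (ResidueField A) (ResidueField E) := Algebra.FormallyUnramified.finite_of_free _ _
  have hA : RingHom.IsIntegral ((l.comp (algebraMap (ResidueField A) (ResidueField E))).comp (residue A)) :=
    RingHom.IsIntegral.trans _ _ (RingHom.isIntegral_of_surjective _ residue_surjective)
      (RingHom.IsIntegral.trans _ _ (Algebra.IsIntegral.isIntegral (R := ResidueField A) (A := ResidueField E))
        (RingHom.IsIntegral.tower_top (residue E) l hE'))
  have heq : (π.comp g.toRingHom).comp (algebraMap A C) =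
      (l.comp (algebraMap (ResidueField A) (ResidueField E))).comp (residue A) := by
    ext a
    change π (g (algebraMap A C a)) = π (algebraMap E E' (algebraMap A E a))
    rw [g.commutes, ← IsScalarTower.algebraMap_apply]
  have hC : (π.comp g.toRingHom).IsIntegral := RingHom.IsIntegral.tower_top _ _ (heq ▸ hA)
  let _ := Ideal.Quotient.field M
  have h := Ideal.isMaximal_comap_of_isIntegral_of_isMaximal' (π.comp g.toRingHom) hC (⊥ : Ideal (E' ⧸ M))
  rwa [← Ideal.comap_comap, ← RingHom.ker_eq_comap_bot, Ideal.mk_ker] at h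

omit [IsNoetherianRing A] [IsReduced A] in
include hE in
theorem isMaximal_comap (C : Subalgebra A (FractionRing E))
    (hle : C ≤ (integralClosure E (FractionRing E)).restrictScalars A)
    (M : Ideal ((integralClosure E (FractionRing E)).restrictScalars A)) (hM : M.IsMaximal) :
    (M.comap (Subalgebra.inclusion hle)).IsMaximal :=
  have : M.IsMaximal := hM
  let E' := (integralClosure E (FractionRing E)).restrictScalars A
  let p : E →+* E' := algebraMap E (integralClosure E (FractionRing E))
  letI : Algebra E E' := p.toAlgebra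
  have : IsScalarTower A E E' := IsScalarTower.of_algebraMap_eq fun a =>
    Subtype.ext (IsScalarTower.algebraMap_apply A E (FractionRing E) a)
  have hp : p.IsIntegral := fun x => Algebra.IsIntegral.isIntegral (R := E) (A := integralClosure E (FractionRing E)) x
  have : Algebra.IsIntegral E E' := ⟨hp⟩
  isMaximal_comap_algHom hE (Subalgebra.inclusion hle) M

omit [IsLocalHom (algebraMap A E)] [IsReduced A] in
include hE in
theorem finite_maximal :
    {M : Ideal ((integralClosure E (FractionRing E)).restrictScalars A) | M.IsMaximal}.Finite := by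
  have := isNoetherianRing hE
  exact finite_maximal_integralClosure E

include hE hL in
theorem isMaximal_iff (C : Subalgebra A (FractionRing E))
    (hC : C = L ⊓ (integralClosure E (FractionRing E)).restrictScalars A) (N : Ideal C) :
    N.IsMaximal ↔ ∃ M : Ideal ((integralClosure E (FractionRing E)).restrictScalars A),
          M.IsMaximal ∧ N = M.comap (Subalgebra.inclusion (hC.trans_le inf_le_right)) := by
  classical
  refine ⟨fun hN => ?_, fun ⟨M, hM, h⟩ => h ▸ isMaximal_comap hE C _ M hM⟩
  let ι := Subalgebra.inclusion (hC.trans_le inf_le_right)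
  have hfin := finite_maximal (A := A) hE
  have hsub : (N : Set C) ⊆ ⋃ M ∈ (hfin.toFinset : Set (Ideal ((integralClosure E (FractionRing E)).restrictScalars A))),
      ((M.comap ι : Ideal C) : Set C) := by
    intro c hc
    by_contra hc'
    have hu : IsUnit (ι c) := by
      by_contra hu
      obtain ⟨M, hM, hcM⟩ := exists_max_ideal_of_mem_nonunits hu
      exact hc' (Set.mem_biUnion (hfin.mem_toFinset.2 hM) hcM)
    obtain ⟨z, hz⟩ := isUnit_iff_exists_inv.1 hu
    have hcL : (c : FractionRing E) ∈ L := (hC.trans_le inf_le_left) c.2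
    have hzC : (z : FractionRing E) ∈ C := hC ▸ ⟨inv_mem hE L hL hcL (congrArg Subtype.val hz), z.2⟩
    exact hN.ne_top (Ideal.eq_top_of_isUnit_mem _ hc
      (isUnit_iff_exists_inv.2 ⟨⟨z, hzC⟩, Subtype.ext (show (c : FractionRing E) * z = 1 from congrArg Subtype.val hz)⟩))
  obtain ⟨M, hM, hNM⟩ := (Ideal.subset_union_prime ⊥ ⊥
    fun M hM _ _ => (isMaximal_comap hE C _ M (hfin.mem_toFinset.1 hM)).isPrime).1 hsub
  have hM' := isMaximal_comap hE C (hC.trans_le inf_le_right) M (hfin.mem_toFinset.1 hM)
  exact ⟨M, hfin.mem_toFinset.1 hM, hN.eq_of_le hM'.ne_top hNM⟩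

end Groth.Agent.SubSh14
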