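import Mathlib
import Groth.Agent.SubSh14.Basic

/-!
Localised adjoined subalgebras inside a local ring.
-/

set_option autoImplicit false

open IsLocalRing

namespace Groth.Agent.SubSh14

universe u

variable {A S : Type u} [CommRing A] [CommRing S] [Algebra A S]

/-- The elements which are quotients of polynomial expressions in `s` by units. -/
def localSub (A : Type u) {S : Type u} [CommRing A] [CommRing S] [Algebra A S] (s : Set S) : Subalgebra A S where
  carrier := {x | ∃ b ∈ Algebra.adjoin A s, IsUnit b ∧ b * x ∈ Algebra.adjoin A s}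
  mul_mem' := by
    rintro x y ⟨b, hb, hbu, hbx⟩ ⟨c, hc, hcu, hcy⟩
    exact ⟨b * c, mul_mem hb hc, hbu.mul hcu, by rw [mul_mul_mul_comm]; exact mul_mem hbx hcy⟩
  one_mem' := ⟨1, one_mem _, isUnit_one, by rw [mul_one]; exact one_mem _⟩
  add_mem' := by
    rintro x y ⟨b, hb, hbu, hbx⟩ ⟨c, hc, hcu, hcy⟩
    refine ⟨b * c, mul_mem hb hc, hbu.mul hcu, ?_⟩
    rw [show b * c * (x + y) = b * x * c + b * (c * y) by ring]
    exact add_mem (mul_mem hbx hc) (mul_mem hb hcy)
  zero_mem' := ⟨1, one_mem _, isUnit_one, by rw [mul_zero]; exact zero_mem _⟩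
  algebraMap_mem' a := ⟨1, one_mem _, isUnit_one, by rw [one_mul]; exact Subalgebra.algebraMap_mem _ a⟩

theorem subset_localSub (s : Set S) : s ⊆ (localSub A s : Set S) := fun x hx =>
  ⟨1, one_mem _, isUnit_one, by rw [one_mul]; exact Algebra.subset_adjoin hx⟩

theorem adjoin_le_localSub (s : Set S) : Algebra.adjoin A s ≤ localSub A s :=
  Algebra.adjoin_le (subset_localSub s)

theorem exists_inv_mem_localSub (s : Set S) {x : S} (hx : x ∈ localSub A s) (hu : IsUnit x) :
    ∃ y ∈ localSub A s, x * y = 1 := by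
  obtain ⟨b, hb, hbu, hbx⟩ := hx
  obtain ⟨y, hy⟩ := isUnit_iff_exists_inv.1 hu
  exact ⟨y, ⟨b * x, hbx, hbu.mul hu, by rw [mul_assoc, hy, mul_one]; exact hb⟩, hy⟩

theorem isLocalHom_localSub (s : Set S) : IsLocalHom (algebraMap (localSub A s) S) := ⟨fun x hx => by
  obtain ⟨y, hy, hxy⟩ := exists_inv_mem_localSub s x.2 hx
  exact isUnit_iff_exists_inv.2 ⟨⟨y, hy⟩, Subtype.ext hxy⟩⟩

theorem isLocalRing_localSub [IsLocalRing S] (s : Set S) : IsLocalRing (localSub A s) :=
  have := isLocalHom_localSub (A := A) s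
  RingHom.domain_isLocalRing (algebraMap (localSub A s) S)

theorem essFiniteType_localSub (s : Finset S) : Algebra.EssFiniteType A (localSub A (s : Set S)) := by
  classical
  rw [Algebra.essFiniteType_iff]
  let σ : Finset (localSub A (s : Set S)) := s.attach.image fun x => ⟨x.1, subset_localSub _ x.2⟩
  have hσ : ∀ z : S, z ∈ Algebra.adjoin A (s : Set S) →
      ∃ z' ∈ Algebra.adjoin A (σ : Set (localSub A (s : Set S))), (z' : S) = z := fun z hz => by
    have : Algebra.adjoin A (s : Set S) ≤ (Algebra.adjoin A (σ : Set (localSub A (s : Set S)))).map (localSub A (s : Set S)).val := by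
      rw [AlgHom.map_adjoin]
      refine Algebra.adjoin_mono fun x hx => ⟨⟨x, subset_localSub _ hx⟩, ?_, rfl⟩
      exact Finset.mem_coe.2 (Finset.mem_image.2 ⟨⟨x, hx⟩, Finset.mem_attach _ _, rfl⟩)
    exact this hz
  refine ⟨σ, fun x => ?_⟩
  obtain ⟨b, hb, hbu, hbx⟩ := x.2
  obtain ⟨b', hb', rfl⟩ := hσ b hb
  obtain ⟨c', hc', hc⟩ := hσ _ hbx
  refine ⟨b', hb', (isLocalHom_localSub _).map_nonunit b' hbu, ?_⟩
  have : x * b' = c' := Subtype.ext (hc ▸ mul_comm _ _)
  rw [this]
  exact hc'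

theorem localSub_le (D : Subalgebra A S) [IsLocalHom (algebraMap D S)] {s : Set S} (hs : s ⊆ (D : Set S)) :
    localSub A s ≤ D := by
  rintro x ⟨b, hb, hbu, hbx⟩
  have hle := Algebra.adjoin_le (S := D) hs
  obtain ⟨c, hc⟩ := isUnit_iff_exists_inv.1
    (isUnit_of_map_unit (algebraMap D S) (⟨b, hle hb⟩ : D) (show IsUnit (algebraMap D S ⟨b, hle hb⟩) from hbu))
  have hc' : b * (c : S) = 1 := congrArg Subtype.val hc
  have : x = (c : S) * (b * x) := by rw [← mul_assoc, mul_comm (c : S), hc', one_mul]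
  rw [this]
  exact mul_mem c.2 (hle hbx)

theorem localSub_mono {s t : Set S} (h : s ⊆ t) : localSub A s ≤ localSub A t :=
  fun _ ⟨b, hb, hbu, hbx⟩ => ⟨b, Algebra.adjoin_mono h hb, hbu, Algebra.adjoin_mono h hbx⟩

end Groth.Agent.SubSh14
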