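import Mathlib
import Groth.Agent.SubSh14.Unram
import Groth.Agent.SubSh14.LocalSub
import Groth.Agent.SubSh14.SubFrac
import Groth.Agent.Unr55.EtAscent
import Groth.Agent.Hensel20.HenzProps

/-!
Normal dominated subalgebras of the strict henselization of a normal local domain.
-/

set_option autoImplicit false

open IsLocalRing
open scoped nonZeroDivisors TensorProduct

namespace Groth.Agent.SubSh14

universe u

/-- A finite normal algebra inside an essentially etale algebra of a normal domain. -/
theorem flat_of_isIntegral {A : Type u} [CommRing A] [IsLocalRing A]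
    {E : Type u} [CommRing E] [IsLocalRing E] [Algebra A E] (hE : EGA4loc.IsEssentiallyEtale A E)
    {B : Type u} [CommRing B] [IsDomain B] [IsIntegrallyClosed B] [Algebra A B] [Algebra.IsIntegral A B]
    [Algebra B E] [IsScalarTower A B E] : Module.Flat B E := by
  obtain ⟨C, _, _, q, _, hC, hq, ⟨e⟩⟩ := hE
  have := hC
  letI : Algebra C E := ((e.symm : Localization.AtPrime q →+* E).comp (algebraMap C (Localization.AtPrime q))).toAlgebra
  have : IsScalarTower A C E := IsScalarTower.of_algebraMap_eq fun a => by
    change _ = e.symm (algebraMap C (Localization.AtPrime q) (algebraMap A C a))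
    rw [← IsScalarTower.algebraMap_apply, e.symm.commutes]
  have hloc : IsLocalization q.primeCompl E :=
    IsLocalization.isLocalization_of_algEquiv q.primeCompl
      (AlgEquiv.ofRingEquiv (f := e.symm.toRingEquiv) fun _ => rfl : Localization.AtPrime q ≃ₐ[C] E)
  let T := B ⊗[A] C
  let μ : T →ₐ[A] E := Algebra.TensorProduct.productMap (IsScalarTower.toAlgHom A B E) (IsScalarTower.toAlgHom A C E)
  have hμC : ∀ c : C, μ (1 ⊗ₜ[A] c) = algebraMap C E c := fun c => by
    refine (Algebra.TensorProduct.productMap_apply_tmul _ _ _ _).trans ?_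
    rw [map_one, one_mul]
    rfl
  have hμB : ∀ b : B, μ (b ⊗ₜ[A] 1) = algebraMap B E b := fun b => by
    refine (Algebra.TensorProduct.productMap_apply_tmul _ _ _ _).trans ?_
    rw [map_one, mul_one]
    rfl
  let P : Ideal T := (maximalIdeal E).comap μ.toRingHom
  have : P.IsPrime := Ideal.comap_isPrime _ _
  obtain ⟨hdom, -⟩ := Unr55.isNormalDomain_localization_of_etale (A := B) P
  let R := Localization.AtPrime P
  let φ : R →+* E := IsLocalization.lift (M := P.primeCompl) (g := μ.toRingHom) fun y => notMem_maximalIdeal.1 y.2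
  have hφ : ∀ t, φ (algebraMap T R t) = μ t := fun t => IsLocalization.lift_eq _ t
  let j : C →+* R := (algebraMap T R).comp (Algebra.TensorProduct.includeRight : C →ₐ[A] T).toRingHom
  have hjunit : ∀ y : q.primeCompl, IsUnit (j y) := fun y => by
    refine IsLocalization.map_units (M := P.primeCompl) R ⟨_, fun h => ?_⟩
    change μ (1 ⊗ₜ[A] (y : C)) ∈ maximalIdeal E at h
    rw [hμC] at h
    exact h (IsLocalization.map_units E y)
  let ψ : E →+* R := IsLocalization.lift (M := q.primeCompl) (g := j) hjunit
  have hψ : ∀ c, ψ (algebraMap C E c) = j c := fun c => IsLocalization.lift_eq _ c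
  have hφψ : φ.comp ψ = RingHom.id E := by
    refine IsLocalization.ringHom_ext q.primeCompl (RingHom.ext fun c => ?_)
    change φ (ψ (algebraMap C E c)) = algebraMap C E c
    rw [hψ]
    exact (hφ _).trans (hμC c)
  have hsurj : Function.Surjective φ := fun x => ⟨ψ x, RingHom.congr_fun hφψ x⟩
  have hTint : ∀ t : T, ψ.IsIntegralElem (algebraMap T R t) := fun t => by
    induction t using TensorProduct.induction_on with
    | zero => rw [map_zero]; exact ψ.isIntegralElem_zero
    | add x y hx hy => rw [map_add]; exact hx.add ψ hy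
    | tmul b c =>
      have hb : ψ.IsIntegralElem (algebraMap T R (b ⊗ₜ[A] 1)) := by
        obtain ⟨p, hp, hpb⟩ := Algebra.IsIntegral.isIntegral (R := A) b
        refine ⟨p.map (algebraMap A E), hp.map _, ?_⟩
        have hA : ψ.comp (algebraMap A E) =
            ((algebraMap T R).comp (Algebra.TensorProduct.includeLeft : B →ₐ[A] T).toRingHom).comp (algebraMap A B) := by
          ext a
          change ψ (algebraMap A E a) = algebraMap T R ((Algebra.TensorProduct.includeLeft : B →ₐ[A] T) (algebraMap A B a))
          rw [AlgHom.commutes, IsScalarTower.algebraMap_apply A C E, hψ]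
          change algebraMap T R ((Algebra.TensorProduct.includeRight : C →ₐ[A] T) (algebraMap A C a)) = _
          rw [AlgHom.commutes]
        rw [Polynomial.eval₂_map, hA]
        change Polynomial.eval₂ _ (((algebraMap T R).comp (Algebra.TensorProduct.includeLeft : B →ₐ[A] T).toRingHom) b) p = 0
        rw [← Polynomial.hom_eval₂, hpb, map_zero]
      have hc : ψ.IsIntegralElem (algebraMap T R (1 ⊗ₜ[A] c)) := by
        rw [show algebraMap T R (1 ⊗ₜ[A] c) = ψ (algebraMap C E c) from (hψ c).symm]
        exact ψ.isIntegralElem_map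
      rw [show b ⊗ₜ[A] c = (b ⊗ₜ[A] (1 : C)) * ((1 : B) ⊗ₜ[A] c) by
        rw [Algebra.TensorProduct.tmul_mul_tmul, mul_one, one_mul], map_mul]
      exact hb.mul ψ hc
  have hinj : Function.Injective φ := by
    rw [injective_iff_map_eq_zero]
    intro z hz
    by_contra hne
    obtain ⟨t, u, rfl⟩ := IsLocalization.exists_mk'_eq P.primeCompl z
    have ht : φ (algebraMap T R t) = 0 := by
      rw [← IsLocalization.mk'_spec R t u, map_mul, hz, zero_mul]
    have ht0 : algebraMap T R t ≠ 0 := fun h => hne (by
      rw [← (IsLocalization.map_units R u).mul_left_eq_zero, IsLocalization.mk'_spec, h])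
    letI := ψ.toAlgebra
    refine Ideal.comap_ne_bot_of_integral_mem (I := RingHom.ker φ) ht0 ht (hTint t) ?_
    rw [eq_bot_iff]
    intro x hx
    have h : φ (ψ x) = 0 := hx
    rwa [← RingHom.comp_apply, hφψ] at h
  have : Module.Flat A C := inferInstance
  have : Module.Flat B T := inferInstance
  have : Module.Flat B R := Module.Flat.trans B T R
  have hφB : ∀ b, φ (algebraMap B R b) = algebraMap B E b := fun b => by
    rw [IsScalarTower.algebraMap_apply B T R, hφ, Algebra.TensorProduct.algebraMap_apply]
    exact hμB b
  exact Module.Flat.of_linearEquiv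
    ({ (RingEquiv.ofBijective φ ⟨hinj, hsurj⟩).symm.toAddEquiv with
      map_smul' := fun b x => by
        apply hinj
        change φ ((RingEquiv.ofBijective φ ⟨hinj, hsurj⟩).symm (b • x)) = φ (b • (RingEquiv.ofBijective φ ⟨hinj, hsurj⟩).symm x)
        rw [Algebra.smul_def b x, Algebra.smul_def b ((RingEquiv.ofBijective φ ⟨hinj, hsurj⟩).symm x), map_mul φ, hφB,
          ← RingEquiv.coe_toRingHom]
        exact ((RingEquiv.ofBijective φ ⟨hinj, hsurj⟩).apply_symm_apply _).trans
          (congrArg _ ((RingEquiv.ofBijective φ ⟨hinj, hsurj⟩).apply_symm_apply x).symm) } : E ≃ₗ[B] R)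

theorem isDomain_isIntegrallyClosed_of_essEtale {A : Type u} [CommRing A] [IsLocalRing A] [IsDomain A]
    [IsIntegrallyClosed A] {E : Type u} [CommRing E] [Algebra A E] (hE : EGA4loc.IsEssentiallyEtale A E) :
    IsDomain E ∧ IsIntegrallyClosed E := by
  obtain ⟨C, _, _, q, _, hC, hq, ⟨e⟩⟩ := hE
  have := hC
  obtain ⟨h1, h2⟩ := Unr55.isNormalDomain_localization_of_etale (A := A) q
  exact ⟨e.toRingEquiv.injective.isDomain e.toRingEquiv.toRingHom, IsIntegrallyClosed.of_equiv e.toRingEquiv.symm⟩

/-- The integral closure in a dominated normal subalgebra is finite. -/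
theorem finite_integralClosure {A : Type u} [CommRing A] [IsLocalRing A] [IsDomain A] [IsIntegrallyClosed A]
    [IsNoetherianRing A] {E : Type u} [CommRing E] [IsLocalRing E] [Algebra A E]
    (hE : EGA4loc.IsEssentiallyEtale A E) : Module.Finite A (integralClosure A E) := by
  obtain ⟨_, _⟩ := isDomain_isIntegrallyClosed_of_essEtale hE
  have := EssEt14.formallyEtale hE
  have := EssEt14.essFiniteType hE
  have := flat hE
  have hmin := minimalPrimes.finite_of_isNoetherianRing A
  have := isLocalization_fractionRing hmin E
  have hinj : Function.Injective (algebraMap A E) := by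
    rw [injective_iff_map_eq_zero]
    intro a ha
    by_contra hne
    exact nonZeroDivisors.ne_zero (algebraMap_mem_nonZeroDivisors (E := E) (mem_nonZeroDivisors_of_ne_zero hne)) ha
  have : FaithfulSMul A E := (faithfulSMul_iff_algebraMap_injective A E).2 hinj
  have : FaithfulSMul A (FractionRing E) := (faithfulSMul_iff_algebraMap_injective A (FractionRing E)).2 (by
    rw [IsScalarTower.algebraMap_eq A E]
    exact (IsFractionRing.injective E (FractionRing E)).comp hinj)
  let K := FractionRing A
  let F := FractionRing E
  letI : Algebra K F := FractionRing.liftAlgebra A F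
  obtain ⟨t, ht⟩ := exists_finset_span hmin E
  have : Module.Finite K F := ⟨⟨t, eq_top_iff.2 fun x _ => by
    obtain ⟨a, ha, hax⟩ := ht x
    have hane : algebraMap A K a ≠ 0 := fun h => nonZeroDivisors.ne_zero ha
      (IsFractionRing.injective A K (by rw [h, map_zero]))
    have : algebraMap A K a • x ∈ Submodule.span K (t : Set F) := by
      rw [algebraMap_smul, Algebra.smul_def]
      exact Submodule.span_le_restrictScalars A K _ hax
    exact (Submodule.smul_mem_iff _ hane).1 this⟩⟩
  have : Algebra.FormallyEtale E F := .of_isLocalization E⁰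
  have : Algebra.FormallyUnramified A F := .comp A E F
  have : Algebra.FormallyUnramified K F := .of_restrictScalars A _ _
  have : Algebra.IsSeparable K F := Algebra.FormallyUnramified.isSeparable K F
  have := IsIntegralClosure.finite A K F (integralClosure A F)
  let ι : integralClosure A E →ₐ[A] integralClosure A F :=
    ((IsScalarTower.toAlgHom A E F).comp (integralClosure A E).val).codRestrict _ fun x => x.2.map (IsScalarTower.toAlgHom A E F)
  exact Module.Finite.of_injective ι.toLinearMap fun x y h =>
    Subtype.ext (IsFractionRing.injective E F (congrArg Subtype.val h))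

variable {A S : Type u} [CommRing A] [IsLocalRing A] [IsDomain A] [IsIntegrallyClosed A] [IsNoetherianRing A]
  [CommRing S] [IsLocalRing S] [Algebra A S] [IsLocalHom (algebraMap A S)] [Hensel.IsStrictHenselization A S]

/-- Normal dominated subalgebras contained in a stage are essentially etale. -/
theorem essEtale_of_le (D : Subalgebra A S) [IsLocalRing D] [IsLocalHom (algebraMap D S)] [IsDomain D]
    [IsIntegrallyClosed D] (E : Subalgebra A S) [IsLocalRing E] (hE : EGA4loc.IsEssentiallyEtale A E)
    (hDE : D ≤ E) : EGA4loc.IsEssentiallyEtale A D := by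
  classical
  obtain ⟨_, _⟩ := isDomain_isIntegrallyClosed_of_essEtale hE
  obtain ⟨hSdom, -⟩ : IsDomain S ∧ IsIntegrallyClosed S :=
    (Hensel20.isNormal_iff_of_equiv (Henz21.strictHenselizationEquiv (R := A) S)).2 ⟨inferInstance, inferInstance⟩
  have := isLocalHom E hE
  have := faithfullyFlat E hE
  have := EssEt14.formallyEtale hE
  have := EssEt14.essFiniteType hE
  have := flat hE
  let i := Subalgebra.inclusion hDE
  let B₀ := integralClosure A D
  have hfin : Module.Finite A B₀ := by
    have := finite_integralClosure hE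
    let ι : B₀ →ₐ[A] integralClosure A E := (i.comp B₀.val).codRestrict _ fun x => x.2.map i
    exact Module.Finite.of_injective ι.toLinearMap fun x y h =>
      Subtype.ext (Subalgebra.inclusion_injective hDE (congrArg Subtype.val h))
  let B : Subalgebra A S := B₀.map D.val
  have hBD : B ≤ D := by rintro _ ⟨x, -, rfl⟩; exact x.2
  let eB : B₀ ≃ₐ[A] B := Subalgebra.equivMapOfInjective B₀ D.val Subtype.val_injective
  have : Module.Finite A B := Module.Finite.equiv eB.toLinearEquiv
  have : Algebra.IsIntegral A B := inferInstance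
  have hmemB : ∀ x : D, IsIntegral A x → (x : S) ∈ B := fun x hx => ⟨x, hx, rfl⟩
  -- every element of `D` is a fraction
  have hfrac : ∀ x : D, ∃ a : A, a ≠ 0 ∧ (algebraMap A S a * x : S) ∈ B := fun x => by
    have hmin := minimalPrimes.finite_of_isNoetherianRing A
    let K := Localization A⁰
    let F := Localization (Algebra.algebraMapSubmonoid E A⁰)
    have hfin : Module.Finite K F := finite_localization_nonZeroDivisors hmin E
    have hint : IsIntegral K (algebraMap E F (i x)) := IsIntegral.of_finite K _
    obtain ⟨m, hm⟩ := hint.exists_multiple_integral_of_isLocalization A⁰ _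
    refine ⟨m, nonZeroDivisors.ne_zero m.2, hmemB (algebraMap A D m * x) ?_⟩
    rw [Submonoid.smul_def, Algebra.smul_def, IsScalarTower.algebraMap_apply A E F, ← map_mul] at hm
    have h := (isIntegral_algHom_iff (IsScalarTower.toAlgHom A E F) (injective_toLocalization (A := A) (E := E))).1 hm
    refine (isIntegral_algHom_iff i (Subalgebra.inclusion_injective hDE)).1 ?_
    rwa [map_mul, i.commutes]
  have : IsDomain B := Subalgebra.isDomain B
  have : IsIntegrallyClosed B := by
    let j : B →+* D := (Subalgebra.inclusion hBD).toRingHom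
    let g : B →+* FractionRing D := (algebraMap D (FractionRing D)).comp j
    have hg : Function.Injective g :=
      (IsFractionRing.injective D (FractionRing D)).comp (Subalgebra.inclusion_injective hBD)
    rw [isIntegrallyClosed_iff (FractionRing B)]
    intro x hx
    let G : FractionRing B →+* FractionRing D := IsFractionRing.lift hg
    have hG : ∀ b, G (algebraMap B _ b) = g b := fun b => IsFractionRing.lift_algebraMap hg b
    have hxD : IsIntegral D (G x) := by
      obtain ⟨p, hp, hpx⟩ := hx
      refine ⟨p.map j, hp.map j, ?_⟩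
      rw [Polynomial.eval₂_map]
      have := congrArg G hpx
      rw [Polynomial.hom_eval₂, map_zero] at this
      rwa [show (algebraMap D (FractionRing D)).comp j = G.comp (algebraMap B (FractionRing B)) from
        RingHom.ext fun b => (hG b).symm]
    obtain ⟨d, hd⟩ := IsIntegrallyClosed.isIntegral_iff.1 hxD
    have hdA : IsIntegral A d := by
      obtain ⟨p, hp, hpx⟩ := isIntegral_trans (R := A) x hx
      refine ⟨p, hp, IsFractionRing.injective D (FractionRing D) ?_⟩
      rw [Polynomial.hom_eval₂, map_zero, hd]
      have := congrArg G hpx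
      rw [Polynomial.hom_eval₂, map_zero] at this
      rwa [show (algebraMap D (FractionRing D)).comp (algebraMap A D) = G.comp (algebraMap A (FractionRing B)) from
        RingHom.ext fun a => by
          change algebraMap D _ (algebraMap A D a) = G (algebraMap A (FractionRing B) a)
          rw [IsScalarTower.algebraMap_apply A B (FractionRing B), hG]
          rfl]
    refine ⟨⟨d, hmemB d hdA⟩, G.injective ?_⟩
    rw [hG, ← hd]
    rfl
  letI : Algebra B E := (Subalgebra.inclusion (hBD.trans hDE)).toRingHom.toAlgebra
  have : IsScalarTower A B E := IsScalarTower.of_algHom (Subalgebra.inclusion (hBD.trans hDE))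
  have : Module.Flat B E := flat_of_isIntegral hE
  -- the localization
  obtain ⟨s, hs⟩ := Module.Finite.fg_top (R := A) (M := B)
  let s' : Finset S := s.image B.val
  have hadj : Algebra.adjoin A (s' : Set S) = B := by
    refine le_antisymm (Algebra.adjoin_le fun y hy => ?_) fun y hy => ?_
    · obtain ⟨z, -, rfl⟩ := Finset.mem_image.1 hy
      exact z.2
    · have h : (⟨y, hy⟩ : B) ∈ Submodule.span A (s : Set B) := hs ▸ Submodule.mem_top
      have := Submodule.apply_mem_span_image_of_mem_span B.val.toLinearMap h
      rw [show (s' : Set S) = B.val '' (s : Set B) from Finset.coe_image]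
      exact Algebra.span_le_adjoin A _ this
  let D₁ := localSub A (s' : Set S)
  have := isLocalRing_localSub (A := A) (s' : Set S)
  have := isLocalHom_localSub (A := A) (s' : Set S)
  have := essFiniteType_localSub (A := A) s'
  have hBD₁ : B ≤ D₁ := hadj.symm.le.trans (adjoin_le_localSub _)
  have hD₁D : D₁ ≤ D := localSub_le D fun y hy => hBD (hadj.le (Algebra.subset_adjoin hy))
  letI : Algebra B D₁ := (Subalgebra.inclusion hBD₁).toRingHom.toAlgebra
  have : IsLocalization ((IsUnit.submonoid S).comap B.val) D₁ := by
    constructor; constructor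
    · exact fun y => (‹IsLocalHom (algebraMap D₁ S)›).map_nonunit _ y.2
    · intro x
      obtain ⟨b, hb, hbu, hbx⟩ := x.2
      exact ⟨(⟨b * x, hadj.le hbx⟩, ⟨⟨b, hadj.le hb⟩, hbu⟩), Subtype.ext (mul_comm _ _)⟩
    · intro x y h
      exact ⟨1, congrArg (_ * ·) (Subtype.ext (congrArg (Subtype.val : D₁ → S) h))⟩
  letI : Algebra D₁ E := (Subalgebra.inclusion (hD₁D.trans hDE)).toRingHom.toAlgebra
  have : IsScalarTower B D₁ E := IsScalarTower.of_algebraMap_eq fun _ => rfl
  have : Algebra.FormallyEtale B D₁ := .of_isLocalization ((IsUnit.submonoid S).comap B.val)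
  have : Algebra.EssFiniteType B D₁ := .of_isLocalization D₁ ((IsUnit.submonoid S).comap B.val)
  have : Module.Flat D₁ E := Hensel20.flat_of_formallyUnramified B D₁ E
  have : IsLocalHom (algebraMap D₁ E) := ⟨fun x hx =>
    (‹IsLocalHom (algebraMap D₁ S)›).map_nonunit x (hx.map E.val)⟩
  have : Module.FaithfullyFlat D₁ E := Module.FaithfullyFlat.of_flat_of_isLocalHom
  have : IsScalarTower A D₁ E := IsScalarTower.of_algHom (Subalgebra.inclusion (hD₁D.trans hDE))
  have hm₁ : (maximalIdeal A).map (algebraMap A D₁) = maximalIdeal D₁ := by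
    rw [← Ideal.comap_map_eq_self_of_faithfullyFlat (B := E) ((maximalIdeal A).map (algebraMap A D₁)),
      Ideal.map_map, ← IsScalarTower.algebraMap_eq, EssEt14.map_maximalIdeal hE, maximalIdeal_comap]
  have hD₁ : EGA4loc.IsEssentiallyEtale A D₁ := essEtale_of_map_eq D₁ hm₁
  have hle : D ≤ D₁ := fun x hx => by
    obtain ⟨a, ha, hax⟩ := hfrac ⟨x, hx⟩
    exact mem_of_mul_mem hD₁ (D₁.algebraMap_mem a) (hBD₁ hax)
      (algebraMap_mem_nonZeroDivisors (E := S) (mem_nonZeroDivisors_of_ne_zero ha))
  exact of_algEquiv hD₁ (Subalgebra.equivOfEq _ _ (le_antisymm hD₁D hle))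

theorem exists_finset_fractionRing_of_closure (D : Subalgebra A S) [IsDomain D]
    (hfg : ∃ s : Finset D, Subfield.closure (Set.range (algebraMap A (FractionRing D)) ∪
        (algebraMap D (FractionRing D)) '' (s : Set D)) = ⊤) :
    ∃ E : Subalgebra A S, D ≤ E ∧ ∃ _ : IsLocalRing E, EGA4loc.IsEssentiallyEtale A E := by
  classical
  obtain ⟨hSdom, -⟩ : IsDomain S ∧ IsIntegrallyClosed S :=
    (Hensel20.isNormal_iff_of_equiv (Henz21.strictHenselizationEquiv (R := A) S)).2 ⟨inferInstance, inferInstance⟩
  obtain ⟨s, hs⟩ := hfg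
  obtain ⟨E, hsE, hloc, hE⟩ := exists_stage (A := A) (s.image D.val)
  refine ⟨E, fun d hd => ?_, hloc, hE⟩
  have hz : algebraMap D (FractionRing D) ⟨d, hd⟩ ∈ Subfield.closure (Set.range (algebraMap A (FractionRing D)) ∪
        (algebraMap D (FractionRing D)) '' (s : Set D)) := hs ▸ Subfield.mem_top _
  let M : Subring (FractionRing D) := (E.toSubring.comap D.val.toRingHom).map (algebraMap D (FractionRing D))
  have hM : ∀ y ∈ Subring.closure (Set.range (algebraMap A (FractionRing D)) ∪
        (algebraMap D (FractionRing D)) '' (s : Set D)), y ∈ M := fun y hy => by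
    refine (Subring.closure_le.2 ?_) hy
    rintro _ (⟨a, rfl⟩ | ⟨x, hx, rfl⟩)
    · exact ⟨algebraMap A D a, E.algebraMap_mem a, (IsScalarTower.algebraMap_apply A D _ a).symm⟩
    · exact ⟨x, hsE (Finset.mem_coe.2 (Finset.mem_image_of_mem _ hx)), rfl⟩
  obtain ⟨y, hy, z, hz', hyz⟩ := Subfield.mem_closure_iff.1 hz
  obtain ⟨y', hy', rfl⟩ := hM y hy
  obtain ⟨z', hz'', rfl⟩ := hM z hz'
  by_cases hz0 : z' = 0
  · subst hz0
    rw [map_zero, div_zero] at hyz
    have : (⟨d, hd⟩ : D) = 0 := IsFractionRing.injective D (FractionRing D) (by rw [← hyz, map_zero])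
    rw [show d = 0 from congrArg Subtype.val this]
    exact zero_mem E
  · rw [div_eq_iff (fun h => hz0 (IsFractionRing.injective D (FractionRing D) (by rw [h, map_zero]))), ← map_mul] at hyz
    have h' : (y' : S) = d * (z' : S) := congrArg Subtype.val (IsFractionRing.injective D (FractionRing D) hyz)
    exact mem_of_mul_mem hE (c := (z' : S)) hz'' (by rw [mul_comm, ← h']; exact hy')
      (mem_nonZeroDivisors_of_ne_zero fun h => hz0 (Subtype.ext h))

end Groth.Agent.SubSh14
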