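import Mathlib
import Groth.Agent.SubSh14.Normal
import Groth.Agent.SubSh14.Frac

/-!
Stalks of the normalization of an essentially etale algebra over normal integral algebras.
-/

set_option autoImplicit false

open IsLocalRing
open scoped nonZeroDivisors TensorProduct

namespace Groth.Agent.SubSh14

universe u

theorem exists_isIntegral_mul {A : Type u} [CommRing A] [IsReduced A] (hmin : (minimalPrimes A).Finite)
    (E : Type u) [CommRing E] [Algebra A E] [Algebra.EssFiniteType A E] [Algebra.FormallyUnramified A E]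
    [Module.Flat A E] (e : E) : ∃ a ∈ A⁰, IsIntegral A (algebraMap A E a * e) := by
  let ET := Localization (Algebra.algebraMapSubmonoid E A⁰)
  have hfin := finite_localization_nonZeroDivisors hmin E
  obtain ⟨⟨a, ha⟩, h⟩ := IsIntegral.exists_multiple_integral_of_isLocalization A⁰ (algebraMap E ET e)
    (IsIntegral.of_finite (Localization A⁰) _)
  refine ⟨a, ha, (isIntegral_algHom_iff (IsScalarTower.toAlgHom A E ET)
    (IsLocalization.injective ET (algebraMapSubmonoid_le (A := A) E))).1 ?_⟩
  have h2 : IsScalarTower.toAlgHom A E ET (algebraMap A E a * e) = (⟨a, ha⟩ : A⁰) • algebraMap E ET e := by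
    rw [map_mul, AlgHom.commutes, Submonoid.smul_def, Algebra.smul_def]
    rfl
  rw [h2]
  exact h

set_option maxHeartbeats 4000000 in
/-- In a field generated by an essentially etale algebra, a fraction of a normal integral subalgebra
lying in a stalk of the normalization lies in the corresponding stalk of the subalgebra. -/
theorem exists_sum_mem_of_isIntegrallyClosed {A E L : Type u} [CommRing A] [IsLocalRing A] [IsReduced A]
    (hmin : (minimalPrimes A).Finite) [CommRing E] [IsLocalRing E] [Algebra A E]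
    [IsLocalHom (algebraMap A E)] (hE : EGA4loc.IsEssentiallyEtale A E) [Field L] [Algebra A L] [Algebra E L]
    [IsScalarTower A E L] (hfrac : ∀ y : L, ∃ e e' : E, y = algebraMap E L e / algebraMap E L e')
    (hA : ∀ a ∈ A⁰, algebraMap A L a ≠ 0) (B : Subalgebra A L) [IsIntegrallyClosed B]
    (hB : ∀ b ∈ B, IsIntegral A b) (M : Ideal (integralClosure E L)) [M.IsMaximal]
    {k : ℕ} {b : L} {c : Fin k → L} (hb : b ∈ B) (hc : ∀ i, c i ∈ B) (e : Fin k → integralClosure E L)
    (s : integralClosure E L) (hs : s ∉ M) (h : (s : L) * b = ∑ i, c i * e i) :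
    ∃ r : integralClosure E L, r ∉ M ∧ (r : L) ∈ B ∧
      ∃ b' : Fin k → L, (∀ i, b' i ∈ B) ∧ (r : L) * b = ∑ i, c i * b' i := by
  have hfu := EssEt14.formallyEtale hE
  have hef := EssEt14.essFiniteType hE
  have hflat := SubSh14.flat hE
  have hint := exists_isIntegral_mul hmin E
  obtain ⟨C, _, _, Q, _, hC, hQ, ⟨ε⟩⟩ := hE
  have := hC
  letI : Algebra C E :=
    ((ε.symm : Localization.AtPrime Q →+* E).comp (algebraMap C (Localization.AtPrime Q))).toAlgebra
  have : IsScalarTower A C E := IsScalarTower.of_algebraMap_eq fun a => by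
    change _ = ε.symm (algebraMap C (Localization.AtPrime Q) (algebraMap A C a))
    rw [← IsScalarTower.algebraMap_apply, ε.symm.commutes]
  have hloc : IsLocalization Q.primeCompl E :=
    IsLocalization.isLocalization_of_algEquiv Q.primeCompl
      (AlgEquiv.ofRingEquiv (f := ε.symm.toRingEquiv) fun _ => rfl : Localization.AtPrime Q ≃ₐ[C] E)
  let T := B ⊗[A] C
  let Bbar := integralClosure E L
  have hBint : ∀ x : B, IsIntegral E (x : L) := fun x => (hB x x.2).tower_top
  let ι : B →ₐ[A] Bbar :=
    { toFun := fun x => ⟨x, hBint x⟩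
      map_one' := rfl
      map_mul' := fun _ _ => rfl
      map_zero' := rfl
      map_add' := fun _ _ => rfl
      commutes' := fun _ => rfl }
  let μ : T →ₐ[A] Bbar := Algebra.TensorProduct.productMap ι
    ((IsScalarTower.toAlgHom A E Bbar).comp (IsScalarTower.toAlgHom A C E))
  have hμC : ∀ x : C, μ (1 ⊗ₜ[A] x) = algebraMap E Bbar (algebraMap C E x) := fun x => by
    refine (Algebra.TensorProduct.productMap_apply_tmul _ _ _ _).trans ?_
    rw [map_one, one_mul]
    rfl
  have hμB : ∀ x : B, μ (x ⊗ₜ[A] 1) = ι x := fun x => by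
    refine (Algebra.TensorProduct.productMap_apply_tmul _ _ _ _).trans ?_
    rw [map_one, mul_one]
  let P : Ideal T := M.comap μ.toRingHom
  have : P.IsPrime := Ideal.comap_isPrime _ _
  obtain ⟨hdom, hnormal⟩ := Unr55.isNormalDomain_localization_of_etale (A := B) P
  let R := Localization.AtPrime P
  have hM : ∀ x : Bbar, (x : L) = 0 → x ∈ M := fun x hx => by
    rw [show x = 0 from Subtype.ext hx]
    exact zero_mem _
  let φ : R →+* L := IsLocalization.lift (M := P.primeCompl) (g := (algebraMap Bbar L).comp μ.toRingHom)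
    fun y => isUnit_iff_ne_zero.2 fun hy => y.2 (hM _ hy)
  have hφ : ∀ t, φ (algebraMap T R t) = (μ t : L) := fun t => IsLocalization.lift_eq _ t
  let j : C →+* R := (algebraMap T R).comp (Algebra.TensorProduct.includeRight : C →ₐ[A] T).toRingHom
  have hjunit : ∀ y : Q.primeCompl, IsUnit (j y) := fun y => by
    refine IsLocalization.map_units (M := P.primeCompl) R ⟨_, fun h => ?_⟩
    change μ (1 ⊗ₜ[A] (y : C)) ∈ M at h
    rw [hμC] at h
    exact Ideal.IsPrime.ne_top' (Ideal.eq_top_of_isUnit_mem _ h ((IsLocalization.map_units E y).map _))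
  let ψ : E →+* R := IsLocalization.lift (M := Q.primeCompl) (g := j) hjunit
  have hψ : ∀ x, ψ (algebraMap C E x) = j x := fun x => IsLocalization.lift_eq _ x
  have hφψ : φ.comp ψ = algebraMap E L := by
    refine IsLocalization.ringHom_ext Q.primeCompl (RingHom.ext fun x => ?_)
    change φ (ψ (algebraMap C E x)) = algebraMap E L (algebraMap C E x)
    rw [hψ]
    refine (hφ _).trans ?_
    change (μ (1 ⊗ₜ[A] x) : L) = _
    rw [hμC]
    rfl
  have hBR : ∀ x : B, algebraMap B R x = algebraMap T R (x ⊗ₜ[A] 1) := fun x => by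
    rw [IsScalarTower.algebraMap_apply B T R]
    rfl
  have hφB : ∀ x : B, φ (algebraMap B R x) = x := fun x => by
    rw [hBR, hφ, hμB]
    rfl
  have hψA : ∀ a : A, ψ (algebraMap A E a) = algebraMap B R (algebraMap A B a) := fun a => by
    rw [IsScalarTower.algebraMap_apply A C E, hψ, hBR]
    change algebraMap T R ((Algebra.TensorProduct.includeRight : C →ₐ[A] T) (algebraMap A C a)) =
      algebraMap T R ((Algebra.TensorProduct.includeLeft : B →ₐ[A] T) (algebraMap A B a))
    rw [AlgHom.commutes, AlgHom.commutes]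
  -- elements coming from `E` are algebraic over `B`
  have hψalg : ∀ x : E, IsAlgebraic B (ψ x) := fun x => by
    obtain ⟨a, ha, hax⟩ := hint x
    obtain ⟨f, hf, hfx⟩ := hax
    have h1 : IsIntegral B (ψ (algebraMap A E a * x)) := by
      refine ⟨f.map (algebraMap A B), hf.map _, ?_⟩
      have hc : (algebraMap B R).comp (algebraMap A B) = ψ.comp (algebraMap A E) :=
        RingHom.ext fun a => (hψA a).symm
      rw [Polynomial.eval₂_map, hc, ← Polynomial.hom_eval₂, hfx, map_zero]
    have h2 : algebraMap A B a • ψ x = ψ (algebraMap A E a * x) := by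
      rw [map_mul, hψA, Algebra.smul_def]
    have h3 : algebraMap A B a ∈ B⁰ := mem_nonZeroDivisors_of_ne_zero fun h0 =>
      hA a ha (congrArg Subtype.val h0 :)
    have h4 : IsAlgebraic B (algebraMap A B a • ψ x) := h2 ▸ h1.isAlgebraic
    exact h4.of_smul h3
  have hTalg : ∀ t : T, IsAlgebraic B (algebraMap T R t) := fun t => by
    change algebraMap T R t ∈ Subalgebra.algebraicClosure B R
    induction t using TensorProduct.induction_on with
    | zero => rw [map_zero]; exact zero_mem _
    | add x y hx hy => rw [map_add]; exact add_mem hx hy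
    | tmul x y =>
      rw [show x ⊗ₜ[A] y = (x ⊗ₜ[A] (1 : C)) * ((1 : B) ⊗ₜ[A] y) by
        rw [Algebra.TensorProduct.tmul_mul_tmul, mul_one, one_mul], map_mul]
      refine mul_mem ?_ ?_
      · rw [← hBR]
        exact Subalgebra.algebraMap_mem _ x
      · rw [show algebraMap T R (1 ⊗ₜ[A] y) = ψ (algebraMap C E y) from (hψ y).symm]
        exact hψalg _
  have hinj : Function.Injective φ := by
    rw [injective_iff_map_eq_zero]
    intro z hz
    by_contra hne
    obtain ⟨t, u, rfl⟩ := IsLocalization.exists_mk'_eq P.primeCompl z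
    have ht : φ (algebraMap T R t) = 0 := by
      rw [← IsLocalization.mk'_spec R t u, map_mul, hz, zero_mul]
    have ht0 : algebraMap T R t ≠ 0 := fun h => hne (by
      rw [← (IsLocalization.map_units R u).mul_left_eq_zero, IsLocalization.mk'_spec, h])
    obtain ⟨r, hr, w, hw⟩ := (hTalg t).exists_nonzero_dvd (mem_nonZeroDivisors_of_ne_zero ht0)
    exact hr (Subtype.ext (by rw [← hφB r, hw, map_mul, ht, zero_mul]; rfl))
  letI : Algebra R L := φ.toAlgebra
  have : FaithfulSMul R L := (faithfulSMul_iff_algebraMap_injective R L).2 hinj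
  have : IsFractionRing R L := IsFractionRing.of_field R L fun y => by
    obtain ⟨e1, e2, rfl⟩ := hfrac y
    exact ⟨ψ e1, ψ e2, by rw [← hφψ]; rfl⟩
  have := hnormal
  have hlift : ∀ x : Bbar, ∃ z : R, φ z = (x : L) := fun x => by
    obtain ⟨f, hf, hfx⟩ := x.2
    refine IsIntegrallyClosed.isIntegral_iff.1 (show IsIntegral R (x : L) from ⟨f.map ψ, hf.map _, ?_⟩)
    rw [Polynomial.eval₂_map]
    exact (congrArg (fun g : E →+* L => Polynomial.eval₂ g (x : L) f) hφψ).trans hfx
  have hsunit : ∀ x : Bbar, x ∉ M → ∀ z : R, φ z = (x : L) → IsUnit z := fun x hx z hz => by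
    obtain ⟨t, u, rfl⟩ := IsLocalization.exists_mk'_eq P.primeCompl z
    refine (IsLocalization.AtPrime.isUnit_mk'_iff R P t u).2 fun ht => hx ?_
    have h1 : μ t = x * μ (u : T) := Subtype.ext (by
      push_cast
      rw [← hz, ← hφ, ← hφ, ← map_mul, IsLocalization.mk'_spec])
    have ht' : μ t ∈ M := ht
    rw [h1] at ht'
    exact ((Ideal.IsPrime.mem_or_mem inferInstance ht').resolve_right u.2)
  choose z hz using fun i => hlift (e i)
  obtain ⟨w, hw⟩ := hlift s
  obtain ⟨v, hv⟩ := isUnit_iff_exists_inv.1 (hsunit s hs w hw)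
  -- `b` is a combination of the `c i` in `R`
  have hrel : (⟨b, hb⟩ : B) • (1 : R) + ∑ i, (⟨c i, hc i⟩ : B) • (-(v * z i)) = 0 := by
    apply hinj
    rw [map_zero, map_add, map_sum, Algebra.smul_def, map_mul, hφB, map_one, mul_one]
    have h1 : φ w * φ v = 1 := by rw [← map_mul, hv, map_one]
    rw [hw] at h1
    rw [Finset.sum_congr rfl (g := fun i => -(φ v * (c i * (e i : L)))) fun i _ => by
      rw [Algebra.smul_def, map_mul, hφB, map_neg, map_mul, hz]; ring]
    rw [Finset.sum_neg_distrib, ← Finset.mul_sum, ← h]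
    change b + -(φ v * ((s : L) * b)) = 0
    linear_combination -b * h1
  have : Module.Flat B R := Module.Flat.trans B T R
  obtain ⟨m, a, y, hy, hsum⟩ := Module.Flat.isTrivialRelation_of_sum_smul_eq_zero (R := B) (M := R)
    (f := Fin.cons (⟨b, hb⟩ : B) fun i => ⟨c i, hc i⟩) (x := Fin.cons (1 : R) fun i => -(v * z i)) (by
      rw [Fin.sum_univ_succ]
      simp only [Fin.cons_zero, Fin.cons_succ]
      exact hrel)
  by_contra hcon
  push Not at hcon
  have hmem : (1 : R) ∈ maximalIdeal R := by
    have h1 : (1 : R) = ∑ i, a 0 i • y i := by simpa using hy 0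
    rw [h1]
    refine sum_mem fun i _ => ?_
    rw [Algebra.smul_def]
    refine Ideal.mul_mem_right _ _ ?_
    rw [hBR, IsLocalization.AtPrime.to_map_mem_maximal_iff R P]
    change μ (a 0 i ⊗ₜ[A] 1) ∈ M
    rw [hμB]
    by_contra hnot
    have h2 := congrArg Subtype.val (hsum i)
    rw [Fin.sum_univ_succ] at h2
    simp only [Fin.cons_zero, Fin.cons_succ, Subalgebra.coe_add, Subalgebra.coe_mul,
      AddSubmonoidClass.coe_finsetSum, ZeroMemClass.coe_zero] at h2
    refine hcon (ι (a 0 i)) hnot (a 0 i).2 (fun j => -(a j.succ i : L)) (fun j => neg_mem (a j.succ i).2) ?_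
    change (a 0 i : L) * b = _
    simp only [mul_neg, Finset.sum_neg_distrib]
    linear_combination h2
  exact Ideal.IsPrime.ne_top' ((Ideal.eq_top_iff_one _).2 hmem)

end Groth.Agent.SubSh14
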