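import Mathlib
import Groth.Agent.SubSh14.Nagata
import Groth.Agent.SubSh14.NormalStalk
import Groth.Agent.SubSh14.Contract

/-!
Stalks of intermediate normalizations.
-/

set_option autoImplicit false

open IsLocalRing
open scoped nonZeroDivisors

namespace Groth.Agent.SubSh14

universe u

theorem exists_idempotent {R : Type u} [CommRing R] [IsReduced R] [IsArtinianRing R] (P : Ideal R) [P.IsPrime] :
    ∃ ε : R, ε - 1 ∈ P ∧ ∀ x ∈ P, ε * x = 0 := by
  classical
  have : P.IsMaximal := IsArtinianRing.isMaximal_of_isPrime P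
  refine ⟨(IsArtinianRing.equivPi R).symm (Pi.single ⟨P, this⟩ 1), ?_, fun x hx => ?_⟩
  · rw [← Ideal.Quotient.eq_zero_iff_mem, map_sub, map_one, sub_eq_zero]
    have h := congrFun ((IsArtinianRing.equivPi R).apply_symm_apply (Pi.single ⟨P, this⟩ 1)) ⟨P, this⟩
    rw [IsArtinianRing.equivPi_apply, Pi.single_eq_same] at h
    exact h
  · apply (IsArtinianRing.equivPi R).injective
    rw [map_mul, AlgEquiv.apply_symm_apply, map_zero]
    funext I
    by_cases h : I = ⟨P, this⟩
    · subst h
      rw [Pi.mul_apply, IsArtinianRing.equivPi_apply, Pi.zero_apply]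
      rw [show Ideal.Quotient.mk (⟨P, this⟩ : MaximalSpectrum R).asIdeal x = 0 from
        Ideal.Quotient.eq_zero_iff_mem.2 hx, mul_zero]
    · rw [Pi.mul_apply, Pi.single_eq_of_ne h, zero_mul, Pi.zero_apply]

theorem isReduced_of_essEtale {A E : Type u} [CommRing A] [IsLocalRing A] [IsReduced A] [CommRing E] [Algebra A E]
    (hE : EGA4loc.IsEssentiallyEtale A E) : IsReduced E := by
  obtain ⟨C, _, _, q, _, hC, -, ⟨e⟩⟩ := hE
  have := hC
  have : IsReduced C := Unr55.isReduced_of_etale (A := A)
  have : IsReduced (Localization.AtPrime q) := isReduced_localizationPreserves q.primeCompl _ inferInstance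
  exact isReduced_of_injective e e.injective

theorem mul_aeval_idempotent {A K : Type u} [CommRing A] [CommRing K] [Algebra A K] {ε : K} (hε : ε * ε = ε)
    (y : K) (f : Polynomial A) : ε * Polynomial.aeval (ε * y) f = ε * Polynomial.aeval y f := by
  induction f using Polynomial.induction_on' with
  | add p q hp hq => rw [map_add, map_add, mul_add, mul_add, hp, hq]
  | monomial n a =>
    rw [Polynomial.aeval_monomial, Polynomial.aeval_monomial]
    have h : ∀ n : ℕ, ε * (ε * y) ^ n = ε * y ^ n := fun n => by
      induction n with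
      | zero => simp
      | succ n ih => rw [pow_succ, ← mul_assoc, ih, pow_succ]; linear_combination (y ^ n * y) * hε
    linear_combination (algebraMap A K a) * h n

section

variable {A : Type u} [CommRing A] [IsLocalRing A] [IsReduced A] [IsNoetherianRing A]
  {E : Type u} [CommRing E] [IsLocalRing E] [Algebra A E] [IsLocalHom (algebraMap A E)]

omit [IsLocalHom (algebraMap A E)] in
theorem finiteDimensional_fractionRing (hE : EGA4loc.IsEssentiallyEtale A E)
    [Algebra (FractionRing A) (FractionRing E)] [IsScalarTower A (FractionRing A) (FractionRing E)] :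
    Module.Finite (FractionRing A) (FractionRing E) := by
  have := EssEt14.formallyEtale hE
  have := EssEt14.essFiniteType hE
  have := flat hE
  obtain ⟨t, ht⟩ := exists_finset_span (minimalPrimes.finite_of_isNoetherianRing A) E
  refine ⟨⟨t, eq_top_iff.2 fun x _ => ?_⟩⟩
  obtain ⟨a, ha, hax⟩ := ht x
  have h := Submodule.span_le_restrictScalars A (FractionRing A) (t : Set (FractionRing E)) hax
  rw [Submodule.restrictScalars_mem, IsScalarTower.algebraMap_apply A (FractionRing A) (FractionRing E),
    ← Algebra.smul_def] at h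
  exact (Submodule.smul_mem_iff_of_isUnit _ (IsLocalization.map_units _ (⟨a, ha⟩ : A⁰))).1 h

/-- The integral closure of an excellent base in the total ring of fractions is finite. -/
theorem finite_integralClosure_fractionRing (hG : CAlg.IsGRing A) (hE : EGA4loc.IsEssentiallyEtale A E) :
    Module.Finite A (integralClosure A (FractionRing E)) := by
  classical
  have := EssEt14.formallyEtale hE
  have := EssEt14.essFiniteType hE
  have := flat hE
  have := isNoetherianRing hE
  have : IsReduced E := isReduced_of_essEtale (A := A) hE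
  let K := FractionRing E
  have : IsReduced K := isReduced_localizationPreserves E⁰ _ inferInstance
  have : IsArtinianRing K := isArtinianRing_fractionRing E (minimalPrimes.finite_of_isNoetherianRing E)
  obtain ⟨t, ht⟩ := exists_finset_span (minimalPrimes.finite_of_isNoetherianRing A) E
  have hI : ∀ I : MaximalSpectrum K, Module.Finite A (integralClosure A (K ⧸ I.asIdeal)) := fun I => by
    letI := Ideal.Quotient.field I.asIdeal
    refine finite_integralClosure_field hG _ (t.image (Ideal.Quotient.mkₐ A I.asIdeal)) fun x => ?_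
    obtain ⟨x, rfl⟩ := Ideal.Quotient.mkₐ_surjective A I.asIdeal x
    obtain ⟨a, ha, hax⟩ := ht x
    refine ⟨a, ?_, ?_⟩
    · have h1 : IsUnit (algebraMap A K a) := by
        rw [IsScalarTower.algebraMap_apply A E K]
        exact IsLocalization.map_units K (⟨_, algebraMap_mem_nonZeroDivisors (E := E) ha⟩ : E⁰)
      rw [← (Ideal.Quotient.mkₐ A I.asIdeal).commutes]
      exact (h1.map (Ideal.Quotient.mkₐ A I.asIdeal)).ne_zero
    · rw [← (Ideal.Quotient.mkₐ A I.asIdeal).commutes, ← map_mul, Finset.coe_image]
      exact Submodule.apply_mem_span_image_of_mem_span (Ideal.Quotient.mkₐ A I.asIdeal).toLinearMap hax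
  let f : ∀ I : MaximalSpectrum K, integralClosure A K →ₐ[A] integralClosure A (K ⧸ I.asIdeal) := fun I =>
    ((Ideal.Quotient.mkₐ A I.asIdeal).comp (integralClosure A K).val).codRestrict _ fun z =>
      z.2.map (Ideal.Quotient.mkₐ A I.asIdeal)
  refine Module.Finite.of_injective (LinearMap.pi fun I => (f I).toLinearMap) fun x y hxy => ?_
  refine Subtype.ext ((IsArtinianRing.equivPi K).injective (funext fun I => ?_))
  rw [IsArtinianRing.equivPi_apply, IsArtinianRing.equivPi_apply]
  exact congrArg Subtype.val (congrFun hxy I)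

variable (hE : EGA4loc.IsEssentiallyEtale A E) (L : Subalgebra A (FractionRing E))
  (hL : ∀ s ∈ A⁰, ∃ y ∈ L, algebraMap A (FractionRing E) s * y = 1)

omit [IsLocalHom (algebraMap A E)] in
include hE hL in
theorem isArtinianRing_intermediate : IsArtinianRing L := by
  have hlift : ∀ s : A⁰, IsUnit (algebraMap A L s) := fun s => by
    obtain ⟨y, hy, hsy⟩ := hL s s.2
    exact isUnit_iff_exists_inv.2 ⟨⟨y, hy⟩, Subtype.ext hsy⟩
  have : IsArtinianRing (FractionRing A) :=
    isArtinianRing_fractionRing A (minimalPrimes.finite_of_isNoetherianRing A)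
  letI : Algebra (FractionRing A) L := (IsLocalization.lift (g := algebraMap A L) hlift).toAlgebra
  letI : Algebra (FractionRing A) (FractionRing E) :=
    (L.val.toRingHom.comp (algebraMap (FractionRing A) L)).toAlgebra
  have : IsScalarTower A (FractionRing A) (FractionRing E) := IsScalarTower.of_algebraMap_eq fun a =>
    (congrArg Subtype.val (IsLocalization.lift_eq hlift a)).symm
  have := finiteDimensional_fractionRing hE
  have : Module.Finite (FractionRing A) L := by
    let g : L →ₗ[FractionRing A] FractionRing E :=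
      { toFun := fun x => x.1
        map_add' := fun _ _ => rfl
        map_smul' := fun r x => by
          rw [RingHom.id_apply, Algebra.smul_def, Algebra.smul_def]
          rfl }
    exact Module.Finite.of_injective g Subtype.val_injective
  exact IsArtinianRing.of_finite (FractionRing A) L

set_option maxHeartbeats 800000 in
include hE hL in
/-- Stalks of the normalization are flat over the stalks of the integral elements of an intermediate
ring: linear relations descend. -/
theorem exists_sum_isIntegral
    (M : Ideal (integralClosure E (FractionRing E))) (hM : M.IsMaximal) {x : FractionRing E} (hxL : x ∈ L)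
    {k : ℕ} (c : Fin k → FractionRing E) (hcL : ∀ i, c i ∈ L) (hcA : ∀ i, IsIntegral A (c i))
    (e : Fin k → integralClosure E (FractionRing E)) (s : integralClosure E (FractionRing E)) (hs : s ∉ M)
    (hrel : (s : FractionRing E) * x = ∑ i, c i * e i) :
    ∃ r : integralClosure E (FractionRing E), r ∉ M ∧ (r : FractionRing E) ∈ L ∧
      IsIntegral A (r : FractionRing E) ∧ ∃ x' : Fin k → FractionRing E, (∀ i, x' i ∈ L) ∧
        (∀ i, IsIntegral A (x' i)) ∧ (r : FractionRing E) * x = ∑ i, c i * x' i := by
  classical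
  have := EssEt14.formallyEtale hE
  have := EssEt14.essFiniteType hE
  have := flat hE
  have := isNoetherianRing hE
  have hmin := minimalPrimes.finite_of_isNoetherianRing A
  have : IsReduced E := isReduced_of_essEtale (A := A) hE
  let K := FractionRing E
  have : IsReduced K := isReduced_localizationPreserves E⁰ _ inferInstance
  have : IsArtinianRing K := isArtinianRing_fractionRing E (minimalPrimes.finite_of_isNoetherianRing E)
  let E' := integralClosure E K
  have := Fintype.ofFinite (MaximalSpectrum K)
  obtain ⟨J, hJM⟩ : ∃ J : MaximalSpectrum K, J.asIdeal.comap (algebraMap E' K) ≤ M := by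
    have h1 : Finset.univ.inf (fun J : MaximalSpectrum K => J.asIdeal.comap (algebraMap E' K)) ≤ M := fun z hz => by
      have h2 : (z : K) = 0 := by
        refine (IsArtinianRing.equivPi K).injective (funext fun J => ?_)
        rw [IsArtinianRing.equivPi_apply, map_zero]
        have h3 := (Finset.inf_le (f := fun J : MaximalSpectrum K => J.asIdeal.comap (algebraMap E' K))
          (Finset.mem_univ J)) hz
        exact Ideal.Quotient.eq_zero_iff_mem.2 (Ideal.mem_comap.1 h3)
      rw [show z = 0 from Subtype.ext h2]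
      exact zero_mem _
    obtain ⟨J, -, hJ⟩ := (Ideal.IsPrime.inf_le' hM.isPrime).1 h1
    exact ⟨J, hJ⟩
  letI := Ideal.Quotient.field J.asIdeal
  let K' := K ⧸ J.asIdeal
  let π : K →ₐ[A] K' := Ideal.Quotient.mkₐ A J.asIdeal
  have : IsArtinianRing L := isArtinianRing_intermediate hE L hL
  have : IsReduced L := isReduced_of_injective L.val Subtype.val_injective
  let p : Ideal L := J.asIdeal.comap (L.val : L →ₐ[A] K)
  have : p.IsPrime := Ideal.comap_isPrime _ _
  obtain ⟨ε, hε1, hεp⟩ := exists_idempotent p
  have hπε : π (ε : K) = 1 := by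
    refine (Ideal.Quotient.eq).2 ?_
    exact hε1
  have hεε : (ε : K) * ε = ε := by
    have h := congrArg Subtype.val (hεp _ hε1)
    push_cast at h
    linear_combination h
  have hπa : ∀ a ∈ A⁰, algebraMap A K' a ≠ 0 := fun a ha => by
    rw [← π.commutes]
    refine (IsUnit.map π ?_).ne_zero
    rw [IsScalarTower.algebraMap_apply A E K]
    exact IsLocalization.map_units K (⟨_, algebraMap_mem_nonZeroDivisors (E := E) ha⟩ : E⁰)
  have hlift : ∀ y : K, y ∈ L → IsIntegral A (π y) → IsIntegral A ((ε : K) * y) := fun y hy ⟨f, hf, hfy⟩ => by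
    refine ⟨Polynomial.X * f, Polynomial.monic_X.mul hf, ?_⟩
    have h1 : Polynomial.aeval y f ∈ L := by
      have h := Polynomial.aeval_algHom_apply L.val (⟨y, hy⟩ : L) f
      exact h ▸ Subtype.prop _
    have h2 : (⟨_, h1⟩ : L) ∈ p := by
      change Polynomial.aeval y f ∈ J.asIdeal
      rw [← Ideal.Quotient.eq_zero_iff_mem]
      change π (Polynomial.aeval y f) = 0
      rw [← Polynomial.aeval_algHom_apply]
      exact hfy
    have h3 : (ε : K) * Polynomial.aeval y f = 0 := congrArg Subtype.val (hεp _ h2)
    rw [← Polynomial.aeval_def, map_mul, Polynomial.aeval_X, mul_right_comm, mul_aeval_idempotent hεε, h3,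
      zero_mul]
  let B : Subalgebra A K' := L.map π ⊓ integralClosure A K'
  have hBnormal : IsIntegrallyClosed B := by
    refine (isIntegrallyClosed_iff (FractionRing B)).2 fun {y} hy => ?_
    let φ : FractionRing B →ₐ[B] K' := IsFractionRing.liftAlgHom (g := Algebra.ofId B K') Subtype.val_injective
    have hφ : ∀ b : B, φ (algebraMap B (FractionRing B) b) = (b : K') := φ.commutes
    have : Algebra.IsIntegral A B := ⟨fun b =>
      (isIntegral_algHom_iff B.val Subtype.val_injective).1 b.2.2⟩
    have h1 : IsIntegral A (φ y) := isIntegral_trans (A := B) _ (hy.map φ)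
    obtain ⟨b, c, hc, rfl⟩ := IsFractionRing.div_surjective B y
    obtain ⟨lb, hlb, hlb'⟩ := b.2.1
    obtain ⟨lc, hlc, hlc'⟩ := c.2.1
    have hlcp : (⟨lc, hlc⟩ : L) ∉ p := fun hmem => nonZeroDivisors.ne_zero hc (Subtype.ext (by
      rw [← hlc']
      exact Ideal.Quotient.eq_zero_iff_mem.2 hmem))
    obtain ⟨w, i, hi, hwi⟩ := (IsArtinianRing.isMaximal_of_isPrime p).exists_inv hlcp
    have h2 : (φ (algebraMap B _ b / algebraMap B _ c)) = π (lb * w) := by
      rw [map_div₀, hφ, hφ, ← hlb', ← hlc']
      have h3 : π (w : K) * π lc = 1 := by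
        rw [← map_mul, ← map_one π]
        refine (Ideal.Quotient.eq).2 ?_
        rw [← neg_sub, neg_mem_iff, ← show ((w : K) * lc + (i : K)) = 1 from congrArg Subtype.val hwi,
          add_sub_cancel_left]
        exact hi
      change π lb / π lc = _
      rw [map_mul, div_eq_iff (fun h => by rw [h, mul_zero] at h3; exact zero_ne_one h3), mul_assoc, h3,
        mul_one]
    refine ⟨⟨_, ⟨lb * w, mul_mem hlb w.2, h2.symm⟩, h1⟩, ?_⟩
    apply φ.toRingHom.injective
    exact hφ _
  let g : E' →ₐ[E] integralClosure E K' :=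
    ((Ideal.Quotient.mkₐ E J.asIdeal).comp E'.val).codRestrict _ fun z =>
      z.2.map (Ideal.Quotient.mkₐ E J.asIdeal)
  obtain ⟨M', hM', hgM⟩ : ∃ M' : Ideal (integralClosure E K'), M'.IsMaximal ∧ M'.comap g.toRingHom = M := by
    letI := g.toRingHom.toAlgebra
    have : IsScalarTower E E' (integralClosure E K') := IsScalarTower.of_algebraMap_eq fun e => (g.commutes e).symm
    have : Algebra.IsIntegral E' (integralClosure E K') :=
      ⟨fun z => (Algebra.IsIntegral.isIntegral (R := E) z).tower_top⟩
    refine Ideal.exists_ideal_over_maximal_of_isIntegral M fun z hz => hJM ?_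
    exact Ideal.mem_comap.2 (Ideal.Quotient.eq_zero_iff_mem.1 (congrArg Subtype.val (RingHom.mem_ker.1 hz)))
  have := isLocalization_fractionRing hmin E
  obtain ⟨⟨e₀, ⟨_, a, ha, rfl⟩⟩, hxa⟩ := IsLocalization.surj (Algebra.algebraMapSubmonoid E A⁰) x
  obtain ⟨a', ha', hint⟩ := exists_isIntegral_mul hmin E e₀
  rw [← IsScalarTower.algebraMap_apply] at hxa
  have heq : algebraMap E K (algebraMap A E a' * e₀) = algebraMap A K (a' * a) * x := by
    rw [map_mul, map_mul, ← IsScalarTower.algebraMap_apply, ← hxa]
    ring
  have hb : π (algebraMap E K (algebraMap A E a' * e₀)) ∈ B := by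
    refine ⟨⟨_, ?_, rfl⟩, (hint.map (IsScalarTower.toAlgHom A E K)).map π⟩
    rw [SetLike.mem_coe, heq]
    exact mul_mem (L.algebraMap_mem _) hxL
  have hc : ∀ i, π (algebraMap A K (a' * a) * c i) ∈ B := fun i =>
    ⟨⟨_, mul_mem (L.algebraMap_mem _) (hcL i), rfl⟩, ((isIntegral_algebraMap.mul (hcA i)).map π)⟩
  obtain ⟨r', hr'M, hr'B, b', hb', hrb⟩ := exists_sum_mem_of_isIntegrallyClosed hmin hE (L := K')
    (fun y => by
      obtain ⟨y, rfl⟩ := Ideal.Quotient.mk_surjective y
      obtain ⟨⟨u, v⟩, huv⟩ := IsLocalization.surj E⁰ y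
      exact ⟨u, v, (eq_div_iff ((IsLocalization.map_units K v).map (Ideal.Quotient.mk J.asIdeal)).ne_zero).2
        ((map_mul (Ideal.Quotient.mk J.asIdeal) _ _).symm.trans (congrArg (Ideal.Quotient.mk J.asIdeal) huv))⟩)
    hπa B (fun y hy => hy.2) M' hb hc (fun i => g (e i)) (g s) (fun hmem => hs (hgM ▸ hmem))
    (by
      change π (s : K) * _ = ∑ i, _ * π (e i : K)
      rw [heq, ← map_mul, show (s : K) * (algebraMap A K (a' * a) * x) = algebraMap A K (a' * a) * ((s : K) * x) by ring,
        hrel, Finset.mul_sum, map_sum]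
      exact Finset.sum_congr rfl fun i _ => by rw [← mul_assoc, map_mul π _ (e i : K)])
  obtain ⟨l, hl, hlr⟩ := hr'B.1
  change π l = r' at hlr
  choose l' hl' hlr' using fun i => (hb' i).1
  have hπr : π ((ε : K) * l) = r' := by rw [map_mul, hπε, one_mul]; exact hlr
  have hrint : IsIntegral A ((ε : K) * l) := hlift l hl (hlr ▸ hr'B.2)
  refine ⟨⟨_, hrint.tower_top⟩, fun hmem => hr'M ?_, mul_mem ε.2 hl, hrint, fun i => (ε : K) * l' i,
    fun i => mul_mem ε.2 (hl' i), fun i => hlift _ (hl' i) (show IsIntegral A (π (l' i)) from (hlr' i).symm ▸ (hb' i).2), ?_⟩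
  · rw [← hgM, Ideal.mem_comap] at hmem
    convert hmem using 1
    exact Subtype.ext hπr.symm
  · have hd : l * x - ∑ i, c i * l' i ∈ L := sub_mem (mul_mem hl hxL) (sum_mem fun i _ => mul_mem (hcL i) (hl' i))
    have hdp : (⟨_, hd⟩ : L) ∈ p := by
      change l * x - ∑ i, c i * l' i ∈ J.asIdeal
      rw [← Ideal.Quotient.eq_zero_iff_mem]
      change π (l * x - ∑ i, c i * l' i) = 0
      have h2 : algebraMap A K' (a' * a) ≠ 0 := hπa _ (mul_mem ha' ha)
      have h3 : ∀ y, π (algebraMap A K (a' * a) * y) = algebraMap A K' (a' * a) * π y := fun y => by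
        rw [map_mul π (algebraMap A K (a' * a)) y, π.commutes]
      refine (mul_eq_zero.1 (show algebraMap A K' (a' * a) * π (l * x - ∑ i, c i * l' i) = 0 from ?_)).resolve_left h2
      have h4 : (r' : K') * (algebraMap A K' (a' * a) * π x) = ∑ i, algebraMap A K' (a' * a) * π (c i) * b' i := by
        rw [← h3, ← heq, hrb]
        exact Finset.sum_congr rfl fun i _ => by rw [h3]
      have h5 : ∀ i, π (l' i) = b' i := hlr'
      rw [map_sub, map_mul π l x, map_sum, hlr, mul_sub, Finset.mul_sum, sub_eq_zero]
      refine (by ring : _ = (r' : K') * (algebraMap A K' (a' * a) * π x)).trans (h4.trans ?_)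
      exact Finset.sum_congr rfl fun i _ => by rw [map_mul π (c i) (l' i), h5]; ring
    have h6 : (ε : K) * (l * x - ∑ i, c i * l' i) = 0 := congrArg Subtype.val (hεp _ hdp)
    rw [mul_sub, sub_eq_zero, Finset.mul_sum] at h6
    change (ε : K) * l * x = _
    rw [mul_assoc, h6]
    exact Finset.sum_congr rfl fun i _ => by ring

include hE hL in
/-- At a maximal ideal of the normalization, elements of an intermediate ring are fractions of
elements which are integral over the base. -/
theorem exists_isIntegral_mul_notMem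
    (M : Ideal (integralClosure E (FractionRing E))) (hM : M.IsMaximal) {x : FractionRing E} (hxL : x ∈ L)
    (hx : IsIntegral E x) :
    ∃ r : integralClosure E (FractionRing E), r ∉ M ∧ (r : FractionRing E) ∈ L ∧
      IsIntegral A (r : FractionRing E) ∧ IsIntegral A ((r : FractionRing E) * x) := by
  obtain ⟨r, hr, hrL, hrA, x', hx'L, hx'A, h⟩ := exists_sum_isIntegral hE L hL M hM hxL (k := 1) (fun _ => 1)
    (fun _ => one_mem L) (fun _ => isIntegral_one) (fun _ => ⟨x, hx⟩) 1
    ((Ideal.ne_top_iff_one _).1 hM.ne_top) (by simp)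
  refine ⟨r, hr, hrL, hrA, ?_⟩
  rw [h, Finset.sum_fin_eq_sum_range, Finset.sum_range_one]
  simpa using hx'A 0

end

end Groth.Agent.SubSh14
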