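import Mathlib
import Groth.Agent.Unr55.EtAscent

/-!
Local rings of etale algebras over rings with normal local rings, and of their localizations.
-/

set_option autoImplicit false

open IsLocalRing
open scoped TensorProduct

namespace Groth.Agent.SubSh14

universe u

attribute [local instance] Algebra.TensorProduct.rightAlgebra in
/-- The local ring of an etale algebra is the local ring of an etale algebra over a local ring. -/
theorem exists_etale_local (R T : Type u) [CommRing R] [CommRing T] [Algebra R T] [Algebra.Etale R T]
    (P : Ideal T) [P.IsPrime] :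
    (∀ z ∈ P, ∃ u ∉ P, u * z ∈ (P.comap (algebraMap R T)).map (algebraMap R T)) ∧
      (∀ (n : Ideal R) (_ : n.IsPrime), n = P.comap (algebraMap R T) →
        IsDomain (Localization.AtPrime n) → IsIntegrallyClosed (Localization.AtPrime n) →
        IsDomain (Localization.AtPrime P) ∧ IsIntegrallyClosed (Localization.AtPrime P)) := by
  let n := P.comap (algebraMap R T)
  let Rn := Localization.AtPrime n
  let T' := Rn ⊗[R] T
  have hloc : IsLocalization (Algebra.algebraMapSubmonoid T n.primeCompl) T' :=
    IsLocalization.tensorRight (R := R) (S := T) Rn n.primeCompl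
  have hdisj : Disjoint (Algebra.algebraMapSubmonoid T n.primeCompl : Set T) P := by
    refine Set.disjoint_left.2 ?_
    rintro _ ⟨r, hr, rfl⟩ hrP
    exact hr hrP
  let P' : Ideal T' := P.map (algebraMap T T')
  have hP' : P'.IsPrime := IsLocalization.isPrime_of_isPrime_disjoint _ T' P inferInstance hdisj
  have hP'P : P'.comap (algebraMap T T') = P :=
    IsLocalization.comap_map_of_isPrime_disjoint _ T' inferInstance hdisj
  let L := Localization.AtPrime P'
  have hL : IsLocalization.AtPrime L (P'.comap (algebraMap T T')) :=
    IsLocalization.isLocalization_isLocalization_atPrime_isLocalization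
      (Algebra.algebraMapSubmonoid T n.primeCompl) _ P'
  have hL' : IsLocalization P.primeCompl L := by
    have : P'.comap (algebraMap T T') = P := hP'P
    simpa [IsLocalization.AtPrime, Ideal.primeCompl, this] using hL
  have hcomp : (algebraMap T L).comp (algebraMap R T) = algebraMap R L := by
    rw [IsScalarTower.algebraMap_eq R T' L, IsScalarTower.algebraMap_eq T T' L, RingHom.comp_assoc]
    congr 1
    ext r
    change algebraMap T T' (algebraMap R T r) = algebraMap R T' r
    rw [← IsScalarTower.algebraMap_apply]
  refine ⟨fun z hz => ?_, fun n' _ hn' hd hic => ?_⟩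
  · have hlocal : IsLocalHom (algebraMap Rn L) := by
      have h : (maximalIdeal L).comap (algebraMap Rn L) = maximalIdeal Rn := by
        apply (IsLocalization.orderEmbedding n.primeCompl Rn).injective
        show Ideal.comap (algebraMap R Rn) _ = Ideal.comap (algebraMap R Rn) _
        rw [Ideal.comap_comap, ← IsScalarTower.algebraMap_eq, ← hcomp, ← Ideal.comap_comap]
        exact (congrArg (Ideal.comap (algebraMap R T)) (IsLocalization.AtPrime.under_maximalIdeal L P)).trans
          (IsLocalization.AtPrime.under_maximalIdeal Rn n).symm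
      exact ((local_hom_TFAE (algebraMap Rn L)).out 0 4).2 h
    have : Algebra.FormallyUnramified T' L := .of_isLocalization P'.primeCompl
    have : Algebra.FormallyUnramified Rn L := .comp Rn T' L
    have : Algebra.EssFiniteType T' L := .of_isLocalization L P'.primeCompl
    have : Algebra.EssFiniteType Rn L := .comp Rn T' L
    have hmax : algebraMap T L z ∈ maximalIdeal L := by
      rw [IsLocalization.AtPrime.to_map_mem_maximal_iff L P]
      exact hz
    rw [← Algebra.FormallyUnramified.map_maximalIdeal (R := Rn) (S := L), ← Localization.AtPrime.map_eq_maximalIdeal,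
      Ideal.map_map, ← IsScalarTower.algebraMap_eq, ← hcomp, ← Ideal.map_map,
      IsLocalization.mem_map_algebraMap_iff P.primeCompl] at hmax
    obtain ⟨⟨⟨a, ha⟩, u⟩, hau⟩ := hmax
    rw [← map_mul] at hau
    obtain ⟨c, hc⟩ := IsLocalization.exists_of_eq (M := P.primeCompl) hau
    refine ⟨c * u, (c * u).2, ?_⟩
    rw [show (c : T) * (u : T) * z = (c : T) * a by rw [← hc]; ring]
    exact Ideal.mul_mem_left _ _ ha
  · subst hn'
    obtain ⟨h1, h2⟩ := Unr55.isNormalDomain_localization_of_etale (A := Rn) P'
    let e := (IsLocalization.algEquiv P.primeCompl L (Localization.AtPrime P)).toRingEquiv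
    exact ⟨e.symm.injective.isDomain e.symm.toRingHom,
      by exact IsIntegrallyClosed.of_equiv (R := L) (S := Localization.AtPrime P) (h := h2) e⟩

/-- The same for a localization of an etale algebra. -/
theorem exists_etale_local_of_isLocalization (R T₀ T : Type u) [CommRing R] [CommRing T₀] [CommRing T]
    [Algebra R T₀] [Algebra R T] [Algebra T₀ T] [IsScalarTower R T₀ T] [Algebra.Etale R T₀]
    (M : Submonoid T₀) [IsLocalization M T] (P : Ideal T) [P.IsPrime] :
    (∀ z ∈ P, ∃ u ∉ P, u * z ∈ (P.comap (algebraMap R T)).map (algebraMap R T)) ∧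
      (∀ (n : Ideal R) (_ : n.IsPrime), n = P.comap (algebraMap R T) →
        IsDomain (Localization.AtPrime n) → IsIntegrallyClosed (Localization.AtPrime n) →
        IsDomain (Localization.AtPrime P) ∧ IsIntegrallyClosed (Localization.AtPrime P)) := by
  let P₀ := P.comap (algebraMap T₀ T)
  obtain ⟨hU, hN⟩ := exists_etale_local R T₀ P₀
  have hn : P₀.comap (algebraMap R T₀) = P.comap (algebraMap R T) := by
    rw [Ideal.comap_comap, ← IsScalarTower.algebraMap_eq]
  refine ⟨fun z hz => ?_, fun n hnp hn' hd hic => ?_⟩
  · obtain ⟨⟨t, s⟩, hts⟩ := IsLocalization.surj M z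
    have ht : t ∈ P₀ := by
      change algebraMap T₀ T t ∈ P
      rw [← hts]
      exact P.mul_mem_right _ hz
    obtain ⟨u, hu, hut⟩ := hU t ht
    obtain ⟨v, hv⟩ := isUnit_iff_exists_inv.1 (IsLocalization.map_units T s)
    refine ⟨algebraMap T₀ T u, hu, ?_⟩
    rw [hn] at hut
    have h1 := Ideal.mem_map_of_mem (algebraMap T₀ T) hut
    rw [Ideal.map_map, ← IsScalarTower.algebraMap_eq, map_mul, ← hts] at h1
    rw [show algebraMap T₀ T u * z =
      algebraMap T₀ T u * (z * algebraMap T₀ T s) * v by rw [mul_assoc, mul_assoc z, hv, mul_one]]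
    exact Ideal.mul_mem_right _ _ h1
  · obtain ⟨h1, h2⟩ := hN n hnp (hn'.trans hn.symm) hd hic
    have : IsLocalization P₀.primeCompl (Localization.AtPrime P) :=
      IsLocalization.isLocalization_isLocalization_atPrime_isLocalization M (Localization.AtPrime P) P
    let e := (IsLocalization.algEquiv P₀.primeCompl (Localization.AtPrime P₀) (Localization.AtPrime P)).toRingEquiv
    exact ⟨e.symm.injective.isDomain e.symm.toRingHom, IsIntegrallyClosed.of_equiv e⟩

end Groth.Agent.SubSh14
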