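import Mathlib
import Groth.Agent.SubSh14.EtaleLocal
import Groth.Agent.SubSh14.SubFrac
import Groth.Agent.VarDim1.TotalRing

/-!
Normalization commutes with essentially etale base change.
-/

set_option autoImplicit false

open IsLocalRing
open scoped nonZeroDivisors TensorProduct


namespace Groth.Agent.SubSh14

universe u

variable {A : Type u} [CommRing A] {E : Type u} [CommRing E] [Algebra A E] [Module.Flat A E]

variable (A E) in
/-- The map of total rings of fractions. -/
noncomputable def liftBase : FractionRing A →ₐ[A] FractionRing E :=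
  IsLocalization.liftAlgHom (M := A⁰) (f := Algebra.ofId A (FractionRing E)) fun a => by
    change IsUnit (algebraMap A (FractionRing E) a)
    rw [IsScalarTower.algebraMap_apply A E (FractionRing E)]
    exact IsLocalization.map_units (FractionRing E) (⟨_, algebraMap_mem_nonZeroDivisors (E := E) a.2⟩ : E⁰)

variable (A E) in
/-- The map from the base change of the normalization. -/
noncomputable def normMap : integralClosure A (FractionRing A) ⊗[A] E →ₐ[A] FractionRing E :=
  Algebra.TensorProduct.productMap ((liftBase A E).comp (integralClosure A (FractionRing A)).val)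
    (IsScalarTower.toAlgHom A E (FractionRing E))

theorem normMap_tmul (x : integralClosure A (FractionRing A)) (e : E) :
    normMap A E (x ⊗ₜ[A] e) = liftBase A E x * algebraMap E (FractionRing E) e :=
  Algebra.TensorProduct.productMap_apply_tmul _ _ _ _

theorem normMap_one_tmul (e : E) :
    normMap A E (1 ⊗ₜ[A] e) = algebraMap E (FractionRing E) e := by
  rw [normMap_tmul, OneMemClass.coe_one, map_one, one_mul]

omit [Module.Flat A E] in
theorem exists_smul_eq_one_tmul (z : integralClosure A (FractionRing A) ⊗[A] E) :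
    ∃ a ∈ A⁰, ∃ e : E, a • z = 1 ⊗ₜ[A] e := by
  induction z using TensorProduct.induction_on with
  | zero => exact ⟨1, one_mem _, 0, by rw [smul_zero, TensorProduct.tmul_zero]⟩
  | tmul x e =>
    obtain ⟨⟨b, a⟩, hab⟩ := IsLocalization.surj A⁰ (x : FractionRing A)
    refine ⟨a, a.2, b • e, ?_⟩
    rw [TensorProduct.smul_tmul', show (a : A) • x = b • 1 from Subtype.ext (by
      rw [Subalgebra.coe_smul, Subalgebra.coe_smul, Algebra.smul_def, Algebra.smul_def, OneMemClass.coe_one, mul_one,
        mul_comm]
      exact hab), TensorProduct.smul_tmul]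
  | add z w hz hw =>
    obtain ⟨a, ha, e, he⟩ := hz
    obtain ⟨b, hb, f, hf⟩ := hw
    refine ⟨a * b, mul_mem ha hb, b • e + a • f, ?_⟩
    rw [smul_add, TensorProduct.tmul_add, TensorProduct.tmul_smul, TensorProduct.tmul_smul, ← he, ← hf,
      smul_smul, smul_smul, mul_comm b a]

theorem isSMulRegular_tensor {a : A} (ha : a ∈ A⁰) :
    IsSMulRegular (integralClosure A (FractionRing A) ⊗[A] E) a := by
  have h : Function.Injective (LinearMap.lsmul A (integralClosure A (FractionRing A)) a) := fun x y h => by
    refine Subtype.ext ((IsLocalization.map_units (FractionRing A) (⟨a, ha⟩ : A⁰)).mul_left_cancel ?_)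
    have := congrArg Subtype.val h
    simpa [Algebra.smul_def] using this
  intro z w hzw
  apply Module.Flat.rTensor_preserves_injective_linearMap (M := E) _ h
  have hlin : (LinearMap.lsmul A (integralClosure A (FractionRing A)) a).rTensor E =
      LinearMap.lsmul A (integralClosure A (FractionRing A) ⊗[A] E) a := by
    refine TensorProduct.ext' fun x e => ?_
    simp [TensorProduct.smul_tmul']
  rw [hlin]
  exact hzw

theorem normMap_injective : Function.Injective (normMap A E) := by
  rw [injective_iff_map_eq_zero]
  intro z hz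
  obtain ⟨a, ha, e, he⟩ := exists_smul_eq_one_tmul z
  have h : algebraMap E (FractionRing E) e = 0 := by
    rw [← normMap_one_tmul (A := A), ← he, map_smul, hz, smul_zero]
  rw [IsFractionRing.injective E (FractionRing E) (h.trans (map_zero _).symm), TensorProduct.tmul_zero] at he
  exact isSMulRegular_tensor ha (he.trans (smul_zero a).symm)

theorem isIntegral_liftBase {x : FractionRing A} (hx : IsIntegral A x) :
    IsIntegral A (liftBase A E x) := hx.map _

theorem isIntegral_normMap (z : integralClosure A (FractionRing A) ⊗[A] E) :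
    IsIntegral E (normMap A E z) := by
  induction z using TensorProduct.induction_on with
  | zero => rw [map_zero]; exact isIntegral_zero
  | add z w hz hw => rw [map_add]; exact hz.add hw
  | tmul x e =>
    rw [normMap_tmul]
    exact (isIntegral_liftBase x.2).tower_top.mul isIntegral_algebraMap

variable [IsLocalRing A]

omit [Module.Flat A E] in
/-- The base change of an algebra is a localization of an etale algebra. -/
theorem exists_etale_local_tensor (hE : EGA4loc.IsEssentiallyEtale A E) (R : Type u) [CommRing R] [Algebra A R]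
    (P : Ideal (R ⊗[A] E)) [P.IsPrime] :
    (∀ z ∈ P, ∃ u ∉ P, u * z ∈ (P.comap (algebraMap R (R ⊗[A] E))).map (algebraMap R (R ⊗[A] E))) ∧
      ((∀ n : Ideal R, ∀ _ : n.IsPrime,
          IsDomain (Localization.AtPrime n) ∧ IsIntegrallyClosed (Localization.AtPrime n)) →
        IsDomain (Localization.AtPrime P) ∧ IsIntegrallyClosed (Localization.AtPrime P)) := by
  obtain ⟨C, _, _, Q, _, hC, hQ, ⟨ε⟩⟩ := hE
  have := hC
  letI : Algebra C E :=
    ((ε.symm : Localization.AtPrime Q →+* E).comp (algebraMap C (Localization.AtPrime Q))).toAlgebra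
  have : IsScalarTower A C E := IsScalarTower.of_algebraMap_eq fun a => by
    change _ = ε.symm (algebraMap C (Localization.AtPrime Q) (algebraMap A C a))
    rw [← IsScalarTower.algebraMap_apply, ε.symm.commutes]
  have hloc : IsLocalization Q.primeCompl E :=
    IsLocalization.isLocalization_of_algEquiv Q.primeCompl
      (AlgEquiv.ofRingEquiv (f := ε.symm.toRingEquiv) fun _ => rfl : Localization.AtPrime Q ≃ₐ[C] E)
  let T₀ := R ⊗[A] C
  let T := R ⊗[A] E
  let g : T₀ →ₐ[R] T := Algebra.TensorProduct.map (AlgHom.id R R) (IsScalarTower.toAlgHom A C E)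
  letI : Algebra T₀ T := g.toRingHom.toAlgebra
  have : IsScalarTower R T₀ T := IsScalarTower.of_algebraMap_eq fun r => (g.commutes r).symm
  have hloc' : IsLocalization (Q.primeCompl.map (Algebra.TensorProduct.includeRight (R := A) (A := R))) T :=
    IsLocalization.tensorProduct_tensorProduct_right A R Q.primeCompl E (RingHom.ext fun c => by
      change g (1 ⊗ₜ[A] c) = 1 ⊗ₜ[A] algebraMap C E c
      exact Algebra.TensorProduct.map_tmul _ _ _ _)
  obtain ⟨hU, hN⟩ := exists_etale_local_of_isLocalization R T₀ T
    (Q.primeCompl.map (Algebra.TensorProduct.includeRight (R := A) (A := R))) P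
  exact ⟨hU, fun hn => hN _ inferInstance rfl (hn _ inferInstance).1 (hn _ inferInstance).2⟩

omit [Module.Flat A E] in
/-- A tensor product with locally normal factor is integrally closed in the total ring of fractions. -/
theorem mem_range_of_normal (hE : EGA4loc.IsEssentiallyEtale A E) (R : Type u) [CommRing R] [Algebra A R]
    (hR : ∀ n : Ideal R, ∀ _ : n.IsPrime, IsDomain (Localization.AtPrime n) ∧ IsIntegrallyClosed (Localization.AtPrime n))
    (hreg : ∀ a ∈ A⁰, IsSMulRegular (R ⊗[A] E) a) (ν : R ⊗[A] E →ₐ[A] FractionRing E)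
    (hν : Function.Injective ν) (hν1 : ∀ e, ν (1 ⊗ₜ[A] e) = algebraMap E (FractionRing E) e)
    (hloc : IsLocalization (Algebra.algebraMapSubmonoid E A⁰) (FractionRing E))
    (hAK : ∀ a ∈ A⁰, IsUnit (algebraMap A (FractionRing E) a))
    {x : FractionRing E} (hx : IsIntegral E x) : x ∈ ν.range := by
  let T := R ⊗[A] E
  obtain ⟨⟨e, ⟨_, a, ha, rfl⟩⟩, hxa⟩ := IsLocalization.surj (Algebra.algebraMapSubmonoid E A⁰) x
  rw [← IsScalarTower.algebraMap_apply] at hxa
  let I : Ideal T :=
    { carrier := {u | ν u * x ∈ ν.range}
      add_mem' := fun {a b} ha hb => by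
        change ν (a + b) * x ∈ ν.range
        rw [map_add, add_mul]; exact add_mem ha hb
      zero_mem' := by
        change ν 0 * x ∈ ν.range
        rw [map_zero, zero_mul]; exact zero_mem _
      smul_mem' := fun c u hu => by
        change ν (c * u) * x ∈ ν.range
        rw [map_mul, mul_assoc]; exact mul_mem ⟨c, rfl⟩ hu }
  suffices h : (1 : T) ∈ I by
    have h' : ν 1 * x ∈ ν.range := h
    rwa [map_one, one_mul] at h'
  by_contra h1
  obtain ⟨P, hP, hIP⟩ := Ideal.exists_le_maximal I fun h => h1 (h ▸ Submodule.mem_top)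
  obtain ⟨-, hN⟩ := exists_etale_local_tensor hE R P
  obtain ⟨_, _⟩ := hN hR
  let TP := Localization.AtPrime P
  let F := FractionRing TP
  let j : T →+* F := (algebraMap TP F).comp (algebraMap T TP)
  have hregj : ∀ {a : A}, a ∈ A⁰ → j (algebraMap A T a) ≠ 0 := fun {b} hb h0 => by
    have h2 : algebraMap T TP (algebraMap A T b) = 0 :=
      IsFractionRing.injective TP F (h0.trans (map_zero _).symm)
    obtain ⟨u, hu⟩ := (IsLocalization.map_eq_zero_iff P.primeCompl TP _).1 h2
    have : (u : T) = 0 := hreg b hb (show b • (u : T) = b • 0 by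
      rw [smul_zero, Algebra.smul_def, mul_comm]; exact hu)
    exact u.2 (this ▸ zero_mem P)
  have hνa : ν (algebraMap A T a) = algebraMap A (FractionRing E) a := ν.commutes a
  -- the element in the local ring
  let t : T := 1 ⊗ₜ[A] e
  let y : F := j t / j (algebraMap A T a)
  obtain ⟨f, hf, hfx⟩ := hx
  have hy : IsIntegral TP y := by
    refine ⟨f.map ((algebraMap T TP).comp (Algebra.TensorProduct.includeRight : E →ₐ[A] T).toRingHom), hf.map _, ?_⟩
    rw [Polynomial.eval₂_map]
    let n := f.natDegree
    -- clear denominators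
    let fR : T := ∑ i ∈ Finset.range (n + 1),
      (1 ⊗ₜ[A] f.coeff i) * t ^ i * algebraMap A T a ^ (n - i)
    have hfR : fR = 0 := by
      apply hν
      rw [map_zero, map_sum]
      simp only [map_mul, map_pow, t, hν1, hνa, ← hxa]
      rw [Finset.sum_congr rfl (g := fun i => algebraMap A (FractionRing E) a ^ n *
        (algebraMap E (FractionRing E) (f.coeff i) * x ^ i)) fun i hi => ?_, ← Finset.mul_sum,
        ← Polynomial.eval₂_eq_sum_range, hfx, mul_zero]
      have hi' : i ≤ n := Nat.lt_succ_iff.1 (Finset.mem_range.1 hi)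
      rw [mul_pow, ← Nat.sub_add_cancel hi', pow_add, Nat.add_sub_cancel]
      ring
    have h2 := congrArg j hfR
    rw [map_zero, map_sum] at h2
    simp only [map_mul, map_pow] at h2
    rw [Polynomial.eval₂_eq_sum_range]
    refine (mul_eq_zero.1 ?_).resolve_left (pow_ne_zero n (hregj ha))
    rw [Finset.mul_sum]
    refine Eq.trans (Finset.sum_congr rfl fun i hi => ?_) h2
    have hi' : i ≤ n := Nat.lt_succ_iff.1 (Finset.mem_range.1 hi)
    have hne : j (algebraMap A T a) ^ i ≠ 0 := pow_ne_zero i (hregj ha)
    change j (algebraMap A T a) ^ n * (j (1 ⊗ₜ[A] f.coeff i) * (j t / j (algebraMap A T a)) ^ i) =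
      j (1 ⊗ₜ[A] f.coeff i) * j t ^ i * j (algebraMap A T a) ^ (n - i)
    rw [div_pow]
    conv_lhs => rw [← Nat.sub_add_cancel hi', pow_add]
    calc j (algebraMap A T a) ^ (n - i) * j (algebraMap A T a) ^ i *
          (j (1 ⊗ₜ[A] f.coeff i) * (j t ^ i / j (algebraMap A T a) ^ i))
        = j (1 ⊗ₜ[A] f.coeff i) * (j t ^ i / j (algebraMap A T a) ^ i * j (algebraMap A T a) ^ i) *
          j (algebraMap A T a) ^ (n - i) := by ring
      _ = _ := by rw [div_mul_cancel₀ _ hne]
  obtain ⟨z, hz⟩ := IsIntegrallyClosed.isIntegral_iff.1 hy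
  obtain ⟨t₁, u, rfl⟩ := IsLocalization.exists_mk'_eq P.primeCompl z
  have h3 : algebraMap T TP t₁ * algebraMap T TP (algebraMap A T a) = algebraMap T TP (t * u) := by
    apply IsFractionRing.injective TP F
    rw [← IsLocalization.mk'_spec TP t₁ u, map_mul, map_mul, map_mul, hz, map_mul]
    change j t / j (algebraMap A T a) * j (u : T) * j (algebraMap A T a) = j t * j (u : T)
    rw [mul_right_comm, div_mul_cancel₀ _ (hregj ha)]
  rw [← map_mul] at h3
  obtain ⟨c, hc⟩ := IsLocalization.exists_of_eq (M := P.primeCompl) h3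
  refine (c * u).2 (hIP (show (c : T) * u ∈ I from ?_))
  refine ⟨(c : T) * t₁, ?_⟩
  have hu : IsUnit (algebraMap A (FractionRing E) a) := hAK a ha
  refine hu.mul_left_cancel ?_
  change algebraMap A (FractionRing E) a * ν ((c : T) * t₁) = algebraMap A (FractionRing E) a * (ν ((c : T) * u) * x)
  have h4 := congrArg ν hc
  simp only [map_mul, hνa] at h4 ⊢
  rw [show ν t = algebraMap E (FractionRing E) e from hν1 e, ← hxa] at h4
  linear_combination h4

/-- Normalization commutes with essentially etale base change. -/
theorem mem_range_normMap [IsReduced A] [IsNoetherianRing A] (hE : EGA4loc.IsEssentiallyEtale A E)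
    {x : FractionRing E} (hx : IsIntegral E x) : x ∈ (normMap A E).range := by
  have hfu := EssEt14.formallyEtale hE
  have hef := EssEt14.essFiniteType hE
  refine mem_range_of_normal hE _ (fun n _ => VarDim1.isDomain_and_isIntegrallyClosed_localization n)
    (fun a ha => isSMulRegular_tensor ha) (normMap A E) normMap_injective normMap_one_tmul
    (isLocalization_fractionRing (minimalPrimes.finite_of_isNoetherianRing A) E) (fun a ha => ?_) hx
  rw [IsScalarTower.algebraMap_apply A E (FractionRing E)]
  exact IsLocalization.map_units (FractionRing E) (⟨_, algebraMap_mem_nonZeroDivisors (E := E) ha⟩ : E⁰)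

end Groth.Agent.SubSh14
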