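import Mathlib
import Groth.Agent.SubSh14.Normal

/-!
Directedness of normal dominated subalgebras.
-/

set_option autoImplicit false

open IsLocalRing

namespace Groth.Agent.SubSh14

universe u

theorem exists_mul_eq_of_isIntegral {A S : Type u} [CommRing A] [CommRing S] [IsDomain S] [Algebra A S]
    {B D : Subalgebra A S} [IsIntegrallyClosed D] (hBD : B ≤ D) {x : FractionRing B} (hx : IsIntegral B x)
    (b : B) (c : nonZeroDivisors B) (hbc : x * algebraMap B _ (c : B) = algebraMap B _ b) :
    ∃ d ∈ D, ((c : B) : S) * d = b := by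
  let j : B →+* D := (Subalgebra.inclusion hBD).toRingHom
  have hg : Function.Injective ((algebraMap D (FractionRing D)).comp j) :=
    (IsFractionRing.injective D (FractionRing D)).comp (Subalgebra.inclusion_injective hBD)
  let G : FractionRing B →+* FractionRing D := IsFractionRing.lift hg
  have hG : ∀ b, G (algebraMap B _ b) = algebraMap D _ (j b) := fun b => IsFractionRing.lift_algebraMap hg b
  have hxD : IsIntegral D (G x) := by
    obtain ⟨p, hp, hpx⟩ := hx
    refine ⟨p.map j, hp.map j, ?_⟩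
    rw [Polynomial.eval₂_map]
    have := congrArg G hpx
    rw [Polynomial.hom_eval₂, map_zero] at this
    rwa [show (algebraMap D (FractionRing D)).comp j = G.comp (algebraMap B (FractionRing B)) from
      RingHom.ext fun b => (hG b).symm]
  obtain ⟨d, hd⟩ := IsIntegrallyClosed.isIntegral_iff.1 hxD
  refine ⟨d, d.2, ?_⟩
  have h := congrArg G hbc
  rw [map_mul, hG, hG, ← hd, ← map_mul] at h
  rw [mul_comm]
  exact congrArg Subtype.val (IsFractionRing.injective D (FractionRing D) h)

theorem exists_essEtale_le {A S : Type u} [CommRing A] [IsLocalRing A] [IsDomain A] [IsIntegrallyClosed A]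
    [IsNoetherianRing A] [CommRing S] [IsLocalRing S] [Algebra A S] [IsLocalHom (algebraMap A S)]
    [Hensel.IsStrictHenselization A S] (D : Subalgebra A S) [IsLocalHom (algebraMap D S)] [IsIntegrallyClosed D]
    (s : Finset S) (hs : (s : Set S) ⊆ (D : Set S)) :
    ∃ D' : Subalgebra A S, D' ≤ D ∧ (s : Set S) ⊆ (D' : Set S) ∧
      ∃ _ : IsLocalRing D', IsLocalHom (algebraMap D' S) ∧ EGA4loc.IsEssentiallyEtale A D' := by
  obtain ⟨hSdom, -⟩ : IsDomain S ∧ IsIntegrallyClosed S :=
    (Hensel20.isNormal_iff_of_equiv (Henz21.strictHenselizationEquiv (R := A) S)).2 ⟨inferInstance, inferInstance⟩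
  obtain ⟨E, hsE, _, hE⟩ := exists_stage (A := A) s
  have := isLocalHom E hE
  obtain ⟨_, _⟩ := isDomain_isIntegrallyClosed_of_essEtale hE
  let D' := D ⊓ E
  have hlh : IsLocalHom (algebraMap D' S) := ⟨fun x hx => by
    obtain ⟨y, hy⟩ := isUnit_iff_exists_inv.1 (isUnit_of_map_unit (algebraMap D S) (⟨x, x.2.1⟩ : D) hx)
    obtain ⟨z, hz⟩ := isUnit_iff_exists_inv.1 (isUnit_of_map_unit (algebraMap E S) (⟨x, x.2.2⟩ : E) hx)
    have hyz : (y : S) = z := hx.mul_left_cancel
      ((show (x : S) * y = 1 from congrArg Subtype.val hy).trans (show (x : S) * z = 1 from congrArg Subtype.val hz).symm)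
    exact isUnit_iff_exists_inv.2 ⟨⟨y, y.2, hyz ▸ z.2⟩, Subtype.ext (show (x : S) * y = 1 from congrArg Subtype.val hy)⟩⟩
  have : IsLocalRing D' := RingHom.domain_isLocalRing (algebraMap D' S)
  have : IsDomain D' := Subalgebra.isDomain D'
  have : IsIntegrallyClosed D' := by
    rw [isIntegrallyClosed_iff (FractionRing D')]
    intro x hx
    obtain ⟨⟨b, c⟩, hbc⟩ := IsLocalization.surj (nonZeroDivisors D') x
    obtain ⟨d, hd, hcd⟩ := exists_mul_eq_of_isIntegral (inf_le_left (a := D)) hx b c hbc
    obtain ⟨e, he, hce⟩ := exists_mul_eq_of_isIntegral (inf_le_right (a := D) (b := E)) hx b c hbc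
    have hc0 : ((c : D') : S) ≠ 0 := fun h => nonZeroDivisors.coe_ne_zero c (Subtype.ext h)
    have hde : d = e := mul_left_cancel₀ hc0 (hcd.trans hce.symm)
    refine ⟨⟨d, hd, hde ▸ he⟩, (IsLocalization.map_units (FractionRing D') c).mul_right_cancel ?_⟩
    rw [hbc, ← map_mul]
    exact congrArg _ (Subtype.ext ((mul_comm _ _).trans hcd))
  exact ⟨D', inf_le_left, fun x hx => ⟨hs hx, hsE hx⟩, inferInstance, hlh,
    essEtale_of_le D' E hE inf_le_right⟩

end Groth.Agent.SubSh14
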