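import Mathlib
import Groth.Agent.SubSh14.GaloisStage
import Groth.Agent.SubSh14.GaloisSub

/-!
Intersections of finitely generated subfields with the strict henselization of a henselian local domain.
-/

set_option autoImplicit false

open IsLocalRing

namespace Groth.Agent.SubSh14

universe u

theorem exists_essEtale_preimage {A S : Type u} [CommRing A] [HenselianLocalRing A] [IsDomain A] [IsNoetherianRing A]
    [CommRing S] [IsLocalRing S] [Algebra A S] [IsLocalHom (algebraMap A S)]
    [Hensel.IsStrictHenselization A S] [IsDomain S] (t : Finset (FractionRing S)) :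
    ∃ D : Subalgebra A S, (D : Set S) = (algebraMap S (FractionRing S)) ⁻¹'
        (Subfield.closure (Set.range (algebraMap A (FractionRing S)) ∪ (t : Set (FractionRing S))) :
          Set (FractionRing S)) ∧
      ∃ _ : IsLocalRing D, IsLocalHom (algebraMap D S) ∧ EGA4loc.IsEssentiallyEtale A D := by
  classical
  choose num hnum using fun x : FractionRing S => IsLocalization.surj (nonZeroDivisors S) x
  obtain ⟨E, hsE, _, _, hE, hfin, hgal⟩ := exists_galois_stage (A := A)
    (t.image (fun x => (num x).1) ∪ t.image (fun x => ((num x).2 : S)))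
  have := isLocalHom E hE
  have : IsDomain E := Subalgebra.isDomain E
  have hhE : HenselianLocalRing E := Henz21.henselianLocalRing_of_isIntegral (A := A)
  have : HenselianRing E (maximalIdeal E) := inferInstance
  let FS := FractionRing S
  let G : FractionRing E →+* FS := IsFractionRing.lift (g := (algebraMap S FS).comp (algebraMap E S))
    ((IsFractionRing.injective S FS).comp Subtype.val_injective)
  have hG : ∀ x : E, G (algebraMap E _ x) = algebraMap S FS x := fun x => IsFractionRing.lift_algebraMap _ x
  let L := Subfield.closure (Set.range (algebraMap A FS) ∪ (t : Set FS))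
  obtain ⟨e, he, hmax⟩ := exists_adjoin_eq_preimage hE (L.comap G) fun a => by
    change G (algebraMap A (FractionRing E) a) ∈ L
    rw [IsScalarTower.algebraMap_apply A E (FractionRing E), hG]
    exact Subfield.subset_closure (Or.inl ⟨a, (IsScalarTower.algebraMap_apply A S FS a)⟩)
  let D : Subalgebra A S := (Algebra.adjoin A {e}).map E.val
  have hmem : ∀ x : E, x ∈ Algebra.adjoin A {e} ↔ algebraMap S FS x ∈ L := fun x => by
    rw [← SetLike.mem_coe, he, Set.mem_preimage, SetLike.mem_coe, Subfield.mem_comap, hG]
  have hrange : L ≤ G.fieldRange := Subfield.closure_le.2 <| by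
    rintro _ (⟨a, rfl⟩ | hx)
    · exact ⟨algebraMap E _ (algebraMap A E a), (hG _).trans (IsScalarTower.algebraMap_apply A S FS a).symm⟩
    · rename_i x
      have h1 : (num x).1 ∈ E := hsE (Finset.mem_coe.2 (Finset.mem_union_left _ (Finset.mem_image_of_mem _ hx)))
      have h2 : ((num x).2 : S) ∈ E := hsE (Finset.mem_coe.2 (Finset.mem_union_right _ (Finset.mem_image_of_mem _ hx)))
      refine ⟨algebraMap E _ ⟨_, h1⟩ / algebraMap E _ ⟨_, h2⟩, ?_⟩
      rw [map_div₀, hG, hG, div_eq_iff]
      · exact (hnum x).symm
      · exact (IsLocalization.map_units FS (num x).2).ne_zero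
  have hset : (D : Set S) = (algebraMap S FS) ⁻¹' (L : Set FS) := by
    ext y
    constructor
    · rintro ⟨x, hx, rfl⟩
      exact (hmem x).1 hx
    · intro hy
      obtain ⟨z, hz⟩ := hrange hy
      obtain ⟨a, b, hb, rfl⟩ := IsFractionRing.div_surjective E z
      have hb' : (b : S) ≠ 0 := fun h => nonZeroDivisors.ne_zero hb (Subtype.ext h)
      rw [map_div₀, hG, hG, div_eq_iff (fun h => hb' (IsFractionRing.injective S FS (by rw [h, map_zero]))),
        ← map_mul] at hz
      have hyE : y ∈ E := mem_of_mul_mem hE (c := (b : S)) b.2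
        (by rw [mul_comm, ← IsFractionRing.injective S FS hz]; exact a.2) (mem_nonZeroDivisors_of_ne_zero hb')
      exact ⟨⟨y, hyE⟩, (hmem _).2 hy, rfl⟩
  have hDE : D ≤ E := by rintro _ ⟨x, -, rfl⟩; exact x.2
  let i : D →+* E := (Subalgebra.inclusion hDE).toRingHom
  have hiint : i.IsIntegral := by
    refine RingHom.IsIntegral.tower_top (algebraMap A D) i ?_
    rw [show i.comp (algebraMap A D) = algebraMap A E from (Subalgebra.inclusion hDE).comp_algebraMap]
    exact Algebra.IsIntegral.isIntegral
  have : IsLocalHom i := hiint.isLocalHom (Subalgebra.inclusion_injective hDE)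
  have hDS : IsLocalHom (algebraMap D S) :=
    ⟨fun x hx => isUnit_of_map_unit i x (isUnit_of_map_unit (algebraMap E S) (i x) hx)⟩
  have : IsLocalRing D := RingHom.domain_isLocalRing (algebraMap D S)
  have : Module.Finite A D :=
    Module.Finite.of_injective (Subalgebra.inclusion hDE).toLinearMap (Subalgebra.inclusion_injective hDE)
  refine ⟨D, hset, inferInstance, hDS, essEtale_of_map_eq D ?_⟩
  refine le_antisymm ?_ fun x hx => ?_
  · have := isLocalHom_base D
    exact ((local_hom_TFAE (algebraMap A D)).out 0 2).1 this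
  · obtain ⟨z, hz, hzx⟩ := x.2
    have hzm : z ∈ maximalIdeal E := by
      rw [show z = i x from Subtype.ext hzx]
      exact map_nonunit i x hx
    let ρ : Algebra.adjoin A {e} →ₐ[A] D :=
      (E.val.comp (Algebra.adjoin A {e}).val).codRestrict D fun w => ⟨w, w.2, rfl⟩
    have key : ∀ w ∈ maximalIdeal A • Subalgebra.toSubmodule (Algebra.adjoin A {e}),
        ∃ h : (w : S) ∈ D, (⟨w, h⟩ : D) ∈ (maximalIdeal A).map (algebraMap A D) := fun w hw => by
      refine Submodule.smul_induction_on hw (fun r hr n hn => ?_) fun p q ⟨hpD, hp⟩ ⟨hqD, hq⟩ => ?_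
      · have heq : ((r • n : E) : S) = (algebraMap A D r * ρ ⟨n, hn⟩ : D) := Algebra.smul_def r (n : S)
        refine ⟨heq ▸ (algebraMap A D r * ρ ⟨n, hn⟩).2, ?_⟩
        rw [show (⟨((r • n : E) : S), heq ▸ (algebraMap A D r * ρ ⟨n, hn⟩).2⟩ : D) = algebraMap A D r * ρ ⟨n, hn⟩ from Subtype.ext heq]
        exact Ideal.mul_mem_right _ _ (Ideal.mem_map_of_mem _ hr)
      · exact ⟨add_mem hpD hqD, add_mem hp hq⟩
    obtain ⟨h', h''⟩ := key z (hmax z hz hzm)
    rwa [show (⟨(z : S), h'⟩ : D) = x from Subtype.ext hzx] at h''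

end Groth.Agent.SubSh14
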