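import Mathlib
import Groth.Agent.Henz21.FiniteEtaleLift
import Groth.Agent.Hensel20.FlatUnram
import Groth.Agent.CAlg7.FlatLimit

/-!
Flatness over an algebra with unramified maximal ideal.
-/

set_option autoImplicit false

open IsLocalRing
open scoped TensorProduct

namespace Groth.Agent.SubSh14

universe u

theorem flat_quotient_pow {A D E : Type u} [CommRing A] [IsLocalRing A] [IsNoetherianRing A]
    [CommRing D] [IsLocalRing D] [Algebra A D] [IsLocalHom (algebraMap A D)]
    [FiniteDimensional (ResidueField A) (ResidueField D)] [Algebra.IsSeparable (ResidueField A) (ResidueField D)]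
    [CommRing E] [IsLocalRing E] [Algebra A E] [Algebra D E] [IsScalarTower A D E] [IsLocalHom (algebraMap D E)]
    [Module.Flat A E] (hm : (maximalIdeal A).map (algebraMap A D) = maximalIdeal D) (n : ℕ) (hn : 0 < n) :
    Module.Flat (D ⧸ (maximalIdeal D) ^ n) (E ⧸ ((maximalIdeal D) ^ n • ⊤ : Submodule D E)) := by
  classical
  let J := (maximalIdeal D) ^ n
  let I := (maximalIdeal A) ^ n
  let An := A ⧸ I
  let Dn := D ⧸ J
  let En := E ⧸ J.map (algebraMap D E)
  have hJ : J = I.map (algebraMap A D) := by simp only [J, I, Ideal.map_pow, hm]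
  have hJD : J ≤ maximalIdeal D := Ideal.pow_le_self hn.ne'
  have : Nontrivial Dn := Ideal.Quotient.nontrivial_iff.2 fun h => (maximalIdeal.isMaximal D).ne_top (top_le_iff.1 (h ▸ hJD))
  have hJE : J.map (algebraMap D E) ≤ maximalIdeal E := le_trans (Ideal.map_mono hJD)
    (((local_hom_TFAE (algebraMap D E)).out 0 2).1 ‹_›)
  have : Nontrivial En := Ideal.Quotient.nontrivial_iff.2 fun h => (maximalIdeal.isMaximal E).ne_top (top_le_iff.1 (h ▸ hJE))
  have : IsLocalRing Dn := .of_surjective' _ Ideal.Quotient.mk_surjective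
  have : IsLocalRing En := .of_surjective' _ Ideal.Quotient.mk_surjective
  -- the lift of the residue field
  obtain ⟨R, _, _, _, _, hRfin, hRet, ⟨eR⟩⟩ := Henz21.exists_finite_etale_local_lift (A := A) (ResidueField D)
  have := hRet
  have := hRfin
  let f : R →ₐ[A] ResidueField D :=
    (eR.toAlgHom.restrictScalars A).comp (IsScalarTower.toAlgHom A R (ResidueField R))
  let π : Dn →ₐ[A] ResidueField D := Ideal.Quotient.liftₐ J (IsScalarTower.toAlgHom A D (ResidueField D))
    fun x hx => (residue_eq_zero_iff x).2 (hJD hx)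
  have hπ : Function.Surjective π := fun y => by
    obtain ⟨x, rfl⟩ := residue_surjective y
    exact ⟨Ideal.Quotient.mk J x, rfl⟩
  have hker : IsNilpotent (RingHom.ker (π : Dn →+* ResidueField D)) := by
    refine ⟨n, le_antisymm ?_ bot_le⟩
    have hle : RingHom.ker (π : Dn →+* ResidueField D) ≤ (maximalIdeal D).map (Ideal.Quotient.mk J) := by
      intro x hx
      obtain ⟨x, rfl⟩ := Ideal.Quotient.mk_surjective x
      exact Ideal.mem_map_of_mem _ ((residue_eq_zero_iff x).1 hx)
    refine (Ideal.pow_right_mono hle n).trans ?_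
    rw [← Ideal.map_pow]
    exact (Ideal.map_quotient_self J).le
  let ψ : R →ₐ[A] Dn := Algebra.FormallySmooth.liftOfSurjective f π hπ hker
  have hψ : ∀ r, π (ψ r) = f r := fun r => Algebra.FormallySmooth.liftOfSurjective_apply f π hπ hker r
  have hstep : ∀ i : ℕ, (⊤ : Submodule A Dn) ≤ LinearMap.range ψ.toLinearMap ⊔ (maximalIdeal A) ^ i • ⊤ := by
    intro i
    induction i with
    | zero => rw [pow_zero, Ideal.one_eq_top, Submodule.top_smul]; exact le_sup_right
    | succ i ih =>
      have h1 : (⊤ : Submodule A Dn) ≤ LinearMap.range ψ.toLinearMap ⊔ maximalIdeal A • ⊤ := by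
        rintro x -
        obtain ⟨r, hr⟩ : ∃ r, f r = π x := by
          obtain ⟨y, hy⟩ := eR.surjective (π x)
          obtain ⟨r, rfl⟩ := residue_surjective y
          exact ⟨r, hy⟩
        have hx : x - ψ r ∈ (maximalIdeal A).map (algebraMap A Dn) := by
          have h0 : π (x - ψ r) = 0 := by rw [map_sub, hψ, hr, sub_self]
          obtain ⟨y, hy⟩ := Ideal.Quotient.mk_surjective (x - ψ r)
          rw [← hy] at h0 ⊢
          rw [show algebraMap A Dn = (Ideal.Quotient.mk J).comp (algebraMap A D) from rfl, ← Ideal.map_map, hm]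
          exact Ideal.mem_map_of_mem _ ((residue_eq_zero_iff y).1 h0)
        rw [← Submodule.restrictScalars_mem A, ← Ideal.smul_top_eq_map] at hx
        exact add_sub_cancel (ψ r) x ▸ Submodule.add_mem_sup ⟨r, rfl⟩ hx
      calc (⊤ : Submodule A Dn) ≤ LinearMap.range ψ.toLinearMap ⊔ (maximalIdeal A) ^ i • ⊤ := ih
        _ ≤ LinearMap.range ψ.toLinearMap ⊔ (maximalIdeal A) ^ i • (LinearMap.range ψ.toLinearMap ⊔ maximalIdeal A • ⊤) :=
            sup_le_sup le_rfl (Submodule.smul_mono le_rfl h1)
        _ ≤ _ := by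
            rw [Submodule.smul_sup, ← sup_assoc, ← mul_smul, ← pow_succ]
            exact sup_le_sup (sup_le le_rfl Submodule.smul_le_right) le_rfl
  have hψs : Function.Surjective ψ := fun x => by
    have h0 : ((maximalIdeal A) ^ n • ⊤ : Submodule A Dn) = ⊥ := by
      rw [Ideal.smul_top_eq_map, show algebraMap A Dn = (Ideal.Quotient.mk J).comp (algebraMap A D) from rfl,
        ← Ideal.map_map, ← hJ, Ideal.map_quotient_self]
      rfl
    have := hstep n (show x ∈ ⊤ from trivial)
    rwa [h0, sup_bot_eq] at this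
  -- base change to the Artinian quotient
  letI : Algebra An Dn := (Ideal.quotientMap J (algebraMap A D) (hJ ▸ Ideal.le_comap_map)).toAlgebra
  have : IsScalarTower A An Dn := IsScalarTower.of_algebraMap_eq fun _ => rfl
  let Rn := An ⊗[A] R
  let ψn : Rn →ₐ[An] Dn := Algebra.TensorProduct.lift (Algebra.ofId An Dn) ψ fun _ _ => Commute.all _ _
  have hψn : Function.Surjective ψn := fun x => by
    obtain ⟨r, rfl⟩ := hψs x
    exact ⟨1 ⊗ₜ r, (Algebra.TensorProduct.lift_tmul _ _ _ _ _).trans (by rw [map_one, one_mul])⟩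
  have : IsLocalRing Rn := by
    have : Nontrivial Rn := hψn.nontrivial
    refine IsLocalRing.of_surjective' (Algebra.TensorProduct.includeRight (R := A) (A := An) (B := R)).toRingHom fun z => ?_
    induction z using TensorProduct.induction_on with
    | zero => exact ⟨0, map_zero _⟩
    | add x y hx hy =>
      obtain ⟨x, rfl⟩ := hx
      obtain ⟨y, rfl⟩ := hy
      exact ⟨x + y, map_add _ _ _⟩
    | tmul a r =>
      obtain ⟨a, rfl⟩ := Ideal.Quotient.mk_surjective a
      refine ⟨a • r, ?_⟩
      change (1 : An) ⊗ₜ[A] (a • r) = _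
      rw [TensorProduct.tmul_smul, TensorProduct.smul_tmul', Algebra.smul_def, mul_one]
      rfl
  let q : Rn →+* En := (algebraMap Dn En).comp ψn.toRingHom
  letI : Algebra Rn En := q.toAlgebra
  letI : Algebra An En := (q.comp (algebraMap An Rn)).toAlgebra
  have : IsScalarTower An Rn En := ⟨fun a x y => by
    have h : a • x = algebraMap An Rn a * x := Algebra.smul_def a x
    change algebraMap Rn En (a • x) * y = algebraMap An En a * (algebraMap Rn En x * y)
    rw [h, map_mul, mul_assoc]
    rfl⟩
  have hAEn : ∀ a : A, algebraMap An En (Ideal.Quotient.mk I a) = algebraMap A En a := fun a => by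
    change algebraMap Dn En (ψn (algebraMap An Rn (Ideal.Quotient.mk I a))) = _
    rw [ψn.commutes]
    change Ideal.Quotient.mk _ (algebraMap D E (algebraMap A D a)) = Ideal.Quotient.mk _ (algebraMap A E a)
    rw [← IsScalarTower.algebraMap_apply]
  have : IsScalarTower A An En := IsScalarTower.of_algebraMap_eq fun a => (hAEn a).symm
  have hsurjA : Function.Surjective (algebraMap A An) := Ideal.Quotient.mk_surjective
  have hmap : I.map (algebraMap A E) = J.map (algebraMap D E) := by
    rw [hJ, Ideal.map_map, ← IsScalarTower.algebraMap_eq]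
  let e0 : An ⊗[A] E ≃ₗ[A] En :=
    TensorProduct.quotTensorEquivQuotSMul E I ≪≫ₗ Submodule.quotEquivOfEq _ _ (Ideal.smul_top_eq_map I) ≪≫ₗ
      (Submodule.Quotient.restrictScalarsEquiv A _) ≪≫ₗ (Ideal.quotientEquivAlgOfEq A hmap).toLinearEquiv
  have : Module.Flat An En := Module.Flat.of_linearEquiv (e0.extendScalarsOfSurjective hsurjA).symm
  have : Module.Flat Rn En := Hensel20.flat_of_formallyUnramified An Rn En
  have hloc : IsLocalHom (algebraMap Dn En) := by
    constructor
    intro x hx
    obtain ⟨x, rfl⟩ := Ideal.Quotient.mk_surjective x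
    have : IsUnit (algebraMap D E x) := by
      by_contra hnu
      exact (Ideal.Quotient.eq_zero_iff_mem (I := maximalIdeal E)).not.1
        ((hx.map (Ideal.Quotient.factor hJE)).ne_zero) hnu
    exact ((isUnit_of_map_unit (algebraMap D E) x this)).map _
  have : IsLocalHom (algebraMap Rn En) := by
    have := IsLocalHom.of_surjective ψn.toRingHom hψn
    exact RingHom.isLocalHom_comp (algebraMap Dn En) ψn.toRingHom
  have : Module.FaithfullyFlat Rn En := Module.FaithfullyFlat.of_flat_of_isLocalHom
  have hinjR : Function.Injective ψn := .of_comp (f := algebraMap Dn En) (FaithfulSMul.algebraMap_injective Rn En)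
  let eRD : Rn ≃+* Dn := RingEquiv.ofBijective ψn ⟨hinjR, hψn⟩
  letI : Algebra Dn Rn := eRD.symm.toRingHom.toAlgebra
  have : IsScalarTower Dn Rn En := IsScalarTower.of_algebraMap_eq fun x => by
    change _ = algebraMap Dn En (ψn (eRD.symm x))
    rw [show ψn (eRD.symm x) = x from eRD.apply_symm_apply x]
  have : Module.Flat Dn Rn := Module.Flat.of_linearEquiv
    ({ eRD.toAddEquiv with
      map_smul' := fun c r => by
        change eRD (eRD.symm c * r) = c * eRD r
        rw [map_mul, eRD.apply_symm_apply] } : Rn ≃ₗ[Dn] Dn)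
  have : Module.Flat Dn En := Module.Flat.trans Dn Rn En
  let e1 : En ≃ₗ[D] E ⧸ (J • ⊤ : Submodule D E) :=
    (Submodule.Quotient.restrictScalarsEquiv D _).symm ≪≫ₗ Submodule.quotEquivOfEq _ _ (Ideal.smul_top_eq_map J).symm
  exact Module.Flat.of_linearEquiv (e1.extendScalarsOfSurjective (Ideal.Quotient.mk_surjective (I := J))).symm

theorem flat_of_map_maximalIdeal {A D E : Type u} [CommRing A] [IsLocalRing A] [IsNoetherianRing A]
    [CommRing D] [IsLocalRing D] [IsNoetherianRing D] [Algebra A D] [IsLocalHom (algebraMap A D)]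
    [FiniteDimensional (ResidueField A) (ResidueField D)] [Algebra.IsSeparable (ResidueField A) (ResidueField D)]
    [CommRing E] [IsLocalRing E] [IsNoetherianRing E] [Algebra A E] [Algebra D E] [IsScalarTower A D E]
    [IsLocalHom (algebraMap D E)]
    [Module.Flat A E] (hm : (maximalIdeal A).map (algebraMap A D) = maximalIdeal D) : Module.Flat D E :=
  CAlg7.flat_of_forall_flat_mod_pow (S := E) (M := E) (maximalIdeal D)
    (by rw [jacobson_eq_maximalIdeal ⊥ bot_ne_top]; exact ((local_hom_TFAE (algebraMap D E)).out 0 2).1 ‹_›)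
    fun n hn => flat_quotient_pow hm n hn

end Groth.Agent.SubSh14
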