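import Mathlib
import Groth.Agent.SubSh14.SubFrac
import Groth.Agent.SubSh14.Unram
import Groth.Agent.SubSh14.FlatPow
import Groth.Agent.SubSh14.LocalSub

/-!
Noetherian dominated subalgebras with unramified maximal ideal are essentially etale.
-/

set_option autoImplicit false

open IsLocalRing
open scoped nonZeroDivisors TensorProduct

namespace Groth.Agent.SubSh14

universe u

/-- An unramified essentially finite type local algebra is the image of an etale algebra. -/
theorem exists_etale_map {D E : Type u} [CommRing D] [CommRing E] [IsLocalRing E] [Algebra D E]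
    [Algebra.EssFiniteType D E] [Algebra.FormallyUnramified D E] :
    ∃ (C : Type u) (_ : CommRing C) (_ : Algebra D C) (g : C →ₐ[D] E),
      Algebra.Etale D C ∧ ∀ x : E, ∃ c u : C, IsUnit (g u) ∧ x * g u = g c := by
  let C := Algebra.EssFiniteType.subalgebra D E
  let Q : Ideal C := (maximalIdeal E).comap (algebraMap C E)
  have hM : Algebra.EssFiniteType.submonoid D E = Q.primeCompl := by
    ext c
    simp only [Algebra.EssFiniteType.submonoid, Submonoid.mem_comap, IsUnit.mem_submonoid_iff,
      Ideal.mem_primeCompl_iff, Q, Ideal.mem_comap, mem_maximalIdeal, mem_nonunits_iff, not_not]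
    rfl
  have : IsLocalization Q.primeCompl E := hM ▸ (inferInstance : IsLocalization (Algebra.EssFiniteType.submonoid D E) E)
  have : Algebra.IsUnramifiedAt D Q :=
    Algebra.FormallyUnramified.of_equiv ((IsLocalization.algEquiv Q.primeCompl E (Localization.AtPrime Q)).restrictScalars D)
  obtain ⟨f, hf, P, φ, hφ⟩ := Algebra.IsUnramifiedAt.exists_hasStandardEtaleSurjectionOn (R := D) Q
  let ι : Localization.Away f →ₐ[D] E :=
    (IsLocalization.liftAlgHom (M := Submonoid.powers f) (f := IsScalarTower.toAlgHom C C E)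
      (fun y => by
        obtain ⟨n, hn⟩ := y.2
        exact IsLocalization.map_units (M := Q.primeCompl) E
          ⟨y, hn ▸ fun h => hf ((inferInstance : Q.IsPrime).mem_of_pow_mem n h)⟩)).restrictScalars D
  refine ⟨P.Ring, inferInstance, inferInstance, ι.comp φ, inferInstance, fun x => ?_⟩
  have himg : ∀ c : C, ∃ y, ι.comp φ y = algebraMap C E c := fun c => by
    obtain ⟨y, hy⟩ := hφ (algebraMap C _ c)
    refine ⟨y, ?_⟩
    change ι (φ y) = _
    rw [hy]
    exact IsLocalization.lift_eq _ c
  obtain ⟨⟨c, s⟩, hcs⟩ := IsLocalization.surj Q.primeCompl x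
  obtain ⟨y, hy⟩ := himg c
  obtain ⟨z, hz⟩ := himg s
  exact ⟨y, z, hz ▸ IsLocalization.map_units E s, by rw [hy, hz]; exact hcs⟩

/-- A map inverting enough elements to be surjective, whose kernel dies, identifies a localization. -/
theorem flat_of_etale_map {D E C : Type u} [CommRing D] [CommRing E] [IsLocalRing E] [CommRing C] [Algebra D C]
    [Algebra D E] [Module.Flat D C] (g : C →ₐ[D] E)
    (hsurj : ∀ x : E, ∃ c u : C, IsUnit (g u) ∧ x * g u = g c)
    (hker : ∀ c : C, g c = 0 → ∃ t : C, IsUnit (g t) ∧ t * c = 0) : Module.Flat D E := by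
  let q : Ideal C := (maximalIdeal E).comap g.toRingHom
  have : q.IsPrime := Ideal.comap_isPrime _ _
  have hq : ∀ y : C, y ∈ q.primeCompl ↔ IsUnit (g y) := fun y => notMem_maximalIdeal (R := E) (x := g y)
  letI : Algebra C E := g.toRingHom.toAlgebra
  have : IsScalarTower D C E := IsScalarTower.of_algHom g
  have : IsLocalization q.primeCompl E := by
    constructor; constructor
    · exact fun y => (hq y).1 y.2
    · intro x
      obtain ⟨c, u, hu, h⟩ := hsurj x
      exact ⟨(c, ⟨u, (hq u).2 hu⟩), h⟩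
    · intro x y h
      obtain ⟨t, ht, htx⟩ := hker (x - y) (by rw [map_sub]; exact sub_eq_zero.2 h)
      exact ⟨⟨t, (hq t).2 ht⟩, sub_eq_zero.1 (by rw [← mul_sub]; exact htx)⟩
  have : Module.Flat C E := IsLocalization.flat E q.primeCompl
  exact Module.Flat.trans D C E

/-- The kernel of a map from an etale algebra identifying a localization dies on one element. -/
theorem exists_killing {D E C : Type u} [CommRing D] [IsNoetherianRing D] [CommRing E] [IsLocalRing E] [CommRing C]
    [Algebra D C] [Algebra D E] [Module.Flat D E] [Algebra.Etale D C] (g : C →ₐ[D] E) :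
    ∃ t₀ : C, IsUnit (g t₀) ∧ ∀ c, g c = 0 → t₀ * c = 0 := by
  classical
  let q : Ideal C := (maximalIdeal E).comap g.toRingHom
  have : q.IsPrime := Ideal.comap_isPrime _ _
  have hq : ∀ y : C, y ∈ q.primeCompl ↔ IsUnit (g y) := fun y => notMem_maximalIdeal (R := E) (x := g y)
  let Cq := Localization.AtPrime q
  let g' : Cq →ₐ[D] E := IsLocalization.liftAlgHom (M := q.primeCompl) (f := g) fun y => (hq y).1 y.2
  have hg' : ∀ y, g' (algebraMap C Cq y) = g y := fun y => IsLocalization.lift_eq _ y
  have : Algebra.FormallyUnramified D Cq := .comp D C _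
  have : Algebra.EssFiniteType D Cq := .comp D C _
  letI : Algebra Cq E := g'.toRingHom.toAlgebra
  have : IsScalarTower D Cq E := IsScalarTower.of_algHom g'
  have : Module.Flat Cq E := Hensel20.flat_of_formallyUnramified D Cq E
  have : IsLocalHom (algebraMap Cq E) := ⟨fun y hy => by
    obtain ⟨a, b, rfl⟩ := IsLocalization.exists_mk'_eq q.primeCompl y
    rw [IsLocalization.AtPrime.isUnit_mk'_iff]
    refine (hq a).2 ?_
    have h := hy.mul ((hq b).1 b.2)
    change IsUnit (g' (IsLocalization.mk' _ a b) * g b) at h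
    rwa [← hg' b, ← map_mul, IsLocalization.mk'_spec, hg'] at h⟩
  have : Module.FaithfullyFlat Cq E := Module.FaithfullyFlat.of_flat_of_isLocalHom
  have hinj : Function.Injective g' := FaithfulSMul.algebraMap_injective Cq E
  have : IsNoetherianRing C := Algebra.FiniteType.isNoetherianRing D C
  obtain ⟨I, hI⟩ := (IsNoetherian.noetherian (RingHom.ker g.toRingHom) : (RingHom.ker g.toRingHom).FG)
  have hex : ∀ i : I, ∃ t : q.primeCompl, (t : C) * i = 0 := fun i => by
    have hi : g i = 0 := (hI ▸ Ideal.subset_span i.2 : (i : C) ∈ RingHom.ker g.toRingHom)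
    exact (IsLocalization.map_eq_zero_iff q.primeCompl Cq _).1 (hinj (by rw [hg', hi, map_zero]))
  choose t ht using hex
  refine ⟨∏ i, (t i : C), ?_, fun c hc => ?_⟩
  · rw [← hq]
    exact prod_mem fun i _ => (t i).2
  · have hc' : c ∈ Ideal.span (I : Set C) := by
      show c ∈ Submodule.span C (I : Set C)
      rw [hI]
      exact hc
    clear hc
    induction hc' using Submodule.span_induction with
    | mem x hx =>
      rw [← Finset.prod_erase_mul _ _ (Finset.mem_univ (⟨x, hx⟩ : I)), mul_assoc, ht ⟨x, hx⟩, mul_zero]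
    | zero => rw [mul_zero]
    | add x y _ _ hx hy => rw [mul_add, hx, hy, add_zero]
    | smul r x _ hx => rw [smul_eq_mul, mul_left_comm, hx, mul_zero]

/-- Flatness descends to all sufficiently large subalgebras. -/
theorem exists_finset_flat {A D E C : Type u} [CommRing A] [CommRing D] [CommRing E] [IsLocalRing E] [CommRing C]
    [Algebra A D] [Algebra A E] [Algebra D E] [IsScalarTower A D E] [Algebra.EssFiniteType A E]
    [Algebra D C] [Algebra.Etale D C] (g : C →ₐ[D] E) (hg : ∀ x : E, ∃ c u : C, IsUnit (g u) ∧ x * g u = g c)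
    (t₀ : C) (ht₀ : IsUnit (g t₀)) (ht₀' : ∀ c, g c = 0 → t₀ * c = 0) :
    ∃ F : Finset D, ∀ Dk : Subalgebra A D, (F : Set D) ⊆ (Dk : Set D) → Module.Flat Dk E := by
  classical
  obtain ⟨A₀, B₀, _, _, hA₀, hB₀, ⟨e⟩⟩ := Algebra.Etale.exists_subalgebra_fg ℤ D C
  have := hB₀
  obtain ⟨tA, rfl⟩ := hA₀
  let A₀' := Algebra.adjoin ℤ (tA : Set D)
  choose T hTsum using fun z : C => TensorProduct.exists_finset (e z)
  obtain ⟨σ, hσ⟩ := (Algebra.essFiniteType_iff A E).1 inferInstance
  choose cg ug hug hcg using hg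
  let F : C → Finset D := fun z => (T z).image Prod.fst
  refine ⟨tA ∪ F t₀ ∪ σ.biUnion (fun y => F (cg y) ∪ F (ug y)), fun Dk hDk => ?_⟩
  have hle : ∀ x : A₀', (x : D) ∈ Dk := fun x =>
    (Algebra.adjoin_le (S := Dk.restrictScalars ℤ) fun y hy => hDk (by simp only [Finset.coe_union]; exact Or.inl (Or.inl hy))) x.2
  letI : Algebra A₀' Dk := (RingHom.codRestrict A₀'.subtype Dk hle).toAlgebra
  have : IsScalarTower A₀' Dk D := IsScalarTower.of_algebraMap_eq fun _ => rfl
  let τ : Dk ⊗[A₀'] B₀ →+* C := e.symm.toRingEquiv.toRingHom.comp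
    (Algebra.TensorProduct.map (IsScalarTower.toAlgHom A₀' Dk D) (AlgHom.id A₀' B₀)).toRingHom
  have hτeq : ∀ w, τ w = e.symm (TensorProduct.map (IsScalarTower.toAlgHom A₀' Dk D).toLinearMap LinearMap.id w) :=
    fun w => rfl
  have hτ : Function.Injective τ := e.symm.injective.comp
    (Module.Flat.rTensor_preserves_injective_linearMap (IsScalarTower.toAlgHom A₀' Dk D).toLinearMap
      Subtype.val_injective)
  have hmemτ : ∀ z : C, (F z : Set D) ⊆ (Dk : Set D) → ∃ w, τ w = z := fun z hz => by
    refine ⟨∑ i : T z, (⟨i.1.1, hz (Finset.mem_coe.2 (Finset.mem_image_of_mem _ i.2))⟩ : Dk) ⊗ₜ i.1.2, ?_⟩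
    rw [hτeq, map_sum, e.symm_apply_eq, hTsum z, ← Finset.sum_coe_sort (T z)]
    rfl
  let γ : Dk ⊗[A₀'] B₀ →ₐ[Dk] E :=
    { (g : C →+* E).comp τ with
      commutes' := fun d => by
        change g (e.symm (algebraMap D (D ⊗[A₀'] B₀) (d : D))) = algebraMap D E (d : D)
        rw [e.symm.commutes, g.commutes] }
  have hγ : ∀ w, γ w = g (τ w) := fun w => rfl
  have hgen : ∀ y ∈ σ, ∃ c u, IsUnit (γ u) ∧ y * γ u = γ c := fun y hy => by
    obtain ⟨c, hc⟩ := hmemτ (cg y) fun x hx => hDk (Finset.mem_coe.2 (Finset.mem_union_right _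
      (Finset.mem_biUnion.2 ⟨y, hy, Finset.mem_union_left _ hx⟩)))
    obtain ⟨u, hu⟩ := hmemτ (ug y) fun x hx => hDk (Finset.mem_coe.2 (Finset.mem_union_right _
      (Finset.mem_biUnion.2 ⟨y, hy, Finset.mem_union_right _ hx⟩)))
    exact ⟨c, u, by rw [hγ, hu]; exact hug y, by rw [hγ, hγ, hu, hc]; exact hcg y⟩
  have hadj : ∀ y ∈ Algebra.adjoin A (σ : Set E), ∃ c u, IsUnit (γ u) ∧ y * γ u = γ c := by
    intro y hy
    induction hy using Algebra.adjoin_induction with
    | mem x hx => exact hgen x hx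
    | algebraMap a =>
      refine ⟨algebraMap Dk _ ⟨algebraMap A D a, Dk.algebraMap_mem a⟩, 1, by simp, ?_⟩
      rw [map_one, mul_one, γ.commutes]
      exact IsScalarTower.algebraMap_apply A D E a
    | add x y _ _ hx hy =>
      obtain ⟨c, u, hu, h⟩ := hx
      obtain ⟨c', u', hu', h'⟩ := hy
      refine ⟨c * u' + c' * u, u * u', by rw [map_mul]; exact hu.mul hu', ?_⟩
      rw [map_add, map_mul, map_mul, map_mul, ← h, ← h']
      ring
    | mul x y _ _ hx hy =>
      obtain ⟨c, u, hu, h⟩ := hx
      obtain ⟨c', u', hu', h'⟩ := hy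
      refine ⟨c * c', u * u', by rw [map_mul]; exact hu.mul hu', ?_⟩
      rw [map_mul, map_mul, ← h, ← h']
      ring
  refine flat_of_etale_map γ (fun x => ?_) fun c hc => ?_
  · obtain ⟨b, hb, hbu, hxb⟩ := hσ x
    obtain ⟨c, u, hu, h⟩ := hadj b hb
    obtain ⟨c', u', hu', h'⟩ := hadj _ hxb
    have hcu : IsUnit (γ c) := h ▸ hbu.mul hu
    refine ⟨c' * u, c * u', by rw [map_mul]; exact hcu.mul hu', ?_⟩
    rw [map_mul, map_mul, ← h, ← h']
    ring
  · obtain ⟨w, hw⟩ := hmemτ t₀ fun x hx => hDk (Finset.mem_coe.2 (Finset.mem_union_left _ (Finset.mem_union_right _ hx)))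
    refine ⟨w, by rw [hγ, hw]; exact ht₀, hτ ?_⟩
    rw [map_mul, map_zero, hw]
    exact ht₀' _ ((hγ c).symm.trans hc)

variable {A S : Type u} [CommRing A] [IsLocalRing A] [CommRing S] [IsLocalRing S] [Algebra A S]
  [IsLocalHom (algebraMap A S)] [Hensel.IsStrictHenselization A S]

theorem exists_finset_le [IsReduced A] (hmin : (minimalPrimes A).Finite) {D : Subalgebra A S}
    (hfg : ∃ t : Finset (FractionRing D), ∀ x : FractionRing D, ∃ a ∈ A⁰,
      algebraMap A (FractionRing D) a * x ∈ Algebra.adjoin A (t : Set (FractionRing D))) :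
    ∃ s : Finset S, (s : Set S) ⊆ (D : Set S) ∧ ∀ (E : Subalgebra A S) [IsLocalRing E],
      EGA4loc.IsEssentiallyEtale A E → (s : Set S) ⊆ (E : Set S) → D ≤ E := by
  classical
  obtain ⟨t, ht⟩ := hfg
  choose num hnum using fun x : FractionRing D => IsLocalization.surj D⁰ x
  refine ⟨t.image (fun x => ((num x).1 : S)) ∪ t.image (fun x => (((num x).2 : D) : S)), ?_, ?_⟩
  · intro y hy
    simp only [Finset.coe_union, Finset.coe_image, Set.mem_union, Set.mem_image] at hy
    rcases hy with ⟨x, -, rfl⟩ | ⟨x, -, rfl⟩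
    · exact (num x).1.2
    · exact ((num x).2 : D).2
  intro E _ hE hsE d hd
  obtain ⟨a, ha, hd'⟩ := ht (algebraMap D (FractionRing D) ⟨d, hd⟩)
  have key : ∀ y ∈ Algebra.adjoin A (t : Set (FractionRing D)), ∃ σ ∈ D⁰, ∃ e : D,
      (σ : S) ∈ E ∧ (e : S) ∈ E ∧ algebraMap D (FractionRing D) σ * y = algebraMap D (FractionRing D) e := by
    intro y hy
    induction hy using Algebra.adjoin_induction with
    | mem x hx =>
      refine ⟨(num x).2, (num x).2.2, (num x).1, ?_, ?_, by rw [mul_comm]; exact hnum x⟩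
      · exact hsE (Finset.mem_coe.2 (Finset.mem_union_right _ (Finset.mem_image_of_mem _ hx)))
      · exact hsE (Finset.mem_coe.2 (Finset.mem_union_left _ (Finset.mem_image_of_mem _ hx)))
    | algebraMap r =>
      exact ⟨1, one_mem _, algebraMap A D r, one_mem E, E.algebraMap_mem r,
        by rw [map_one, one_mul, ← IsScalarTower.algebraMap_apply A D (FractionRing D)]⟩
    | add x y _ _ hx hy =>
      obtain ⟨σ, hσ, e, hσE, heE, h⟩ := hx
      obtain ⟨σ', hσ', e', hσE', heE', h'⟩ := hy
      refine ⟨σ * σ', mul_mem hσ hσ', σ' * e + σ * e', mul_mem hσE hσE',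
        add_mem (mul_mem hσE' heE) (mul_mem hσE heE'), ?_⟩
      simp only [map_add, map_mul, ← h, ← h']
      ring
    | mul x y _ _ hx hy =>
      obtain ⟨σ, hσ, e, hσE, heE, h⟩ := hx
      obtain ⟨σ', hσ', e', hσE', heE', h'⟩ := hy
      refine ⟨σ * σ', mul_mem hσ hσ', e * e', mul_mem hσE hσE', mul_mem heE heE', ?_⟩
      simp only [map_mul, ← h, ← h']
      ring
  obtain ⟨σ, hσ, e, hσE, heE, h⟩ := key _ hd'
  rw [IsScalarTower.algebraMap_apply A D (FractionRing D), ← mul_assoc, ← map_mul, ← map_mul] at h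
  have h' : (σ : S) * algebraMap A S a * d = e :=
    congrArg Subtype.val (IsFractionRing.injective D (FractionRing D) h)
  exact mem_of_mul_mem hE (mul_mem hσE (E.algebraMap_mem a)) (h' ▸ heE)
    (mul_mem (mem_nonZeroDivisors_coe hmin σ hσ) (algebraMap_mem_nonZeroDivisors (E := S) ha))

theorem exists_finiteDimensional_residueField {D E : Subalgebra A S} [IsLocalRing D] [IsLocalRing E]
    [IsLocalHom (algebraMap A D)] [IsLocalHom (algebraMap D S)] (hDE : D ≤ E) (hE : EGA4loc.IsEssentiallyEtale A E) :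
    FiniteDimensional (ResidueField A) (ResidueField D) := by
  have := isLocalHom E hE
  have := EssEt14.isLocalHom hE
  have := EssEt14.formallyEtale hE
  have := EssEt14.essFiniteType hE
  have : Module.Finite (ResidueField A) (ResidueField E) := Algebra.FormallyUnramified.finite_of_free _ _
  let i : D →+* E := (Subalgebra.inclusion hDE).toRingHom
  have : IsLocalHom i := ⟨fun x hx => (‹IsLocalHom (algebraMap D S)›).map_nonunit x (hx.map E.val)⟩
  let ψ : ResidueField D →ₐ[ResidueField A] ResidueField E :=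
    { ResidueField.map i with
      commutes' := fun x => by
        obtain ⟨a, rfl⟩ := residue_surjective x
        rfl }
  exact FiniteDimensional.of_injective ψ.toLinearMap ψ.toRingHom.injective

theorem essEtale_of_isNoetherianRing [IsReduced A] [IsNoetherianRing A] (D : Subalgebra A S) [IsLocalRing D]
    [IsLocalHom (algebraMap D S)] [IsNoetherianRing D]
    (hfg : ∃ t : Finset (FractionRing D), ∀ x : FractionRing D, ∃ a ∈ A⁰,
      algebraMap A (FractionRing D) a * x ∈ Algebra.adjoin A (t : Set (FractionRing D)))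
    (hm : (maximalIdeal A).map (algebraMap A D) = maximalIdeal D) : EGA4loc.IsEssentiallyEtale A D := by
  classical
  have hmin := minimalPrimes.finite_of_isNoetherianRing A
  obtain ⟨s₀, hs₀D, hs₀⟩ := exists_finset_le hmin hfg
  obtain ⟨E, hDE, -, _, hE⟩ := exists_stage_of_fractionRing hmin hfg ∅
  have := isLocalHom E hE
  have := EssEt14.isLocalHom hE
  have := EssEt14.formallyEtale hE
  have := EssEt14.essFiniteType hE
  have := flat hE
  have := isNoetherianRing hE
  have := isLocalHom_base D
  have := isSeparable_residueField D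
  have := exists_finiteDimensional_residueField hDE hE
  letI : Algebra D E := (Subalgebra.inclusion hDE).toRingHom.toAlgebra
  have : IsScalarTower A D E := IsScalarTower.of_algHom (Subalgebra.inclusion hDE)
  have : IsLocalHom (algebraMap D E) := ⟨fun x hx => (‹IsLocalHom (algebraMap D S)›).map_nonunit x (hx.map E.val)⟩
  have : Module.Flat D E := flat_of_map_maximalIdeal hm
  have : Algebra.EssFiniteType D E := .of_comp A _ _
  have : Algebra.FormallyUnramified D E := .of_restrictScalars A _ _
  obtain ⟨C, _, _, g, hC, hg⟩ := exists_etale_map (D := D) (E := E)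
  have := hC
  obtain ⟨t₀, ht₀, ht₀'⟩ := exists_killing g
  obtain ⟨F, hF⟩ := exists_finset_flat (A := A) g hg t₀ ht₀ ht₀'
  let s : Finset S := s₀ ∪ F.image D.val
  have hsD : (s : Set S) ⊆ (D : Set S) := fun y hy => by
    rcases Finset.mem_union.1 (Finset.mem_coe.1 hy) with h | h
    · exact hs₀D h
    · obtain ⟨x, -, rfl⟩ := Finset.mem_image.1 h
      exact x.2
  let D₁ := localSub A (s : Set S)
  have hD₁D : D₁ ≤ D := localSub_le D hsD
  have := isLocalRing_localSub (A := A) (s : Set S)
  have := isLocalHom_localSub (A := A) (s : Set S)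
  have := essFiniteType_localSub (A := A) s
  let Dk : Subalgebra A D := D₁.comap D.val
  have := hF Dk fun x hx => subset_localSub (A := A) _ (Finset.mem_coe.2 (Finset.mem_union_right _ (Finset.mem_image_of_mem _ hx)))
  -- transport to the subalgebra
  letI : Algebra D₁ E := (Subalgebra.inclusion (hD₁D.trans hDE)).toRingHom.toAlgebra
  let eD : D₁ ≃+* Dk :=
    { toFun := fun x => ⟨⟨x, hD₁D x.2⟩, x.2⟩
      invFun := fun x => ⟨((x : D) : S), x.2⟩
      left_inv := fun _ => rfl
      right_inv := fun _ => rfl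
      map_mul' := fun _ _ => rfl
      map_add' := fun _ _ => rfl }
  have : Module.Flat D₁ E := by
    letI : Algebra D₁ Dk := eD.toRingHom.toAlgebra
    have : IsScalarTower D₁ Dk E := IsScalarTower.of_algebraMap_eq fun _ => rfl
    have : Module.Flat D₁ Dk := Module.Flat.of_linearEquiv
      ({ eD.symm.toAddEquiv with
        map_smul' := fun c r => by
          change eD.symm (eD c * r) = c * eD.symm r
          rw [map_mul, eD.symm_apply_apply] } : Dk ≃ₗ[D₁] D₁)
    exact Module.Flat.trans D₁ Dk E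
  have : IsScalarTower A D₁ E := IsScalarTower.of_algHom (Subalgebra.inclusion (hD₁D.trans hDE))
  have : IsLocalHom (algebraMap D₁ E) := ⟨fun x hx =>
    (‹IsLocalHom (algebraMap D₁ S)›).map_nonunit x (hx.map E.val)⟩
  have : Module.FaithfullyFlat D₁ E := Module.FaithfullyFlat.of_flat_of_isLocalHom
  have hm₁ : (maximalIdeal A).map (algebraMap A D₁) = maximalIdeal D₁ := by
    rw [← Ideal.comap_map_eq_self_of_faithfullyFlat (B := E) ((maximalIdeal A).map (algebraMap A D₁)),
      Ideal.map_map, ← IsScalarTower.algebraMap_eq, EssEt14.map_maximalIdeal hE, maximalIdeal_comap]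
  have hD₁ : EGA4loc.IsEssentiallyEtale A D₁ := essEtale_of_map_eq D₁ hm₁
  have hDD₁ : D ≤ D₁ := hs₀ D₁ hD₁ fun y hy => subset_localSub _ (Finset.mem_coe.2 (Finset.mem_union_left _ hy))
  exact of_algEquiv hD₁ (Subalgebra.equivOfEq _ _ (le_antisymm hD₁D hDD₁))

end Groth.Agent.SubSh14
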