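import Mathlib
import Groth.Agent.SubSh14.Semilocal
import Groth.Agent.SubSh14.LocalSub

/-!
Semilocal normalizations force essential finiteness.
-/

set_option autoImplicit false

open IsLocalRing
open scoped nonZeroDivisors

namespace Groth.Agent.SubSh14

universe u

theorem exists_finset_mem_adjoin_union {A K : Type u} [CommRing A] [CommRing K] [Algebra A K] {S T : Set K}
    {x : K} (hx : x ∈ Algebra.adjoin A (S ∪ T)) :
    ∃ s : Finset K, (s : Set K) ⊆ S ∧ x ∈ Algebra.adjoin A ((s : Set K) ∪ T) := by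
  classical
  induction hx using Algebra.adjoin_induction with
  | mem x hx =>
    rcases hx with hx | hx
    · exact ⟨{x}, by simpa using hx, Algebra.subset_adjoin (by simp)⟩
    · exact ⟨∅, by simp, Algebra.subset_adjoin (Or.inr hx)⟩
  | algebraMap r => exact ⟨∅, by simp, Subalgebra.algebraMap_mem _ r⟩
  | add x y _ _ hx hy =>
    obtain ⟨s, hs, hsx⟩ := hx
    obtain ⟨t, ht, hty⟩ := hy
    refine ⟨s ∪ t, by simpa using And.intro hs ht, add_mem ?_ ?_⟩
    · exact Algebra.adjoin_mono (Set.union_subset_union_left _ (by simp)) hsx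
    · exact Algebra.adjoin_mono (Set.union_subset_union_left _ (by simp)) hty
  | mul x y _ _ hx hy =>
    obtain ⟨s, hs, hsx⟩ := hx
    obtain ⟨t, ht, hty⟩ := hy
    refine ⟨s ∪ t, by simpa using And.intro hs ht, mul_mem ?_ ?_⟩
    · exact Algebra.adjoin_mono (Set.union_subset_union_left _ (by simp)) hsx
    · exact Algebra.adjoin_mono (Set.union_subset_union_left _ (by simp)) hty

theorem exists_notMem_union {R : Type u} [CommRing R] {ι : Type u} [Finite ι] (q : ι → Ideal R)
    (hq : ∀ i, (q i).IsPrime) (I : Ideal R) (h : ∀ i, ¬ I ≤ q i) : ∃ w ∈ I, ∀ i, w ∉ q i := by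
  by_contra hc
  push Not at hc
  have := Fintype.ofFinite ι
  classical
  have hsub : (I : Set R) ⊆ ⋃ i ∈ ((Finset.univ : Finset ι) : Set ι), (q i : Set R) := fun w hw => by
    obtain ⟨i, hi⟩ := hc w hw
    exact Set.mem_biUnion (Finset.mem_coe.2 (Finset.mem_univ i)) hi
  rcases isEmpty_or_nonempty ι with hι | ⟨⟨i₀⟩⟩
  · obtain ⟨i, -⟩ := hc 0 (zero_mem _)
    exact isEmptyElim i
  · obtain ⟨i, -, hi⟩ := (Ideal.subset_union_prime i₀ i₀ fun i _ _ _ => hq i).1 hsub
    exact h i hi

set_option maxHeartbeats 800000 in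
/-- A dominated subalgebra with semilocal normalization mapping semilocally is essentially of finite
type. -/
theorem essFiniteType_and_finite_of_semilocal {A E : Type u} [CommRing A] [IsLocalRing A] [IsReduced A]
    [IsNoetherianRing A] (hG : CAlg.IsGRing A) [CommRing E] [IsLocalRing E] [Algebra A E]
    [IsLocalHom (algebraMap A E)] (hE : EGA4loc.IsEssentiallyEtale A E)
    (D : Subalgebra A E) [IsLocalHom (algebraMap D E)] (D' : Subalgebra A (FractionRing E))
    (hD' : ∀ x : (FractionRing E), x ∈ D' ↔ (IsIntegral D x ∧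
      ∃ a ∈ nonZeroDivisors A, ∃ d ∈ D, algebraMap A (FractionRing E) a * x = algebraMap E (FractionRing E) d))
    (hle : D' ≤ ((integralClosure E (FractionRing E)).restrictScalars A))
    (hfin : {N : Ideal D' | N.IsMaximal}.Finite)
    (hsurj : ∀ N : Ideal D', N.IsMaximal →
      ∃ M : Ideal ((integralClosure E (FractionRing E)).restrictScalars A), M.IsMaximal ∧
        M.comap (Subalgebra.inclusion hle) = N) :
    Algebra.EssFiniteType A D ∧
      ∃ t : Finset (FractionRing E), ∀ x ∈ D', x ∈ Submodule.span D (t : Set (FractionRing E)) := by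
  classical
  have := EssEt14.formallyEtale hE
  have := EssEt14.essFiniteType hE
  have := flat hE
  let K := FractionRing E
  let φ : E →ₐ[A] K := IsScalarTower.toAlgHom A E K
  let L : Subalgebra A K :=
    { carrier := {x | ∃ a ∈ A⁰, ∃ d ∈ D, algebraMap A K a * x = algebraMap E K d}
      mul_mem' := by
        rintro x y ⟨a, ha, d, hd, h⟩ ⟨a', ha', d', hd', h'⟩
        exact ⟨a * a', mul_mem ha ha', d * d', mul_mem hd hd', by rw [map_mul, map_mul, ← h, ← h']; ring⟩
      one_mem' := ⟨1, one_mem _, 1, one_mem _, by simp⟩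
      add_mem' := by
        rintro x y ⟨a, ha, d, hd, h⟩ ⟨a', ha', d', hd', h'⟩
        refine ⟨a * a', mul_mem ha ha', algebraMap A E a' * d + algebraMap A E a * d',
          add_mem (mul_mem (D.algebraMap_mem _) hd) (mul_mem (D.algebraMap_mem _) hd'), ?_⟩
        simp only [map_add, map_mul, ← h, ← h', ← IsScalarTower.algebraMap_apply A E K]
        ring
      zero_mem' := ⟨1, one_mem _, 0, zero_mem _, by simp⟩
      algebraMap_mem' := fun a => ⟨1, one_mem _, algebraMap A E a, D.algebraMap_mem a, by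
        rw [map_one, one_mul, ← IsScalarTower.algebraMap_apply A E K]⟩ }
  have hL : ∀ s ∈ A⁰, ∃ y ∈ L, algebraMap A K s * y = 1 := fun s hs => by
    have hu : IsUnit (algebraMap A K s) := by
      rw [IsScalarTower.algebraMap_apply A E K]
      exact IsLocalization.map_units K (⟨_, algebraMap_mem_nonZeroDivisors (E := E) hs⟩ : E⁰)
    obtain ⟨y, hy⟩ := isUnit_iff_exists_inv.1 hu
    exact ⟨y, ⟨s, hs, 1, one_mem _, by rw [hy, map_one]⟩, hy⟩
  let A'' : Subalgebra A K := L ⊓ integralClosure A K
  have := finite_integralClosure_fractionRing hG hE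
  have hA''le : A'' ≤ integralClosure A K := inf_le_right
  have hA''fin : Module.Finite A A'' := Module.Finite.of_injective
    (Subalgebra.inclusion hA''le).toLinearMap (Subalgebra.inclusion_injective hA''le)
  have hA''D' : A'' ≤ D' := fun x hx => (hD' x).2 ⟨IsIntegral.tower_top hx.2, hx.1⟩
  have hDD' : ∀ d ∈ D, φ d ∈ D' := fun d hd => (hD' _).2
    ⟨(isIntegral_algebraMap (R := D) (x := (⟨d, hd⟩ : D))), 1, one_mem _, d, hd, by rw [map_one, one_mul]; rfl⟩
  let ι := Subalgebra.inclusion hA''D'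
  let Max := {N : Ideal D' // N.IsMaximal}
  have : Finite Max := hfin.to_subtype
  let q : Max → Ideal A'' := fun N => N.1.comap ι
  have hqmax : ∀ N, (q N).IsMaximal := fun N => by
    obtain ⟨M, hM, hMN⟩ := hsurj N.1 N.2
    have h := isMaximal_comap hE A'' (hA''D'.trans hle) M hM
    have h2 : q N = M.comap (Subalgebra.inclusion (hA''D'.trans hle)) := by
      change N.1.comap ι = _
      rw [← hMN]
      rfl
    rwa [h2]
  have hunit : ∀ w : A'', (∀ N, w ∉ q N) → IsUnit (ι w) := fun w hw => by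
    by_contra hu
    obtain ⟨N, hN, hwN⟩ := exists_max_ideal_of_mem_nonunits hu
    exact hw ⟨N, hN⟩ hwN
  -- every element of the normalization is a fraction of elements of `A''`
  have key : ∀ x ∈ D', ∃ w : A'', (∀ N, w ∉ q N) ∧ (w : K) * x ∈ A'' := fun x hx => by
    let I : Ideal A'' :=
      { carrier := {c | (c : K) * x ∈ A''}
        add_mem' := fun {a b} ha hb => by
          change ((a : K) + b) * x ∈ A''
          rw [add_mul]; exact add_mem ha hb
        zero_mem' := by
          change (0 : K) * x ∈ A''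
          rw [zero_mul]; exact zero_mem _
        smul_mem' := fun c a ha => by
          change ((c : K) * a) * x ∈ A''
          rw [mul_assoc]; exact mul_mem c.2 ha }
    have hI : ∀ N, ¬ I ≤ q N := fun N hN => by
      obtain ⟨M, hM, hMN⟩ := hsurj N.1 N.2
      obtain ⟨r, hrM, hrL, hrint, hrx⟩ :=
        exists_isIntegral_mul_notMem hE L hL M hM (((hD' x).1 hx).2) (hle hx)
      refine hrM ?_
      have h1 : (⟨r, hrL, hrint⟩ : A'') ∈ q N := hN ⟨mul_mem hrL (((hD' x).1 hx).2), hrx⟩
      have h2 : ι ⟨r, hrL, hrint⟩ ∈ M.comap (Subalgebra.inclusion hle) := hMN.symm ▸ h1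
      exact h2
    obtain ⟨w, hw, hwN⟩ := exists_notMem_union q (fun N => (hqmax N).isPrime) I hI
    exact ⟨w, hwN, hw⟩
  -- the normalization is generated by `D` and `A''`
  let G : Subalgebra A K := Algebra.adjoin A (φ '' (D : Set E) ∪ (A'' : Set K))
  have hGD' : G ≤ D' := Algebra.adjoin_le (Set.union_subset (fun y ⟨d, hd, h⟩ => h ▸ hDD' d hd) hA''D')
  have hD'G : ∀ x ∈ D', x ∈ G := fun x hx => by
    obtain ⟨w, hw, hwx⟩ := key x hx
    let j := Subalgebra.inclusion hGD'
    have hj : j.toRingHom.IsIntegral := fun z => by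
      obtain ⟨f, hf, hfz⟩ := ((hD' z).1 z.2).1
      refine ⟨f.map ((φ.comp D.val).codRestrict G fun d => Algebra.subset_adjoin (Or.inl ⟨d, d.2, rfl⟩)).toRingHom,
        hf.map _, Subtype.ext ?_⟩
      rw [Polynomial.eval₂_map]
      change D'.val.toRingHom (Polynomial.eval₂ _ z f) = 0
      rw [Polynomial.hom_eval₂]
      exact hfz
    have := hj.isLocalHom (Subalgebra.inclusion_injective hGD')
    let w' : G := ⟨w, Algebra.subset_adjoin (Or.inr w.2)⟩
    have hu : IsUnit w' := isUnit_of_map_unit j.toRingHom w' (show IsUnit (j w') from hunit w hw)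
    obtain ⟨v, hv⟩ := isUnit_iff_exists_inv.1 hu
    have hv' : (w : K) * (v : K) = 1 := congrArg Subtype.val hv
    rw [show x = (v : K) * ((w : K) * x) by rw [← mul_assoc, mul_comm (v : K), hv', one_mul]]
    exact mul_mem v.2 (Algebra.subset_adjoin (Or.inr hwx))
  -- inverses of finitely many elements
  let Max' := {Q : Ideal A'' // Q.IsMaximal}
  have : Finite Max' := by
    have h : {Q : Ideal A'' | Q.IsMaximal} ⊆ (maximalIdeal A).primesOver A'' := fun Q hQ => by
      have : Q.IsMaximal := hQ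
      exact ⟨hQ.isPrime, ⟨(IsLocalRing.eq_maximalIdeal (Ideal.isMaximal_comap_of_isIntegral_of_isMaximal (R := A) Q)).symm⟩⟩
    exact ((Algebra.QuasiFinite.finite_primesOver (maximalIdeal A)).subset h).to_subtype
  have hsel : ∀ Q : Max', ∃ s : Finset K, (s : Set K) ⊆ φ '' (D : Set E) ∧ ((∀ N, q N ≠ Q.1) →
      ∃ w ∈ Q.1, ∃ v ∈ Algebra.adjoin A ((s : Set K) ∪ (A'' : Set K)), ((w : A'') : K) * v = 1) := fun Q => by
    by_cases hQ : ∀ N, q N ≠ Q.1
    · obtain ⟨w, hw, hwN⟩ := exists_notMem_union q (fun N => (hqmax N).isPrime) Q.1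
        (fun N hN => hQ N (Q.2.eq_of_le (hqmax N).ne_top hN).symm)
      obtain ⟨v, hv⟩ := isUnit_iff_exists_inv.1 (hunit w hwN)
      obtain ⟨s, hs, hsv⟩ := exists_finset_mem_adjoin_union (hD'G v v.2)
      exact ⟨s, hs, fun _ => ⟨w, hw, v, hsv, congrArg Subtype.val hv⟩⟩
    · exact ⟨∅, by simp, fun h => absurd h hQ⟩
  choose s hs hsw using hsel
  have := Fintype.ofFinite Max'
  obtain ⟨σ, hσD, hσ⟩ := Finset.subset_set_image_iff.1
    (show ((Finset.univ.biUnion s : Finset K) : Set K) ⊆ φ '' (D : Set E) by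
      rw [Finset.coe_biUnion]
      exact Set.iUnion₂_subset fun Q _ => hs Q)
  let D0 : Subalgebra A E := localSub A (σ : Set E)
  have hD0D : D0 ≤ D := localSub_le D hσD
  have := isLocalHom_localSub (A := A) (σ : Set E)
  have : IsLocalRing D0 := isLocalRing_localSub _
  have : Algebra.EssFiniteType A D0 := essFiniteType_localSub σ
  have : IsNoetherianRing D0 := Algebra.EssFiniteType.isNoetherianRing A D0
  have : IsScalarTower A D0 K := IsScalarTower.of_algebraMap_eq fun a =>
    IsScalarTower.algebraMap_apply A E K a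
  obtain ⟨t, ht⟩ := Subalgebra.fg_of_fg_toSubmodule ((Module.Finite.iff_fg (N := Subalgebra.toSubmodule A'')).1 hA''fin)
  let T : Subalgebra D0 K := Algebra.adjoin D0 (t : Set K)
  have htint : ∀ y ∈ (t : Set K), IsIntegral D0 y := fun y hy =>
    IsIntegral.tower_top (ht ▸ Algebra.subset_adjoin hy : y ∈ A'').2
  have hTfg : T.toSubmodule.FG := fg_adjoin_of_finite t.finite_toSet htint
  have : Module.Finite D0 T := Module.Finite.iff_fg.2 hTfg
  have hA''T : ∀ y ∈ A'', y ∈ T := fun y hy => by
    rw [← ht] at hy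
    exact (Algebra.adjoin_le (S := T.restrictScalars A) Algebra.subset_adjoin) hy
  have hsT : ∀ Q, Algebra.adjoin A ((s Q : Set K) ∪ (A'' : Set K)) ≤ T.restrictScalars A := fun Q =>
    Algebra.adjoin_le (Set.union_subset (fun y hy => by
      have h : y ∈ (Finset.univ.biUnion s) := Finset.mem_biUnion.2 ⟨Q, Finset.mem_univ _, hy⟩
      rw [← hσ, Finset.mem_image] at h
      obtain ⟨e, he, rfl⟩ := h
      exact T.algebraMap_mem ⟨e, subset_localSub _ he⟩) hA''T)
  have hTunit : ∀ (w : A''), (∀ N, w ∉ q N) → ∃ v ∈ T, (w : K) * v = 1 := fun w hw => by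
    by_contra hcon
    let g : A'' →+* T := (A''.val.toRingHom).codRestrict T fun y => hA''T y y.2
    have hgu : ¬ IsUnit (g w) := fun hu => by
      obtain ⟨v, hv⟩ := isUnit_iff_exists_inv.1 hu
      exact hcon ⟨v, v.2, congrArg Subtype.val hv⟩
    obtain ⟨n, hn, hwn⟩ := exists_max_ideal_of_mem_nonunits hgu
    have : n.IsMaximal := hn
    have : IsLocalHom (algebraMap A D0) := ⟨fun a ha => isUnit_of_map_unit (algebraMap A E) a (ha.map D0.val)⟩
    have hnA : (n.comap g).comap (algebraMap A A'') = maximalIdeal A := by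
      rw [Ideal.comap_comap, show g.comp (algebraMap A A'') = (algebraMap D0 T).comp (algebraMap A D0) from
          RingHom.ext fun a => Subtype.ext (IsScalarTower.algebraMap_apply A D0 K a),
        ← Ideal.comap_comap, IsLocalRing.eq_maximalIdeal (Ideal.isMaximal_comap_of_isIntegral_of_isMaximal (R := D0) n)]
      exact IsLocalRing.maximalIdeal_comap _
    have : (n.comap g).IsPrime := Ideal.comap_isPrime _ _
    have hQ : (n.comap g).IsMaximal :=
      Ideal.isMaximal_of_isIntegral_of_isMaximal_comap _ (hnA.symm ▸ maximalIdeal.isMaximal A)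
    by_cases hq : ∀ N, q N ≠ n.comap g
    · obtain ⟨w', hw', v, hv, hwv⟩ := hsw ⟨_, hQ⟩ hq
      exact hn.ne_top (Ideal.eq_top_of_isUnit_mem n hw'
        (isUnit_iff_exists_inv.2 ⟨⟨v, hsT _ hv⟩, Subtype.ext hwv⟩))
    · push Not at hq
      obtain ⟨N, hN⟩ := hq
      exact hw N (hN ▸ hwn)
  have hD'T : ∀ x ∈ D', x ∈ T := fun x hx => by
    obtain ⟨w, hw, hwx⟩ := key x hx
    obtain ⟨v, hv, hwv⟩ := hTunit w hw
    rw [show x = v * ((w : K) * x) by rw [← mul_assoc, mul_comm v, hwv, one_mul]]
    exact mul_mem hv (hA''T _ hwx)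
  letI : Algebra D0 D := (Subalgebra.inclusion hD0D).toRingHom.toAlgebra
  have : IsScalarTower A D0 D := IsScalarTower.of_algebraMap_eq fun a => rfl
  have : Module.Finite D0 D := by
    let f : D →ₗ[D0] T :=
      { toFun := fun d => ⟨φ d, hD'T _ (hDD' d d.2)⟩
        map_add' := fun x y => Subtype.ext (map_add φ _ _)
        map_smul' := fun c x => Subtype.ext ((map_mul φ (c : E) (x : E)).trans (Algebra.smul_def c (φ x)).symm) }
    refine Module.Finite.of_injective f fun x y h => Subtype.ext ?_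
    exact IsFractionRing.injective E K (congrArg Subtype.val h)
  refine ⟨Algebra.EssFiniteType.comp A D0 D, ?_⟩
  obtain ⟨u, hu⟩ := hTfg
  refine ⟨u, fun x hx => ?_⟩
  have hxT : x ∈ Submodule.span D0 (u : Set K) := hu ▸ hD'T x hx
  have : IsScalarTower D0 D K := IsScalarTower.of_algebraMap_eq fun _ => rfl
  exact Submodule.span_le_restrictScalars D0 D _ hxT

theorem essFiniteType_of_semilocal {A E : Type u} [CommRing A] [IsLocalRing A] [IsReduced A]
    [IsNoetherianRing A] (hG : CAlg.IsGRing A) [CommRing E] [IsLocalRing E] [Algebra A E]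
    [IsLocalHom (algebraMap A E)] (hE : EGA4loc.IsEssentiallyEtale A E)
    (D : Subalgebra A E) [IsLocalHom (algebraMap D E)] (D' : Subalgebra A (FractionRing E))
    (hD' : ∀ x : (FractionRing E), x ∈ D' ↔ (IsIntegral D x ∧
      ∃ a ∈ nonZeroDivisors A, ∃ d ∈ D, algebraMap A (FractionRing E) a * x = algebraMap E (FractionRing E) d))
    (hle : D' ≤ ((integralClosure E (FractionRing E)).restrictScalars A))
    (hfin : {N : Ideal D' | N.IsMaximal}.Finite)
    (hsurj : ∀ N : Ideal D', N.IsMaximal →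
      ∃ M : Ideal ((integralClosure E (FractionRing E)).restrictScalars A), M.IsMaximal ∧
        M.comap (Subalgebra.inclusion hle) = N) :
    Algebra.EssFiniteType A D :=
  (essFiniteType_and_finite_of_semilocal hG hE D D' hD' hle hfin hsurj).1

end Groth.Agent.SubSh14
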