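import Mathlib
import Groth.Agent.SubSh14.EtaleNormalization
import Groth.Agent.SubSh14.Semilocal

/-!
Rigidity of semilocally generated normalizations inside an essentially etale algebra.
-/

set_option autoImplicit false

open IsLocalRing
open scoped nonZeroDivisors TensorProduct

namespace Groth.Agent.SubSh14

universe u

section

variable {A E : Type u} [CommRing A] [CommRing E] [Algebra A E]

theorem isNoetherianRing_tensor (A E R : Type u) [CommRing A] [CommRing E] [Algebra A E] [CommRing R] [Algebra A R]
    [IsNoetherianRing R] [Algebra.EssFiniteType A E] : IsNoetherianRing (R ⊗[A] E) :=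
  Algebra.EssFiniteType.isNoetherianRing R _

theorem exists_mul_algebraMap (x : FractionRing A) :
    ∃ a ∈ A⁰, ∃ b : A, algebraMap A (FractionRing A) a * x = algebraMap A (FractionRing A) b := by
  obtain ⟨⟨b, a⟩, h⟩ := IsLocalization.surj A⁰ x
  exact ⟨a, a.2, b, by rw [mul_comm]; exact h⟩

theorem liftBase_injective [Module.Flat A E] (hinj : Function.Injective (algebraMap A E)) :
    Function.Injective (liftBase A E) := by
  rw [injective_iff_map_eq_zero]
  intro x hx
  obtain ⟨a, ha, b, hab⟩ := exists_mul_algebraMap x
  have h := congrArg (liftBase A E) hab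
  rw [map_mul, hx, mul_zero, AlgHom.commutes, IsScalarTower.algebraMap_apply A E (FractionRing E)] at h
  have hb : b = 0 := hinj (IsFractionRing.injective E (FractionRing E) (by rw [map_zero, map_zero, ← h]))
  rw [hb, map_zero] at hab
  exact (IsLocalization.map_units (FractionRing A) (⟨a, ha⟩ : A⁰)).mul_right_eq_zero.1 hab

variable [IsLocalRing A] [IsReduced A] [IsNoetherianRing A] [IsLocalRing E] [IsLocalHom (algebraMap A E)]

omit [IsLocalRing E] [IsLocalHom (algebraMap A E)] in
/-- The normalization of an essentially etale algebra as a base change. -/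
theorem bijective_normMap_codRestrict [Module.Flat A E] (hE : EGA4loc.IsEssentiallyEtale A E) :
    Function.Bijective ((normMap A E).codRestrict ((integralClosure E (FractionRing E)).restrictScalars A)
      isIntegral_normMap) := by
  refine ⟨fun z w h => normMap_injective (congrArg Subtype.val h), fun y => ?_⟩
  obtain ⟨z, hz⟩ := mem_range_normMap hE y.2
  exact ⟨z, Subtype.ext hz⟩

/-- The normalization of an essentially etale algebra over a G-ring is Noetherian. -/
theorem isNoetherianRing_integralClosure (hG : CAlg.IsGRing A) (hE : EGA4loc.IsEssentiallyEtale A E) :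
    IsNoetherianRing (integralClosure E (FractionRing E)) := by
  have := flat hE
  have := isNoetherianRing hE
  have := EssEt14.formallyEtale hE
  have := EssEt14.essFiniteType hE
  let R := integralClosure A (FractionRing A)
  have := finite_integralClosure_fractionRing hG hE
  have : Module.FaithfullyFlat A E := Module.FaithfullyFlat.of_flat_of_isLocalHom
  have hR : Module.Finite A R := by
    let f : R →ₐ[A] integralClosure A (FractionRing E) :=
      ((liftBase A E).comp R.val).codRestrict _ fun x => isIntegral_liftBase x.2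
    exact Module.Finite.of_injective f.toLinearMap fun x y h =>
      Subtype.ext (liftBase_injective (FaithfulSMul.algebraMap_injective A E) (congrArg Subtype.val h))
  let ν := (normMap A E).codRestrict ((integralClosure E (FractionRing E)).restrictScalars A) isIntegral_normMap
  have hν := bijective_normMap_codRestrict (A := A) hE
  have : IsNoetherianRing R := IsNoetherianRing.of_finite A R
  have := isNoetherianRing_tensor A E R
  exact isNoetherianRing_of_surjective (R ⊗[A] E) ((integralClosure E (FractionRing E)).restrictScalars A)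
    ν.toRingHom hν.2

/-- Maximal ideals of the normalization are generated by maximal ideals of the normalization of the base. -/
theorem exists_mul_eq_sum_of_mem (hE : EGA4loc.IsEssentiallyEtale A E) [Module.Flat A E]
    (M : Ideal ((integralClosure E (FractionRing E)).restrictScalars A)) [M.IsPrime]
    {z : (integralClosure E (FractionRing E)).restrictScalars A} (hz : z ∈ M) :
    ∃ s : (integralClosure E (FractionRing E)).restrictScalars A, s ∉ M ∧ ∃ (k : ℕ)
      (q e : Fin k → (integralClosure E (FractionRing E)).restrictScalars A),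
        (∀ i, q i ∈ M ∧ IsIntegral A (q i : FractionRing E) ∧ ∃ a ∈ A⁰, ∃ b : A,
          algebraMap A (FractionRing E) a * (q i : FractionRing E) = algebraMap A (FractionRing E) b) ∧
        s * z = ∑ i, q i * e i := by
  let R := integralClosure A (FractionRing A)
  let ν := (normMap A E).codRestrict ((integralClosure E (FractionRing E)).restrictScalars A) isIntegral_normMap
  have hν := bijective_normMap_codRestrict (A := A) hE
  obtain ⟨t, rfl⟩ := hν.2 z
  let P : Ideal (R ⊗[A] E) := M.comap ν.toRingHom
  have : P.IsPrime := Ideal.comap_isPrime _ _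
  obtain ⟨u, hu, hut⟩ := (exists_etale_local_tensor hE R P).1 t hz
  rw [Ideal.map, Submodule.mem_span_set'] at hut
  obtain ⟨k, f, g, hfg⟩ := hut
  choose r hr hrg using fun i => (g i).2
  refine ⟨ν u, hu, k, fun i => ν (algebraMap R (R ⊗[A] E) (r i)), fun i => ν (f i), fun i => ⟨hr i, ?_, ?_⟩, ?_⟩
  · change IsIntegral A (normMap A E (r i ⊗ₜ[A] 1))
    rw [normMap_tmul, map_one, mul_one]
    exact isIntegral_liftBase (r i).2
  · obtain ⟨a, ha, b, hab⟩ := exists_mul_algebraMap (r i : FractionRing A)
    refine ⟨a, ha, b, ?_⟩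
    change _ * normMap A E (r i ⊗ₜ[A] 1) = _
    rw [normMap_tmul, map_one, mul_one, ← (liftBase A E).commutes, ← map_mul, hab, AlgHom.commutes]
  · change ν u * ν t = _
    rw [← map_mul, ← hfg, map_sum]
    exact Finset.sum_congr rfl fun i _ => by rw [smul_eq_mul, map_mul, ← hrg i, mul_comm]

variable (D : Subalgebra A E) (A' D' : Subalgebra A (FractionRing E))
  (hA' : ∀ x : FractionRing E, x ∈ A' ↔ (IsIntegral A x ∧
      ∃ a ∈ A⁰, ∃ b : A, algebraMap A (FractionRing E) a * x = algebraMap A (FractionRing E) b))
  (hD' : ∀ x : FractionRing E, x ∈ D' ↔ (IsIntegral D x ∧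
      ∃ a ∈ A⁰, ∃ d ∈ D, algebraMap A (FractionRing E) a * x = algebraMap E (FractionRing E) d))
  (hres : ∀ x : D', ∃ z : D', (z : FractionRing E) ∈
      Algebra.adjoin A ((A' : Set (FractionRing E)) ∪ algebraMap E (FractionRing E) '' (D : Set E)) ∧
      x - z ∈ Ideal.jacobson (⊥ : Ideal D'))

omit [IsLocalRing A] [IsReduced A] [IsNoetherianRing A] [IsLocalRing E] [IsLocalHom (algebraMap A E)] in
include hA' hD' in
theorem mem_of_mem_base {x : FractionRing E} (hx : x ∈ A') : x ∈ D' := by
  obtain ⟨hxA, a, ha, b, hab⟩ := (hA' x).1 hx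
  refine (hD' x).2 ⟨hxA.tower_top, a, ha, algebraMap A E b, D.algebraMap_mem b, ?_⟩
  rw [hab, IsScalarTower.algebraMap_apply A E (FractionRing E)]

omit [IsLocalRing A] [IsReduced A] [IsNoetherianRing A] [IsLocalRing E] [IsLocalHom (algebraMap A E)] in
include hD' in
theorem algebraMap_mem_normalization {d : E} (hd : d ∈ D) : algebraMap E (FractionRing E) d ∈ D' :=
  (hD' _).2 ⟨isIntegral_algebraMap (R := D) (x := (⟨d, hd⟩ : D)), 1, one_mem _, d, hd,
    by rw [map_one, one_mul]⟩

variable [IsLocalHom (algebraMap D E)] (hle : D' ≤ (integralClosure E (FractionRing E)).restrictScalars A)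

set_option maxHeartbeats 1000000 in
include hA' hD' hres in
/-- Every maximal ideal of the normalization of the subalgebra lies under one of the ambient one. -/
theorem exists_isMaximal_comap_eq (hE : EGA4loc.IsEssentiallyEtale A E) (N : Ideal D') (hN : N.IsMaximal) :
    ∃ M : Ideal ((integralClosure E (FractionRing E)).restrictScalars A), M.IsMaximal ∧
      M.comap (Subalgebra.inclusion hle) = N := by
  have := flat hE
  have := EssEt14.formallyEtale hE
  have := EssEt14.essFiniteType hE
  have : IsLocalRing D := RingHom.domain_isLocalRing (algebraMap D E)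
  letI := Ideal.Quotient.field N
  let κ := D' ⧸ N
  let Ω := AlgebraicClosure κ
  let ρ : D' →ₐ[A] Ω := (IsScalarTower.toAlgHom A κ Ω).comp (Ideal.Quotient.mkₐ A N)
  let ι : D →ₐ[A] D' := ((IsScalarTower.toAlgHom A E (FractionRing E)).comp D.val).codRestrict D'
    fun d => algebraMap_mem_normalization D D' hD' d.2
  have hι : ι.toRingHom.IsIntegral := fun x => by
    obtain ⟨f, hf, hfx⟩ := ((hD' x).1 x.2).1
    refine ⟨f, hf, Subtype.ext ?_⟩
    change D'.val.toRingHom (Polynomial.eval₂ ι.toRingHom x f) = 0
    rw [Polynomial.hom_eval₂]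
    exact hfx
  have hNm : (N.comap ι.toRingHom) = maximalIdeal D :=
    eq_maximalIdeal (Ideal.isMaximal_comap_of_isIntegral_of_isMaximal' ι.toRingHom hι N)
  let ρD : ResidueField D →+* Ω := Ideal.Quotient.lift _ (ρ.comp ι).toRingHom fun d hd => by
    have h : ι d ∈ N := hNm.ge hd
    change algebraMap κ Ω (Ideal.Quotient.mk N (ι d)) = 0
    rw [Ideal.Quotient.eq_zero_iff_mem.2 h, map_zero]
  letI : Algebra (ResidueField D) Ω := ρD.toAlgebra
  have : IsLocalHom (algebraMap A D) := ⟨fun a ha => isUnit_of_map_unit (algebraMap A E) a (ha.map D.val)⟩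

  have : IsScalarTower (ResidueField A) (ResidueField D) (ResidueField E) := IsScalarTower.of_algebraMap_eq fun x => by
    obtain ⟨a, rfl⟩ := residue_surjective x
    rfl
  have : Module.Finite (ResidueField A) (ResidueField E) := Algebra.FormallyUnramified.finite_of_free _ _
  have : Module.Finite (ResidueField D) (ResidueField E) := Module.Finite.of_restrictScalars_finite (ResidueField A) _ _
  have : Algebra.IsAlgebraic (ResidueField D) (ResidueField E) := Algebra.IsAlgebraic.of_finite _ _
  let αk : ResidueField E →ₐ[ResidueField D] Ω := IsAlgClosed.lift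
  let α : E →ₐ[A] Ω :=
    { toRingHom := αk.toRingHom.comp (residue E)
      commutes' := fun a => by
        change αk (residue E (algebraMap A E a)) = _
        have h1 : residue E (algebraMap A E a) = algebraMap (ResidueField D) (ResidueField E) (residue D (algebraMap A D a)) := rfl
        rw [h1, αk.commutes]
        exact (ρ.comp ι).commutes a }
  let R := integralClosure A (FractionRing A)
  have hR : ∀ x : R, liftBase A E x ∈ D' := fun x => by
    refine mem_of_mem_base D A' D' hA' hD' ((hA' _).2 ⟨isIntegral_liftBase x.2, ?_⟩)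
    obtain ⟨a, ha, b, hab⟩ := exists_mul_algebraMap (x : FractionRing A)
    exact ⟨a, ha, b, by rw [← (liftBase A E).commutes, ← map_mul, hab, AlgHom.commutes]⟩
  let ρR : R →ₐ[A] Ω := ρ.comp (((liftBase A E).comp R.val).codRestrict D' hR)
  let Ψ : R ⊗[A] E →ₐ[A] Ω := Algebra.TensorProduct.productMap ρR α
  let E' := (integralClosure E (FractionRing E)).restrictScalars A
  let ν := AlgEquiv.ofBijective _ (bijective_normMap_codRestrict (A := A) hE)
  let γ : E' →ₐ[A] Ω := Ψ.comp ν.symm.toAlgHom
  let M : Ideal E' := RingHom.ker γ.toRingHom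
  have : M.IsPrime := RingHom.ker_isPrime _
  have hγE : ∀ e : E, γ ⟨algebraMap E (FractionRing E) e, isIntegral_algebraMap⟩ = α e := fun e => by
    have h : ν (1 ⊗ₜ[A] e) = ⟨algebraMap E (FractionRing E) e, isIntegral_algebraMap⟩ :=
      Subtype.ext (normMap_one_tmul e)
    change Ψ (ν.symm _) = _
    rw [← h, AlgEquiv.symm_apply_apply]
    refine (Algebra.TensorProduct.productMap_apply_tmul _ _ _ _).trans ?_
    rw [map_one, one_mul]
  have hM : M.IsMaximal := by
    let p : E →+* E' := algebraMap E (integralClosure E (FractionRing E))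
    letI : Algebra E E' := p.toAlgebra
    have hp : p.IsIntegral := fun x =>
      Algebra.IsIntegral.isIntegral (R := E) (A := integralClosure E (FractionRing E)) x
    have : Algebra.IsIntegral E E' := ⟨hp⟩
    refine Ideal.isMaximal_of_isIntegral_of_isMaximal_comap (R := E) M ?_
    have h : M.comap (algebraMap E E') = maximalIdeal E := by
      ext e
      change γ ⟨algebraMap E (FractionRing E) e, isIntegral_algebraMap⟩ = 0 ↔ _
      rw [hγE]
      change αk (residue E e) = 0 ↔ _
      rw [map_eq_zero αk, residue_eq_zero_iff]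
    rw [h]
    exact maximalIdeal.isMaximal E
  refine ⟨M, hM, ?_⟩
  have hagree : ∀ z (hzA : z ∈ Algebra.adjoin A ((A' : Set (FractionRing E)) ∪
      algebraMap E (FractionRing E) '' (D : Set E))),
      ∃ hz : z ∈ D', γ (Subalgebra.inclusion hle ⟨z, hz⟩) = ρ ⟨z, hz⟩ := fun z hzA => by
    induction hzA using Algebra.adjoin_induction with
    | mem z hz =>
      rcases hz with hz | ⟨d, hd, rfl⟩
      · have hzD := mem_of_mem_base D A' D' hA' hD' hz
        obtain ⟨hzint, a, ha, b, hab⟩ := (hA' z).1 hz
        refine ⟨hzD, ?_⟩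
        let y : FractionRing A := IsLocalization.mk' _ b (⟨a, ha⟩ : A⁰)
        have hy : liftBase A E y = z := by
          refine IsUnit.mul_left_cancel ?_ (a := algebraMap A (FractionRing E) a) ?_
          · rw [IsScalarTower.algebraMap_apply A E (FractionRing E)]
            exact IsLocalization.map_units (FractionRing E) (⟨_, algebraMap_mem_nonZeroDivisors (E := E) ha⟩ : E⁰)
          · rw [hab, ← (liftBase A E).commutes a, ← map_mul, IsLocalization.mk'_spec'_mk, AlgHom.commutes]
        have hyA : IsIntegral A y := by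
          have : Module.FaithfullyFlat A E := Module.FaithfullyFlat.of_flat_of_isLocalHom
          exact (isIntegral_algHom_iff (liftBase A E) (liftBase_injective (FaithfulSMul.algebraMap_injective A E))).1
            (hy ▸ hzint)
        have h : ν ((⟨y, hyA⟩ : R) ⊗ₜ[A] 1) = Subalgebra.inclusion hle ⟨z, hzD⟩ := Subtype.ext (by
          change normMap A E _ = z
          rw [normMap_tmul, map_one, mul_one]
          exact hy)
        change Ψ (ν.symm _) = _
        rw [← h, AlgEquiv.symm_apply_apply]
        refine (Algebra.TensorProduct.productMap_apply_tmul _ _ _ _).trans ?_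
        rw [map_one, mul_one]
        exact congrArg ρ (Subtype.ext hy)
      · refine ⟨algebraMap_mem_normalization D D' hD' hd, ?_⟩
        refine (hγE d).trans ?_
        change αk (residue E d) = _
        rw [show residue E d = algebraMap (ResidueField D) (ResidueField E) (residue D ⟨d, hd⟩) from rfl, αk.commutes]
        rfl
    | algebraMap r => exact ⟨D'.algebraMap_mem r, (γ.comp (Subalgebra.inclusion hle)).commutes r |>.trans (ρ.commutes r).symm⟩
    | add x y _ _ hx hy =>
      obtain ⟨hx, hx'⟩ := hx
      obtain ⟨hy, hy'⟩ := hy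
      refine ⟨add_mem hx hy, ?_⟩
      rw [show (⟨x + y, add_mem hx hy⟩ : D') = ⟨x, hx⟩ + ⟨y, hy⟩ from rfl, map_add, map_add, map_add, hx', hy']
    | mul x y _ _ hx hy =>
      obtain ⟨hx, hx'⟩ := hx
      obtain ⟨hy, hy'⟩ := hy
      refine ⟨mul_mem hx hy, ?_⟩
      rw [show (⟨x * y, mul_mem hx hy⟩ : D') = ⟨x, hx⟩ * ⟨y, hy⟩ from rfl, map_mul, map_mul, map_mul, hx', hy']
  have hcmax := isMaximal_comap hE D' hle M hM
  ext x
  obtain ⟨z, hz, hxz⟩ := hres x
  obtain ⟨hz', hzeq⟩ := hagree z hz
  have hn1 : x - z ∈ N := by
    rw [Ideal.jacobson, Ideal.mem_sInf] at hxz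
    exact hxz ⟨bot_le, hN⟩
  have hn2 : x - z ∈ M.comap (Subalgebra.inclusion hle) := by
    rw [Ideal.jacobson, Ideal.mem_sInf] at hxz
    exact hxz ⟨bot_le, hcmax⟩
  have hρ : ∀ w, ρ w = 0 ↔ w ∈ N := fun w => by
    change algebraMap κ Ω (Ideal.Quotient.mk N w) = 0 ↔ _
    rw [map_eq_zero_iff _ (algebraMap κ Ω).injective, Ideal.Quotient.eq_zero_iff_mem]
  rw [show x = (x - z) + z from (sub_add_cancel x z).symm, Ideal.add_mem_iff_right _ hn2,
    Ideal.add_mem_iff_right _ hn1]
  change γ (Subalgebra.inclusion hle z) = 0 ↔ _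
  rw [show Subalgebra.inclusion hle z = Subalgebra.inclusion hle ⟨z, hz'⟩ from rfl, hzeq]
  exact hρ z

end

end Groth.Agent.SubSh14
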