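import Mathlib
import Groth.Agent.SubSh14.Rigidity

/-!
Maps congruent to the identity on a semilocally normalizable subalgebra are the identity.
-/

set_option autoImplicit false

open IsLocalRing
open scoped nonZeroDivisors TensorProduct

namespace Groth.Agent.SubSh14

universe u

variable {A E : Type u} [CommRing A] [CommRing E] [Algebra A E]

theorem eq_zero_of_forall_mem_pow {R : Type*} [CommRing R] [IsNoetherianRing R] [IsLocalRing R] {x : R}
    (h : ∀ n : ℕ, x ∈ maximalIdeal R ^ n) : x = 0 :=
  (Submodule.mem_bot R).1 ((Ideal.iInf_pow_eq_bot_of_isLocalRing _ (maximalIdeal.isMaximal R).ne_top).le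
    ((Submodule.mem_iInf _).2 h))

/-- The total ring of fractions of a subalgebra, inside that of the algebra. -/
def fracSub (D : Subalgebra A E) : Subalgebra A (FractionRing E) where
  carrier := {x | ∃ a ∈ A⁰, ∃ d ∈ D, algebraMap A (FractionRing E) a * x = algebraMap E (FractionRing E) d}
  mul_mem' := by
    rintro x y ⟨a, ha, d, hd, h⟩ ⟨a', ha', d', hd', h'⟩
    exact ⟨a * a', mul_mem ha ha', d * d', mul_mem hd hd', by rw [map_mul, map_mul, ← h, ← h']; ring⟩
  one_mem' := ⟨1, one_mem _, 1, one_mem _, by simp⟩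
  add_mem' := by
    rintro x y ⟨a, ha, d, hd, h⟩ ⟨a', ha', d', hd', h'⟩
    refine ⟨a * a', mul_mem ha ha', algebraMap A E a' * d + algebraMap A E a * d',
      add_mem (mul_mem (D.algebraMap_mem _) hd) (mul_mem (D.algebraMap_mem _) hd'), ?_⟩
    simp only [map_add, map_mul, ← h, ← h', ← IsScalarTower.algebraMap_apply A E (FractionRing E)]
    ring
  zero_mem' := ⟨1, one_mem _, 0, zero_mem _, by simp⟩
  algebraMap_mem' := fun a => ⟨1, one_mem _, algebraMap A E a, D.algebraMap_mem a, by
    rw [map_one, one_mul, ← IsScalarTower.algebraMap_apply A E (FractionRing E)]⟩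

theorem isUnit_algebraMap_fractionRing [Module.Flat A E] {a : A} (ha : a ∈ A⁰) :
    IsUnit (algebraMap A (FractionRing E) a) := by
  rw [IsScalarTower.algebraMap_apply A E (FractionRing E)]
  exact IsLocalization.map_units (FractionRing E) (⟨_, algebraMap_mem_nonZeroDivisors (E := E) ha⟩ : E⁰)

theorem exists_inv_mem_fracSub [Module.Flat A E] (D : Subalgebra A E) {a : A} (ha : a ∈ A⁰) :
    ∃ y ∈ fracSub D, algebraMap A (FractionRing E) a * y = 1 := by
  obtain ⟨y, hy⟩ := isUnit_iff_exists_inv.1 (isUnit_algebraMap_fractionRing (E := E) ha)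
  exact ⟨y, ⟨a, ha, 1, one_mem _, by rw [hy, map_one]⟩, hy⟩

/-- An algebra map on a subalgebra extends to the elements with denominators in the base. -/
theorem exists_extension [Module.Flat A E] (D : Subalgebra A E) (j : D →ₐ[A] E) :
    ∃ J : fracSub D →ₐ[A] FractionRing E, ∀ (x : fracSub D) (a : A) (d : D),
      algebraMap A (FractionRing E) a * (x : FractionRing E) = algebraMap E (FractionRing E) d →
        algebraMap A (FractionRing E) a * J x = algebraMap E (FractionRing E) (j d) := by
  have hu : ∀ {a : A}, a ∈ A⁰ → IsUnit (algebraMap A (FractionRing E) a) :=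
    fun ha => isUnit_algebraMap_fractionRing ha
  choose a ha d hd had using fun x : fracSub D => x.2
  choose w hw using fun x : fracSub D => isUnit_iff_exists_inv.1 (hu (ha x))
  let J : fracSub D → FractionRing E := fun x => algebraMap E (FractionRing E) (j ⟨d x, hd x⟩) * w x
  have key : ∀ (x : fracSub D) (b : A) (e : D),
      algebraMap A (FractionRing E) b * (x : FractionRing E) = algebraMap E (FractionRing E) e →
        algebraMap A (FractionRing E) b * J x = algebraMap E (FractionRing E) (j e) := fun x b e h => by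
    have h1 : algebraMap A D (a x) * e = algebraMap A D b * ⟨d x, hd x⟩ := by
      apply Subtype.ext
      apply IsFractionRing.injective E (FractionRing E)
      change algebraMap E _ (algebraMap A E (a x) * e) = algebraMap E _ (algebraMap A E b * d x)
      rw [map_mul, map_mul, ← IsScalarTower.algebraMap_apply, ← IsScalarTower.algebraMap_apply, ← h, ← had x]
      ring
    have h2 := congrArg (fun z => algebraMap E (FractionRing E) (j z)) h1
    simp only [map_mul, j.commutes, ← IsScalarTower.algebraMap_apply] at h2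
    refine (hu (ha x)).mul_left_cancel ?_
    rw [show algebraMap A (FractionRing E) b * J x =
      algebraMap A (FractionRing E) b * algebraMap E (FractionRing E) (j ⟨d x, hd x⟩) * w x from (mul_assoc _ _ _).symm,
      ← h2]
    linear_combination (algebraMap A (FractionRing E) (a x) * algebraMap E (FractionRing E) (j e)) * hw x
  have hspec : ∀ x, algebraMap A (FractionRing E) (a x) * J x = algebraMap E (FractionRing E) (j ⟨d x, hd x⟩) :=
    fun x => key x (a x) ⟨d x, hd x⟩ (had x)
  refine ⟨{
      toFun := J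
      map_one' := ?_
      map_mul' := fun x y => ?_
      map_zero' := ?_
      map_add' := fun x y => ?_
      commutes' := fun r => ?_ }, key⟩
  · have h := key 1 1 1 (by simp)
    rwa [map_one, one_mul, map_one, map_one] at h
  · have h := key (x * y) (a x * a y) (⟨d x, hd x⟩ * ⟨d y, hd y⟩) (by
      change _ * ((x : FractionRing E) * y) = algebraMap E _ (d x * d y)
      rw [map_mul, map_mul, ← had x, ← had y]
      ring)
    rw [map_mul j, map_mul (algebraMap E (FractionRing E)), map_mul, ← hspec, ← hspec] at h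
    refine ((hu (ha x)).mul (hu (ha y))).mul_left_cancel ?_
    rw [h]
    ring
  · have h := key 0 1 0 (by simp)
    rwa [map_one, one_mul, map_zero, map_zero] at h
  · have h := key (x + y) (a x * a y) (algebraMap A D (a y) * ⟨d x, hd x⟩ + algebraMap A D (a x) * ⟨d y, hd y⟩) (by
      change _ * ((x : FractionRing E) + y) = algebraMap E _ (algebraMap A E (a y) * d x + algebraMap A E (a x) * d y)
      simp only [map_add, map_mul, ← had x, ← had y, ← IsScalarTower.algebraMap_apply A E (FractionRing E)]
      ring)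
    simp only [map_add, map_mul, j.commutes, ← hspec, ← IsScalarTower.algebraMap_apply A E (FractionRing E)] at h
    refine ((hu (ha x)).mul (hu (ha y))).mul_left_cancel ?_
    rw [h]
    ring
  · have h := key (algebraMap A (fracSub D) r) 1 (algebraMap A D r) (by
      rw [map_one, one_mul]
      exact IsScalarTower.algebraMap_apply A E (FractionRing E) r)
    rwa [map_one, one_mul, j.commutes, ← IsScalarTower.algebraMap_apply A E (FractionRing E)] at h

variable [IsLocalRing A] [IsReduced A] [IsNoetherianRing A] [IsLocalRing E] [IsLocalHom (algebraMap A E)]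

set_option maxHeartbeats 1000000 in
/-- Rigidity. -/
theorem algHom_eq_of_residue_eq (hG : CAlg.IsGRing A) (hE : EGA4loc.IsEssentiallyEtale A E) (D : Subalgebra A E)
    [IsLocalHom (algebraMap D E)] (A' D' : Subalgebra A (FractionRing E))
    (hA' : ∀ x : FractionRing E, x ∈ A' ↔ (IsIntegral A x ∧
      ∃ a ∈ A⁰, ∃ b : A, algebraMap A (FractionRing E) a * x = algebraMap A (FractionRing E) b))
    (hD' : ∀ x : FractionRing E, x ∈ D' ↔ (IsIntegral D x ∧
      ∃ a ∈ A⁰, ∃ d ∈ D, algebraMap A (FractionRing E) a * x = algebraMap E (FractionRing E) d))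
    (hres : ∀ x : D', ∃ z : D', (z : FractionRing E) ∈
      Algebra.adjoin A ((A' : Set (FractionRing E)) ∪ algebraMap E (FractionRing E) '' (D : Set E)) ∧
      x - z ∈ Ideal.jacobson (⊥ : Ideal D'))
    (j : D →ₐ[A] E) (hj : ∀ d : D, j d - d ∈ maximalIdeal E) (d : D) : j d = d := by
  have := flat hE
  have := EssEt14.formallyEtale hE
  have := EssEt14.essFiniteType hE
  have := isNoetherianRing_integralClosure hG hE
  have : IsLocalRing D := RingHom.domain_isLocalRing (algebraMap D E)
  let K := FractionRing E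
  let E' := (integralClosure E K).restrictScalars A
  have hDint : ∀ {x : K}, IsIntegral D x → IsIntegral E x := fun hx => hx.tower_top
  have hle : D' ≤ E' := fun x hx => hDint ((hD' x).1 hx).1
  have hD'L : ∀ x ∈ D', x ∈ fracSub D := fun x hx => ((hD' x).1 hx).2
  have hLD' : ∀ x ∈ fracSub D, IsIntegral A x → x ∈ D' := fun x hx hxA => (hD' x).2 ⟨hxA.tower_top, hx⟩
  obtain ⟨J, hJ⟩ := exists_extension D j
  -- the two maps
  have hJD : ∀ (e : D) (h : algebraMap E K e ∈ fracSub D), J ⟨_, h⟩ = algebraMap E K (j e) := fun e h => by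
    have := hJ ⟨_, h⟩ 1 e (by rw [map_one, one_mul])
    rwa [map_one, one_mul] at this
  have hJint : ∀ x : D', IsIntegral E (J (Subalgebra.inclusion hD'L x)) := fun x => by
    obtain ⟨f, hf, hfx⟩ := ((hD' x).1 x.2).1
    refine ⟨f.map j.toRingHom, hf.map _, ?_⟩
    have hcomp : (algebraMap E K).comp j.toRingHom =
        J.toRingHom.comp (((IsScalarTower.toAlgHom A E K).comp D.val).codRestrict (fracSub D)
          fun e => hD'L _ (algebraMap_mem_normalization D D' hD' e.2)).toRingHom := RingHom.ext fun e => by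
      exact (hJD e _).symm
    rw [Polynomial.eval₂_map, hcomp]
    change Polynomial.eval₂ _ (J.toRingHom _) f = 0
    rw [← Polynomial.hom_eval₂]
    convert map_zero J.toRingHom using 2
    apply Subtype.ext
    change (fracSub D).val.toRingHom (Polynomial.eval₂ _ _ f) = 0
    rw [Polynomial.hom_eval₂]
    exact hfx
  let j1 : D' →ₐ[A] E' := Subalgebra.inclusion hle
  let j2 : D' →ₐ[A] E' := (J.comp (Subalgebra.inclusion hD'L)).codRestrict E' hJint
  let ι : D →ₐ[A] D' := ((IsScalarTower.toAlgHom A E K).comp D.val).codRestrict D'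
    fun e => algebraMap_mem_normalization D D' hD' e.2
  let ιE : E →+* E' := algebraMap E (integralClosure E K)
  have hι1 : ∀ e, j1 (ι e) = ιE e := fun e => Subtype.ext rfl
  have hι2 : ∀ e, j2 (ι e) = ιE (j e) := fun e => Subtype.ext (hJD e _)
  let δ : D' → E' := fun y => j1 y - j2 y
  have hδadd : ∀ y z, δ (y + z) = δ y + δ z := fun y z => by simp only [δ, map_add]; ring
  have hδmul : ∀ y z, δ (y * z) = j1 y * δ z + δ y * j2 z := fun y z => by simp only [δ, map_mul]; ring
  have hA'fix : ∀ x, (x : K) ∈ A' → ∀ hx : x ∈ D', δ ⟨x, hx⟩ = 0 := fun x hxA hx => by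
    obtain ⟨-, a, ha, b, hab⟩ := (hA' x).1 hxA
    refine sub_eq_zero.2 (Subtype.ext ?_)
    change x = J ⟨x, _⟩
    refine (isUnit_algebraMap_fractionRing (E := E) ha).mul_left_cancel ?_
    rw [hJ ⟨x, _⟩ a (algebraMap A D b) (by rw [hab]; exact IsScalarTower.algebraMap_apply A E K b), j.commutes,
      ← IsScalarTower.algebraMap_apply, hab]
  suffices hzero : ∀ y, δ y = 0 by
    have h := congrArg Subtype.val (sub_eq_zero.1 (hzero (ι d)))
    rw [hι1, hι2] at h
    exact (IsFractionRing.injective E K h).symm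
  intro y₀
  by_contra hne
  obtain ⟨M, hM, hannM⟩ : ∃ M : Ideal E', M.IsMaximal ∧ ∀ s : E', s * δ y₀ = 0 → s ∈ M := by
    let I : Ideal E' := LinearMap.ker (LinearMap.toSpanSingleton E' E' (δ y₀))
    obtain ⟨M, hM, hIM⟩ := Ideal.exists_le_maximal I fun h => hne (by
      have h1 : (1 : E') ∈ I := h ▸ Submodule.mem_top
      simpa [I] using h1)
    exact ⟨M, hM, fun s hs => hIM (by simpa [I] using hs)⟩
  let 𝔞 : ℕ → Ideal E' := fun i =>
    { carrier := {y | ∃ s ∉ M, s * y ∈ M ^ i}
      add_mem' := by
        rintro y z ⟨s, hs, hy⟩ ⟨t, ht, hz⟩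
        refine ⟨s * t, hM.isPrime.mul_notMem hs ht, ?_⟩
        rw [mul_add, mul_right_comm s t y, mul_assoc s t z]
        exact add_mem (Ideal.mul_mem_right _ _ hy) (Ideal.mul_mem_left _ _ hz)
      zero_mem' := ⟨1, (Ideal.ne_top_iff_one _).1 hM.ne_top, by rw [mul_zero]; exact zero_mem _⟩
      smul_mem' := fun c y ⟨s, hs, hy⟩ => ⟨s, hs, by
        rw [smul_eq_mul, mul_left_comm]; exact Ideal.mul_mem_left _ _ hy⟩ }
  have hMmul : ∀ i {y z}, y ∈ M → z ∈ 𝔞 i → y * z ∈ 𝔞 (i + 1) := fun i y z hy ⟨s, hs, hz⟩ => by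
    refine ⟨s, hs, ?_⟩
    rw [mul_left_comm, pow_succ']
    exact Ideal.mul_mem_mul hy hz
  have hcancel : ∀ i {s y}, s ∉ M → s * y ∈ 𝔞 i → y ∈ 𝔞 i := fun i s y hs ⟨t, ht, h⟩ =>
    ⟨t * s, hM.isPrime.mul_notMem ht hs, by rwa [mul_assoc]⟩
  let N : Ideal D' := M.comap j1
  have hN : N.IsMaximal := isMaximal_comap hE D' hle M hM
  have hNm : N.comap ι.toRingHom = maximalIdeal D := by
    have hι : ι.toRingHom.IsIntegral := fun x => by
      obtain ⟨f, hf, hfx⟩ := ((hD' x).1 x.2).1
      refine ⟨f, hf, Subtype.ext ?_⟩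
      change D'.val.toRingHom (Polynomial.eval₂ ι.toRingHom x f) = 0
      rw [Polynomial.hom_eval₂]
      exact hfx
    exact eq_maximalIdeal (Ideal.isMaximal_comap_of_isIntegral_of_isMaximal' ι.toRingHom hι N)
  have hME : ∀ e ∈ maximalIdeal E, ιE e ∈ M := by
    have hp : ιE.IsIntegral := fun x => Algebra.IsIntegral.isIntegral (R := E) (A := integralClosure E K) x
    have h : M.comap ιE = maximalIdeal E :=
      eq_maximalIdeal (Ideal.isMaximal_comap_of_isIntegral_of_isMaximal' ιE hp M)
    exact fun e he => h.ge he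
  -- congruence modulo `M`
  have hcong : ∀ y, δ y ∈ M := fun y => by
    obtain ⟨z, hz, hyz⟩ := hres y
    have hgen : ∀ z (hz : z ∈ Algebra.adjoin A ((A' : Set K) ∪ algebraMap E K '' (D : Set E))),
        ∃ h : z ∈ D', δ ⟨z, h⟩ ∈ M := fun z hz => by
      induction hz using Algebra.adjoin_induction with
      | mem z hz =>
        rcases hz with hz | ⟨e, he, rfl⟩
        · refine ⟨mem_of_mem_base D A' D' hA' hD' hz, ?_⟩
          rw [hA'fix z hz]; exact zero_mem _
        · refine ⟨algebraMap_mem_normalization D D' hD' he, ?_⟩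
          change j1 (ι ⟨e, he⟩) - j2 (ι ⟨e, he⟩) ∈ M
          rw [hι1, hι2, ← map_sub, ← neg_mem_iff, ← map_neg, neg_sub]
          exact hME _ (hj ⟨e, he⟩)
      | algebraMap r =>
        exact ⟨D'.algebraMap_mem r, by
          change j1 (algebraMap A D' r) - j2 (algebraMap A D' r) ∈ M
          rw [j1.commutes, j2.commutes, sub_self]; exact zero_mem _⟩
      | add x y _ _ hx hy =>
        obtain ⟨hx, hx'⟩ := hx
        obtain ⟨hy, hy'⟩ := hy
        exact ⟨add_mem hx hy, (hδadd ⟨x, hx⟩ ⟨y, hy⟩).symm ▸ add_mem hx' hy'⟩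
      | mul x y _ _ hx hy =>
        obtain ⟨hx, hx'⟩ := hx
        obtain ⟨hy, hy'⟩ := hy
        exact ⟨mul_mem hx hy, (hδmul ⟨x, hx⟩ ⟨y, hy⟩).symm ▸
          add_mem (Ideal.mul_mem_left _ _ hy') (Ideal.mul_mem_right _ _ hx')⟩
    obtain ⟨hz', hzM⟩ := hgen z hz
    let p : E →+* E' := ιE
    letI : Algebra E E' := p.toAlgebra
    have : IsScalarTower A E E' := IsScalarTower.of_algebraMap_eq fun a =>
      Subtype.ext (IsScalarTower.algebraMap_apply A E K a)
    have : Algebra.IsIntegral E E' :=
      ⟨fun x => Algebra.IsIntegral.isIntegral (R := E) (A := integralClosure E K) x⟩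
    have h1 := isMaximal_comap_algHom hE j1 M
    have h2 := isMaximal_comap_algHom hE j2 M
    rw [Ideal.jacobson, Ideal.mem_sInf] at hyz
    have hn1 : j1 (y - z) ∈ M := hyz ⟨bot_le, h1⟩
    have hn2 : j2 (y - z) ∈ M := hyz ⟨bot_le, h2⟩
    rw [show y = (y - z) + z from (sub_add_cancel y z).symm, hδadd]
    exact add_mem (sub_mem hn1 hn2) hzM
  have hj2N : ∀ y ∈ N, j2 y ∈ M := fun y hy => by
    have := sub_mem (show j1 y ∈ M from hy) (hcong y)
    simpa [δ] using this
  -- a generator of the residue field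
  have : IsLocalHom (algebraMap A D) := ⟨fun a ha => isUnit_of_map_unit (algebraMap A E) a (ha.map D.val)⟩
  have : IsScalarTower (ResidueField A) (ResidueField D) (ResidueField E) := IsScalarTower.of_algebraMap_eq fun x => by
    obtain ⟨a, rfl⟩ := residue_surjective x
    rfl
  have : Module.Finite (ResidueField A) (ResidueField E) := Algebra.FormallyUnramified.finite_of_free _ _
  have : Algebra.IsSeparable (ResidueField A) (ResidueField E) := inferInstance
  have : Algebra.IsSeparable (ResidueField A) (ResidueField D) :=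
    Algebra.isSeparable_tower_bot_of_isSeparable (ResidueField A) (ResidueField D) (ResidueField E)
  have : FiniteDimensional (ResidueField A) (ResidueField D) :=
    FiniteDimensional.of_injective (IsScalarTower.toAlgHom (ResidueField A) (ResidueField D) (ResidueField E)).toLinearMap
      (algebraMap (ResidueField D) (ResidueField E)).injective
  obtain ⟨θ, hθ⟩ := Field.exists_primitive_element (ResidueField A) (ResidueField D)
  obtain ⟨g, hg⟩ := residue_surjective θ
  have hpoly : ∀ e : D, ∃ p : Polynomial A, e - Polynomial.aeval g p ∈ maximalIdeal D := fun e => by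
    have hθint : IsIntegral (ResidueField A) θ := Algebra.IsIntegral.isIntegral θ
    have h1 : residue D e ∈ Algebra.adjoin (ResidueField A) {θ} := by
      rw [← IntermediateField.adjoin_simple_toSubalgebra_of_isAlgebraic hθint.isAlgebraic, hθ]
      exact IntermediateField.mem_top
    rw [Algebra.adjoin_singleton_eq_range_aeval] at h1
    obtain ⟨pk, hpk⟩ := h1
    obtain ⟨p, rfl⟩ := Polynomial.map_surjective (residue A) residue_surjective pk
    refine ⟨p, ?_⟩
    rw [← residue_eq_zero_iff, map_sub, ← hpk, sub_eq_zero]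
    change Polynomial.aeval θ (p.map (algebraMap A (ResidueField A))) = _
    rw [Polynomial.aeval_map_algebraMap, ← hg]
    exact (Polynomial.aeval_algHom_apply (IsScalarTower.toAlgHom A D (ResidueField D)) g p)
  obtain ⟨F, hFmap⟩ := Polynomial.map_surjective (residue A) residue_surjective (minpoly (ResidueField A) θ)
  have hFθ : ∀ f : Polynomial A, residue D (Polynomial.aeval g f) = Polynomial.aeval θ (f.map (residue A)) := fun f => by
    change _ = Polynomial.aeval θ (f.map (algebraMap A (ResidueField A)))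
    rw [Polynomial.aeval_map_algebraMap, ← hg]
    exact (Polynomial.aeval_algHom_apply (IsScalarTower.toAlgHom A D (ResidueField D)) g f).symm
  have hFm : Polynomial.aeval g F ∈ maximalIdeal D := by
    rw [← residue_eq_zero_iff, hFθ, hFmap, minpoly.aeval]
  have hF' : IsUnit (Polynomial.aeval g F.derivative) := by
    rw [← residue_ne_zero_iff_isUnit, hFθ, ← Polynomial.derivative_map, hFmap]
    exact (Algebra.IsSeparable.isSeparable (ResidueField A) θ).aeval_derivative_ne_zero (minpoly.aeval _ _)
  -- the induction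
  have hind : ∀ i, ∀ y, δ y ∈ 𝔞 (i + 1) := by
    intro i
    induction i with
    | zero => exact fun y => ⟨1, (Ideal.ne_top_iff_one _).1 hM.ne_top, by rw [one_mul, pow_one]; exact hcong y⟩
    | succ i ih =>
      have hN' : ∀ y ∈ N, δ y ∈ 𝔞 (i + 1 + 1) := fun y hy => by
        obtain ⟨s, hs, k, q, e, hq, hrel⟩ := exists_mul_eq_sum_of_mem hE M (z := j1 y) hy
        obtain ⟨r, hrM, hrL, hrA, x', hx'L, hx'A, hrx⟩ := exists_sum_isIntegral hE (fracSub D)
          (fun a ha => exists_inv_mem_fracSub D ha) M hM (hD'L y y.2) (fun l => (q l : K))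
          (fun l => by
            obtain ⟨hqM, hqA, a, ha, b, hab⟩ := hq l
            exact ⟨a, ha, algebraMap A E b, D.algebraMap_mem b, by rw [hab, ← IsScalarTower.algebraMap_apply]⟩)
          (fun l => (hq l).2.1) e s hs (by
            have h := congrArg Subtype.val hrel
            rw [AddSubmonoidClass.coe_finsetSum] at h
            exact h)
        let r' : D' := ⟨r, hLD' _ hrL hrA⟩
        have hqD : ∀ l, (q l : K) ∈ D' := fun l => by
          obtain ⟨hqM, hqA, a, ha, b, hab⟩ := hq l
          exact mem_of_mem_base D A' D' hA' hD' ((hA' _).2 ⟨hqA, a, ha, b, hab⟩)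
        have heq : r' * y = ∑ l, (⟨(q l : K), hqD l⟩ : D') * ⟨x' l, hLD' _ (hx'L l) (hx'A l)⟩ := Subtype.ext (by
          rw [AddSubmonoidClass.coe_finsetSum]
          exact hrx)
        have hsum : δ (r' * y) ∈ 𝔞 (i + 1 + 1) := by
          rw [heq, show δ (∑ l, (⟨(q l : K), hqD l⟩ : D') * ⟨x' l, hLD' _ (hx'L l) (hx'A l)⟩) =
            ∑ l, δ ((⟨(q l : K), hqD l⟩ : D') * ⟨x' l, hLD' _ (hx'L l) (hx'A l)⟩) by
              simp only [δ, map_sum, Finset.sum_sub_distrib]]
          refine sum_mem fun l _ => ?_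
          rw [hδmul, hA'fix (q l : K) ((hA' _).2 ⟨(hq l).2.1, (hq l).2.2⟩) (hqD l), zero_mul, add_zero]
          exact hMmul _ (hq l).1 (ih _)
        rw [hδmul] at hsum
        have h2 : δ r' * j2 y ∈ 𝔞 (i + 1 + 1) := by
          rw [mul_comm]
          exact hMmul _ (hj2N y hy) (ih _)
        exact hcancel _ (s := j1 r') hrM ((Ideal.add_mem_iff_left _ h2).1 hsum)
      have hg' : δ (ι g) ∈ 𝔞 (i + 1 + 1) := by
        let a1 := j1 (ι g)
        let a2 := j2 (ι g)
        let P := F.map (algebraMap A E')
        obtain ⟨c, hc⟩ := Polynomial.binomExpansion P a1 (a2 - a1)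
        rw [add_sub_cancel] at hc
        have hev : ∀ (φ : D' →ₐ[A] E'), P.eval (φ (ι g)) = φ (ι (Polynomial.aeval g F)) := fun φ => by
          rw [Polynomial.eval_map_algebraMap, ← AlgHom.comp_apply φ ι, Polynomial.aeval_algHom_apply, AlgHom.comp_apply]
        have hF1 : δ (ι (Polynomial.aeval g F)) ∈ 𝔞 (i + 1 + 1) := hN' _ (hNm.ge hFm)
        have heq : δ (ι (Polynomial.aeval g F)) = (P.derivative.eval a1 + c * (a2 - a1)) * δ (ι g) := by
          change j1 _ - j2 _ = _ * (a1 - a2)
          rw [← hev j1, ← hev j2]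
          change P.eval a1 - P.eval a2 = _
          rw [hc]
          ring
        refine hcancel _ (s := P.derivative.eval a1 + c * (a2 - a1)) (fun hmem => ?_) (heq ▸ hF1)
        have h1 : c * (a2 - a1) ∈ M := by
          refine Ideal.mul_mem_left _ _ ?_
          have h := neg_mem (hcong (ι g))
          simpa [δ, a1, a2] using h
        have h2 := (Ideal.add_mem_iff_left _ h1).1 hmem
        rw [Polynomial.derivative_map, Polynomial.eval_map_algebraMap, show a1 = (j1.comp ι) g from rfl,
          Polynomial.aeval_algHom_apply] at h2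
        exact hM.ne_top (Ideal.eq_top_of_isUnit_mem _ h2 ((hF'.map (j1.comp ι))))
      have hD : ∀ e : D, δ (ι e) ∈ 𝔞 (i + 1 + 1) := fun e => by
        obtain ⟨p, hp⟩ := hpoly e
        have hp' : δ (ι (Polynomial.aeval g p)) ∈ 𝔞 (i + 1 + 1) := by
          let P := p.map (algebraMap A E')
          obtain ⟨c, hc⟩ := Polynomial.evalSubFactor P (j1 (ι g)) (j2 (ι g))
          have hev : ∀ (φ : D' →ₐ[A] E'), P.eval (φ (ι g)) = φ (ι (Polynomial.aeval g p)) := fun φ => by
            rw [Polynomial.eval_map_algebraMap, ← AlgHom.comp_apply φ ι, Polynomial.aeval_algHom_apply, AlgHom.comp_apply]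
          change j1 _ - j2 _ ∈ _
          rw [← hev j1, ← hev j2, hc]
          exact Ideal.mul_mem_left _ _ hg'
        rw [show e = (e - Polynomial.aeval g p) + Polynomial.aeval g p from (sub_add_cancel _ _).symm, map_add, hδadd]
        exact add_mem (hN' _ (hNm.ge hp)) hp'
      have hgen : ∀ z (hz : z ∈ Algebra.adjoin A ((A' : Set K) ∪ algebraMap E K '' (D : Set E))),
          ∃ h : z ∈ D', δ ⟨z, h⟩ ∈ 𝔞 (i + 1 + 1) := fun z hz => by
        induction hz using Algebra.adjoin_induction with
        | mem z hz =>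
          rcases hz with hz | ⟨e, he, rfl⟩
          · refine ⟨mem_of_mem_base D A' D' hA' hD' hz, ?_⟩
            rw [hA'fix z hz]; exact zero_mem _
          · exact ⟨algebraMap_mem_normalization D D' hD' he, hD ⟨e, he⟩⟩
        | algebraMap r =>
          exact ⟨D'.algebraMap_mem r, by
            change j1 (algebraMap A D' r) - j2 (algebraMap A D' r) ∈ _
            rw [j1.commutes, j2.commutes, sub_self]; exact zero_mem _⟩
        | add x y _ _ hx hy =>
          obtain ⟨hx, hx'⟩ := hx
          obtain ⟨hy, hy'⟩ := hy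
          exact ⟨add_mem hx hy, (hδadd ⟨x, hx⟩ ⟨y, hy⟩).symm ▸ add_mem hx' hy'⟩
        | mul x y _ _ hx hy =>
          obtain ⟨hx, hx'⟩ := hx
          obtain ⟨hy, hy'⟩ := hy
          exact ⟨mul_mem hx hy, (hδmul ⟨x, hx⟩ ⟨y, hy⟩).symm ▸
            add_mem (Ideal.mul_mem_left _ _ hy') (Ideal.mul_mem_right _ _ hx')⟩
      intro y
      obtain ⟨z, hz, hyz⟩ := hres y
      obtain ⟨hz', hzM⟩ := hgen z hz
      rw [Ideal.jacobson, Ideal.mem_sInf] at hyz
      rw [show y = (y - z) + z from (sub_add_cancel y z).symm, hδadd]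
      exact add_mem (hN' _ (hyz ⟨bot_le, hN⟩)) hzM
  -- Krull intersection
  have : IsNoetherianRing E' := isNoetherianRing_integralClosure hG hE
  let L := Localization.AtPrime M
  have hkrull : ∀ n, algebraMap E' L (δ y₀) ∈ (maximalIdeal L) ^ n := fun n => by
    cases n with
    | zero => simp
    | succ n =>
      obtain ⟨s, hs, h⟩ := hind n y₀
      have h1 := Ideal.mem_map_of_mem (algebraMap E' L) h
      rw [Ideal.map_pow, Localization.AtPrime.map_eq_maximalIdeal, map_mul] at h1
      exact (Ideal.unit_mul_mem_iff_mem _ (IsLocalization.map_units L (⟨s, hs⟩ : M.primeCompl))).1 h1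
  have hL : IsNoetherianRing L := IsLocalization.isNoetherianRing M.primeCompl L inferInstance
  have hzero : algebraMap E' L (δ y₀) = 0 := eq_zero_of_forall_mem_pow (R := L) hkrull
  obtain ⟨s, hs⟩ := (IsLocalization.map_eq_zero_iff M.primeCompl L _).1 hzero
  exact s.2 (hannM s hs)

end Groth.Agent.SubSh14
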