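import Mathlib
import Groth.Agent.SubSh14.SemilocalFinite
import Groth.Agent.SubSh14.Rigidity

/-!
Descending normalizations from a strict henselization to a stage.
-/

set_option autoImplicit false

open IsLocalRing
open scoped nonZeroDivisors

namespace Groth.Agent.SubSh14

universe u

variable {A S : Type u} [CommRing A] [IsLocalRing A] [CommRing S] [IsLocalRing S] [Algebra A S]
  [IsLocalHom (algebraMap A S)] [Hensel.IsStrictHenselization A S]

/-- The inclusion of the total ring of fractions of a stage. -/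
noncomputable def stageFrac (E : Subalgebra A S) [IsLocalRing E] (hE : EGA4loc.IsEssentiallyEtale A E) :
    FractionRing E →ₐ[A] FractionRing S :=
  IsLocalization.liftAlgHom (M := E⁰) (f := (IsScalarTower.toAlgHom A S (FractionRing S)).comp E.val) fun y => by
    have := faithfullyFlat E hE
    change IsUnit (algebraMap S (FractionRing S) (algebraMap E S y))
    exact IsLocalization.map_units (FractionRing S) (⟨_, algebraMap_mem_nonZeroDivisors (A := E) (E := S) y.2⟩ : S⁰)

variable {E : Subalgebra A S} [IsLocalRing E] (hE : EGA4loc.IsEssentiallyEtale A E)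

theorem stageFrac_algebraMap (e : E) :
    stageFrac E hE (algebraMap E (FractionRing E) e) = algebraMap S (FractionRing S) e :=
  IsLocalization.lift_eq _ e

theorem stageFrac_injective : Function.Injective (stageFrac E hE) := by
  rw [injective_iff_map_eq_zero]
  intro x hx
  obtain ⟨⟨b, a⟩, hab⟩ := IsLocalization.surj E⁰ x
  have h := congrArg (stageFrac E hE) hab
  rw [map_mul, hx, zero_mul, stageFrac_algebraMap] at h
  have hb : b = 0 := Subtype.ext (IsFractionRing.injective S (FractionRing S) (h.symm.trans (map_zero _).symm))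
  subst hb
  rw [map_zero] at hab
  exact (IsLocalization.map_units (FractionRing E) a).mul_left_eq_zero.1 hab

theorem mem_range_stageFrac {x : FractionRing S} {a : A} (ha : a ∈ A⁰) {d : S} (hd : d ∈ E)
    (h : algebraMap A (FractionRing S) a * x = algebraMap S (FractionRing S) d) : x ∈ (stageFrac E hE).range := by
  have := flat hE
  have hu : IsUnit (algebraMap A (FractionRing E) a) := by
    rw [IsScalarTower.algebraMap_apply A E (FractionRing E)]
    exact IsLocalization.map_units (FractionRing E) (⟨_, algebraMap_mem_nonZeroDivisors (E := E) ha⟩ : E⁰)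
  obtain ⟨y, hy⟩ := isUnit_iff_exists_inv.1 hu
  refine ⟨y * algebraMap E (FractionRing E) ⟨d, hd⟩, ?_⟩
  change stageFrac E hE (y * algebraMap E (FractionRing E) ⟨d, hd⟩) = x
  have h1 : algebraMap A (FractionRing S) a * stageFrac E hE y = 1 := by
    rw [← (stageFrac E hE).commutes, ← map_mul, hy, map_one]
  rw [map_mul, stageFrac_algebraMap, ← h, ← mul_assoc, mul_comm (stageFrac E hE y), h1, one_mul]

variable (D : Subalgebra A S) (hDE : D ≤ E) (A' D' : Subalgebra A (FractionRing S))
  (hA' : ∀ x : FractionRing S, x ∈ A' ↔ (IsIntegral A x ∧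
      ∃ a ∈ A⁰, ∃ b : A, algebraMap A (FractionRing S) a * x = algebraMap A (FractionRing S) b))
  (hD' : ∀ x : FractionRing S, x ∈ D' ↔ (IsIntegral D x ∧
      ∃ a ∈ A⁰, ∃ d ∈ D, algebraMap A (FractionRing S) a * x = algebraMap S (FractionRing S) d))

theorem isLocalHom_stage [IsLocalHom (algebraMap D S)] (hDE : D ≤ E) :
    IsLocalHom (algebraMap (D.comap E.val) E) := ⟨fun d hd => by
  let d' : D := ⟨((d : E) : S), d.2⟩
  obtain ⟨c, hc⟩ := isUnit_iff_exists_inv.1 (isUnit_of_map_unit (algebraMap D S) d' (hd.map E.val))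
  exact isUnit_iff_exists_inv.2 ⟨⟨⟨c, hDE c.2⟩, c.2⟩, Subtype.ext (Subtype.ext (show ((d : E) : S) * (c : S) = 1 from congrArg Subtype.val hc))⟩⟩

/-- The copy of a subalgebra inside a stage. -/
noncomputable def stageEquiv : D.comap E.val ≃ₐ[A] D where
  toFun d := ⟨((d : E) : S), d.2⟩
  invFun d := ⟨⟨d, hDE d.2⟩, d.2⟩
  left_inv _ := rfl
  right_inv _ := rfl
  map_mul' _ _ := rfl
  map_add' _ _ := rfl
  commutes' _ := rfl

include hDE in
theorem isIntegral_stage_iff (x : FractionRing E) :
    IsIntegral (D.comap E.val) x ↔ IsIntegral D (stageFrac E hE x) := by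
  let e := (stageEquiv D hDE).toRingEquiv
  have hcomm : (algebraMap D (FractionRing S)).comp e.toRingHom =
      (stageFrac E hE).toRingHom.comp (algebraMap (D.comap E.val) (FractionRing E)) :=
    RingHom.ext fun d => (stageFrac_algebraMap hE (d : E)).symm
  constructor
  · rintro ⟨f, hf, hfx⟩
    refine ⟨f.map e.toRingHom, hf.map _, ?_⟩
    rw [Polynomial.eval₂_map, hcomm]
    change Polynomial.eval₂ _ ((stageFrac E hE).toRingHom x) f = 0
    rw [← Polynomial.hom_eval₂, hfx, map_zero]
  · rintro ⟨f, hf, hfx⟩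
    refine ⟨f.map e.symm.toRingHom, hf.map _, stageFrac_injective hE ?_⟩
    rw [map_zero, Polynomial.eval₂_map]
    change (stageFrac E hE).toRingHom _ = 0
    rw [Polynomial.hom_eval₂, ← RingHom.comp_assoc, ← hcomm, RingHom.comp_assoc,
      show e.toRingHom.comp e.symm.toRingHom = RingHom.id _ from RingHom.ext fun d => e.apply_symm_apply d,
      RingHom.comp_id]
    exact hfx

include hDE hD' in
theorem mem_normalization_stage_iff (x : FractionRing E) :
    x ∈ D'.comap (stageFrac E hE) ↔ (IsIntegral (D.comap E.val) x ∧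
      ∃ a ∈ A⁰, ∃ d ∈ D.comap E.val, algebraMap A (FractionRing E) a * x = algebraMap E (FractionRing E) d) := by
  rw [Subalgebra.mem_comap, hD', isIntegral_stage_iff hE D hDE]
  refine and_congr_right fun _ => exists_congr fun a => and_congr_right fun _ => ?_
  constructor
  · rintro ⟨d, hd, h⟩
    refine ⟨⟨d, hDE hd⟩, hd, stageFrac_injective hE ?_⟩
    rw [map_mul, AlgHom.commutes, stageFrac_algebraMap]
    exact h
  · rintro ⟨d, hd, h⟩
    refine ⟨d, hd, ?_⟩
    have h' := congrArg (stageFrac E hE) h
    rwa [map_mul, AlgHom.commutes, stageFrac_algebraMap] at h'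

include hA' in
theorem mem_base_stage_iff (x : FractionRing E) :
    x ∈ A'.comap (stageFrac E hE) ↔ (IsIntegral A x ∧
      ∃ a ∈ A⁰, ∃ b : A, algebraMap A (FractionRing E) a * x = algebraMap A (FractionRing E) b) := by
  rw [Subalgebra.mem_comap, hA', isIntegral_algHom_iff (stageFrac E hE) (stageFrac_injective hE)]
  refine and_congr_right fun _ => exists_congr fun a => and_congr_right fun _ => exists_congr fun b => ?_
  rw [← (stageFrac_injective hE).eq_iff, map_mul, AlgHom.commutes, AlgHom.commutes]

include hDE hD' in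
theorem normalization_le_range {x : FractionRing S} (hx : x ∈ D') : x ∈ (stageFrac E hE).range := by
  obtain ⟨-, a, ha, d, hd, h⟩ := (hD' x).1 hx
  exact mem_range_stageFrac hE ha (hDE hd) h

/-- The normalization of a subalgebra does not depend on the ambient stage. -/
noncomputable def normalizationEquiv : D'.comap (stageFrac E hE) →ₐ[A] D' :=
  ((stageFrac E hE).comp (D'.comap (stageFrac E hE)).val).codRestrict D' fun x => x.2

include hDE hD' in
theorem bijective_normalizationEquiv : Function.Bijective (normalizationEquiv hE D') := by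
  refine ⟨fun x y h => Subtype.ext (stageFrac_injective hE (congrArg Subtype.val h)), fun y => ?_⟩
  obtain ⟨x, hx⟩ := normalization_le_range hE D hDE D' hD' y.2
  change stageFrac E hE x = y at hx
  exact ⟨⟨x, show stageFrac E hE x ∈ D' from hx ▸ y.2⟩, Subtype.ext hx⟩

include hDE hD' in
theorem finite_maximal_stage (hfin : {N : Ideal D' | N.IsMaximal}.Finite) :
    {N : Ideal (D'.comap (stageFrac E hE)) | N.IsMaximal}.Finite := by
  let f := normalizationEquiv hE D'
  have hf := bijective_normalizationEquiv hE D hDE D' hD'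
  refine (hfin.image fun N => N.comap f).subset fun N hN => ⟨N.map f, ?_, ?_⟩
  · exact (Ideal.isMaximal_map_iff_of_bijective f hf).2 hN
  · exact Ideal.comap_map_of_bijective f hf

include hDE hD' hA' in
theorem residual_stage
    (hres : ∀ x : D', ∃ z : D', (z : FractionRing S) ∈
      Algebra.adjoin A ((A' : Set (FractionRing S)) ∪ algebraMap S (FractionRing S) '' (D : Set S)) ∧
      x - z ∈ Ideal.jacobson (⊥ : Ideal D')) (x : D'.comap (stageFrac E hE)) :
    ∃ z : D'.comap (stageFrac E hE), (z : FractionRing E) ∈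
      Algebra.adjoin A ((A'.comap (stageFrac E hE) : Set (FractionRing E)) ∪
        algebraMap E (FractionRing E) '' (D.comap E.val : Set E)) ∧
      x - z ∈ Ideal.jacobson (⊥ : Ideal (D'.comap (stageFrac E hE))) := by
  let f := normalizationEquiv hE D'
  have hf := bijective_normalizationEquiv hE D hDE D' hD'
  obtain ⟨z, hz, hxz⟩ := hres (f x)
  have hle : Algebra.adjoin A ((A' : Set (FractionRing S)) ∪ algebraMap S (FractionRing S) '' (D : Set S)) ≤
      (Algebra.adjoin A ((A'.comap (stageFrac E hE) : Set (FractionRing E)) ∪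
        algebraMap E (FractionRing E) '' (D.comap E.val : Set E))).map (stageFrac E hE) := by
    refine Algebra.adjoin_le ?_
    rintro y (hy | ⟨d, hd, rfl⟩)
    · obtain ⟨-, a, ha, b, hb⟩ := (hA' y).1 hy
      obtain ⟨w, hw⟩ := mem_range_stageFrac hE ha (E.algebraMap_mem b)
        (hb.trans (IsScalarTower.algebraMap_apply A S (FractionRing S) b))
      change stageFrac E hE w = y at hw
      exact ⟨w, Algebra.subset_adjoin (Or.inl (show stageFrac E hE w ∈ A' from hw ▸ hy)), hw⟩
    · exact ⟨_, Algebra.subset_adjoin (Or.inr ⟨⟨d, hDE hd⟩, hd, rfl⟩), stageFrac_algebraMap hE _⟩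
  obtain ⟨w, hw, hwz⟩ := hle hz
  change stageFrac E hE w = z at hwz
  refine ⟨⟨w, show stageFrac E hE w ∈ D' from hwz ▸ z.2⟩, hw, ?_⟩
  have h1 : f (x - ⟨w, show stageFrac E hE w ∈ D' from hwz ▸ z.2⟩) = f x - z := by
    rw [map_sub]
    exact congrArg _ (Subtype.ext hwz)
  rw [Ideal.mem_jacobson_bot] at hxz ⊢
  intro y
  have hu := hxz (f y)
  rw [← h1, ← map_mul, ← map_one f, ← map_add] at hu
  obtain ⟨v, hv⟩ := isUnit_iff_exists_inv.1 hu
  obtain ⟨v, rfl⟩ := hf.2 v
  exact isUnit_iff_exists_inv.2 ⟨v, hf.1 (by rw [map_mul, hv, map_one])⟩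

end Groth.Agent.SubSh14
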