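import Mathlib
import Groth.Agent.SubSh14.Transfer
import Groth.Agent.SubSh14.RigidityMain
import Groth.Agent.Hensel20.EssEtale

/-!
The residual criterion for a dominated subalgebra of a strict henselization to be essentially etale.
-/

set_option autoImplicit false

open IsLocalRing
open scoped nonZeroDivisors

namespace Groth.Agent.SubSh14

universe u

theorem eq_nonsing_inv_mulVec {R ι : Type*} [CommRing R] [Fintype ι] [DecidableEq ι] (M : Matrix ι ι R)
    (hM : IsUnit M.det) (I : Ideal R) (v : ι → R) (hv : ∀ i, M.mulVec v i ∈ I) (i : ι) : v i ∈ I := by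
  have h : v = M⁻¹.mulVec (M.mulVec v) := by
    rw [Matrix.mulVec_mulVec, Matrix.nonsing_inv_mul M hM, Matrix.one_mulVec]
  rw [h]
  exact sum_mem fun j _ => I.mul_mem_left _ (hv j)

/-- Artin–Rees for a finite module containing the ring. -/
theorem exists_mem_of_mem_pow_smul {A D K : Type u} [CommRing A] [CommRing D] [CommRing K] [Algebra A D]
    [Algebra D K] [Algebra A K] [IsScalarTower A D K] [IsNoetherianRing D]
    (hinj : Function.Injective (algebraMap D K)) (m : Ideal A) (P : Submodule D K) (hP : P.FG) (h1 : (1 : K) ∈ P) :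
    ∃ j, ∀ x : D, algebraMap D K x ∈ m ^ j • P.restrictScalars A → x ∈ m.map (algebraMap A D) := by
  let I := m.map (algebraMap A D)
  have : Module.Finite D P := Module.Finite.iff_fg.2 hP
  let N : Submodule D P := Submodule.span D {⟨1, h1⟩}
  obtain ⟨k, hk⟩ := I.exists_pow_inf_eq_pow_smul N
  refine ⟨k + 1, fun x hx => ?_⟩
  have hle : m ^ (k + 1) • P.restrictScalars A ≤ (I ^ (k + 1) • P).restrictScalars A := by
    refine Submodule.smul_le.2 fun a ha y hy => ?_
    have hmem : algebraMap A D a ∈ I ^ (k + 1) := Ideal.map_pow (algebraMap A D) m (k + 1) ▸ Ideal.mem_map_of_mem (algebraMap A D) ha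
    have h := Submodule.smul_mem_smul hmem (show y ∈ P from hy)
    rw [algebraMap_smul] at h
    exact h
  have hx' : algebraMap D K x ∈ I ^ (k + 1) • P := hle hx
  have hxP : algebraMap D K x ∈ P := by
    rw [Algebra.algebraMap_eq_smul_one]
    exact P.smul_mem _ h1
  have h2 : (⟨_, hxP⟩ : P) ∈ I ^ (k + 1) • (⊤ : Submodule D P) := by
    have h := hx'
    rw [show I ^ (k + 1) • P = (I ^ (k + 1) • (⊤ : Submodule D P)).map P.subtype by
      rw [Submodule.map_smul'', Submodule.map_top, Submodule.range_subtype]] at h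
    obtain ⟨y, hy, hyx⟩ := h
    rwa [show (⟨_, hxP⟩ : P) = y from Subtype.ext hyx.symm]
  have h3 : (⟨_, hxP⟩ : P) ∈ N := Submodule.mem_span_singleton.2
    ⟨x, Subtype.ext (Algebra.algebraMap_eq_smul_one x).symm⟩
  have h4 : (⟨_, hxP⟩ : P) ∈ I ^ (k + 1 - k) • (I ^ k • ⊤ ⊓ N) := hk (k + 1) (by omega) ▸ ⟨h2, h3⟩
  have h5 : (⟨_, hxP⟩ : P) ∈ I • N := by
    have h := smul_mono_right (I ^ (k + 1 - k)) (inf_le_right : I ^ k • ⊤ ⊓ N ≤ N) h4
    rwa [show k + 1 - k = 1 by omega, pow_one] at h
  obtain ⟨y, hy, hyx⟩ := Submodule.mem_smul_span_singleton.1 h5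
  have h6 := congrArg Subtype.val hyx
  rw [Submodule.coe_smul, ← Algebra.algebraMap_eq_smul_one] at h6
  exact hinj h6 ▸ hy

variable {A S : Type u} [CommRing A] [IsLocalRing A] [IsReduced A] [IsNoetherianRing A]
  [CommRing S] [IsLocalRing S] [Algebra A S] [IsLocalHom (algebraMap A S)] [Hensel.IsStrictHenselization A S]
  (hG : CAlg.IsGRing A)
  (D : Subalgebra A S) [IsLocalHom (algebraMap D S)] (A' D' : Subalgebra A (FractionRing S))
  (hA' : ∀ x : FractionRing S, x ∈ A' ↔ (IsIntegral A x ∧
      ∃ a ∈ A⁰, ∃ b : A, algebraMap A (FractionRing S) a * x = algebraMap A (FractionRing S) b))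
  (hD' : ∀ x : FractionRing S, x ∈ D' ↔ (IsIntegral D x ∧
      ∃ a ∈ A⁰, ∃ d ∈ D, algebraMap A (FractionRing S) a * x = algebraMap S (FractionRing S) d))
  (hres : ∀ x : D', ∃ z : D', (z : FractionRing S) ∈
      Algebra.adjoin A ((A' : Set (FractionRing S)) ∪ algebraMap S (FractionRing S) '' (D : Set S)) ∧
      x - z ∈ Ideal.jacobson (⊥ : Ideal D'))

include hA' hD' hres in
theorem exists_maximal_over_stage {E : Subalgebra A S} [IsLocalRing E] (hE : EGA4loc.IsEssentiallyEtale A E)
    (hDE : D ≤ E) :
    ∃ hle : D'.comap (stageFrac E hE) ≤ (integralClosure E (FractionRing E)).restrictScalars A,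
      ∀ N : Ideal (D'.comap (stageFrac E hE)), N.IsMaximal →
        ∃ M : Ideal ((integralClosure E (FractionRing E)).restrictScalars A), M.IsMaximal ∧
          M.comap (Subalgebra.inclusion hle) = N := by
  have := EssEt14.isLocalHom hE
  have := isLocalHom_stage D hDE
  refine ⟨fun x hx => IsIntegral.tower_top ((mem_normalization_stage_iff hE D hDE D' hD' x).1 hx).1, fun N hN => ?_⟩
  exact exists_isMaximal_comap_eq (D.comap E.val) (A'.comap (stageFrac E hE)) (D'.comap (stageFrac E hE))
    (mem_base_stage_iff hE A' hA') (mem_normalization_stage_iff hE D hDE D' hD')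
    (residual_stage hE D hDE A' D' hA' hD' hres) _ hE N hN

include hA' hD' hres in
/-- Deep congruences inside the stage are congruences in the normalization. -/
theorem mem_pow_smul_of_mem_map {E : Subalgebra A S} [IsLocalRing E] (hE : EGA4loc.IsEssentiallyEtale A E)
    (hDE : D ≤ E) (I : Ideal A) {x : S} (hxD : x ∈ D) (hx : (⟨x, hDE hxD⟩ : E) ∈ I.map (algebraMap A E)) :
    algebraMap S (FractionRing S) x ∈ I • Subalgebra.toSubmodule D' := by
  have := EssEt14.isLocalHom hE
  have := flat hE
  obtain ⟨hle, hsurj⟩ := exists_maximal_over_stage D A' D' hA' hD' hres hE hDE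
  let D'E := D'.comap (stageFrac E hE)
  let DE := D.comap E.val
  obtain ⟨n, g, rfl⟩ := Submodule.fg_iff_exists_fin_generating_family.1 (IsNoetherian.noetherian I)
  rw [Ideal.map, show Set.range g = g '' Set.univ from Set.image_univ.symm] at hx
  have hx' : (⟨x, hDE hxD⟩ : E) ∈ Ideal.span (Set.range fun i => algebraMap A E (g i)) := by
    refine Ideal.span_le.2 ?_ hx
    rintro _ ⟨y, hy, rfl⟩
    rw [SetLike.mem_coe] at hy
    induction hy using Submodule.span_induction with
    | mem y hy => obtain ⟨i, -, rfl⟩ := hy; exact Ideal.subset_span ⟨i, rfl⟩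
    | zero => rw [map_zero]; exact zero_mem _
    | add y z _ _ hy hz => rw [map_add]; exact add_mem hy hz
    | smul a y _ hy => rw [smul_eq_mul, map_mul]; exact Ideal.mul_mem_left _ _ hy
  obtain ⟨e, he⟩ := (Submodule.mem_span_range_iff_exists_fun E).1 hx'
  let xE : FractionRing E := algebraMap E (FractionRing E) ⟨x, hDE hxD⟩
  have hxD' : xE ∈ D'E := by
    change stageFrac E hE xE ∈ D'
    rw [stageFrac_algebraMap]
    exact (hD' _).2 ⟨isIntegral_algebraMap (R := D) (x := (⟨x, hxD⟩ : D)), 1, one_mem _, x, hxD,
      by rw [map_one, one_mul]⟩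
  let P : Submodule A (FractionRing E) := Ideal.span (Set.range g) • Subalgebra.toSubmodule D'E
  let J : Ideal D'E :=
    { carrier := {c | (c : FractionRing E) * xE ∈ P}
      add_mem' := fun {a b} ha hb => by
        change ((a : FractionRing E) + b) * xE ∈ P
        rw [add_mul]; exact add_mem ha hb
      zero_mem' := by
        change (0 : FractionRing E) * xE ∈ P
        rw [zero_mul]; exact zero_mem _
      smul_mem' := fun c y hy => by
        change ((c : FractionRing E) * y) * xE ∈ P
        rw [mul_assoc]
        refine Submodule.smul_induction_on (hy : (y : FractionRing E) * xE ∈ P) (fun r hr w hw => ?_) (fun w z hw hz => ?_)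
        · rw [Algebra.mul_smul_comm]
          exact Submodule.smul_mem_smul hr (show (c : FractionRing E) * w ∈ D'E from mul_mem c.2 hw)
        · rw [mul_add]; exact add_mem hw hz }
  have hJ : J = ⊤ := by
    by_contra hne
    obtain ⟨N, hN, hJN⟩ := Ideal.exists_le_maximal J hne
    obtain ⟨M, hM, hMN⟩ := hsurj N hN
    have hL : ∀ y ∈ D'E, y ∈ fracSub DE := fun y hy => ((mem_normalization_stage_iff hE D hDE D' hD' y).1 hy).2
    obtain ⟨r, hrM, hrL, hrA, x', hx'L, hx'A, hrx⟩ := exists_sum_isIntegral hE (fracSub DE)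
      (fun a ha => exists_inv_mem_fracSub DE ha) M hM (hL xE hxD') (fun i => algebraMap A (FractionRing E) (g i))
      (fun i => (fracSub DE).algebraMap_mem _) (fun i => isIntegral_algebraMap)
      (fun i => ⟨algebraMap E (FractionRing E) (e i), isIntegral_algebraMap⟩) 1
      ((Ideal.ne_top_iff_one _).1 hM.ne_top) (by
        rw [OneMemClass.coe_one, one_mul]
        change algebraMap E (FractionRing E) ⟨x, hDE hxD⟩ = _
        rw [← he, map_sum]
        exact Finset.sum_congr rfl fun i _ => by
          rw [smul_eq_mul, map_mul, mul_comm, ← IsScalarTower.algebraMap_apply])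
    have hmemD : ∀ y ∈ fracSub DE, IsIntegral A y → y ∈ D'E := fun y hy hyA =>
      (mem_normalization_stage_iff hE D hDE D' hD' y).2 ⟨hyA.tower_top, hy⟩
    refine hrM ?_
    have hrJ : (⟨r, hmemD _ hrL hrA⟩ : D'E) ∈ J := by
      change (r : FractionRing E) * xE ∈ P
      rw [hrx]
      refine sum_mem fun i _ => ?_
      rw [← Algebra.smul_def]
      exact Submodule.smul_mem_smul (Ideal.subset_span ⟨i, rfl⟩) (hmemD _ (hx'L i) (hx'A i))
    have h := hJN hrJ
    rw [← hMN] at h
    exact h
  have hxP : xE ∈ P := by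
    have h : (1 : D'E) ∈ J := hJ ▸ Submodule.mem_top
    have h' : ((1 : D'E) : FractionRing E) * xE ∈ P := h
    rwa [OneMemClass.coe_one, one_mul] at h'
  have h := Submodule.mem_map_of_mem (f := (stageFrac E hE).toLinearMap) hxP
  rw [Submodule.map_smul''] at h
  change stageFrac E hE xE ∈ _ at h
  rw [stageFrac_algebraMap] at h
  refine Submodule.smul_mono le_rfl ?_ h
  rintro _ ⟨y, hy, rfl⟩
  exact hy

include hG hA' hD' hres in
/-- Elements of the subalgebra are fixed by maps congruent to the inclusion. -/
theorem map_eq_of_residue_eq [Algebra.EssFiniteType A D] {E₁ : Subalgebra A S} [IsLocalRing E₁]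
    (hE₁ : EGA4loc.IsEssentiallyEtale A E₁) (hD₁ : D ≤ E₁) (φ : E₁ →ₐ[A] S)
    (hφ : ∀ d : D, residue S (φ ⟨d, hD₁ d.2⟩) = residue S (d : S)) (d : D) : φ ⟨d, hD₁ d.2⟩ = d := by
  classical
  let ψ : D →ₐ[A] S := φ.comp (Subalgebra.inclusion hD₁)
  obtain ⟨σ, hσ⟩ := (Algebra.essFiniteType_iff A D).1 inferInstance
  obtain ⟨E, hDE, ht, _, hE⟩ := exists_stage_of_essFiniteType D (σ.image ψ)
  have hψ : ∀ x : D, ψ x ∈ E := fun x => by
    have hle : (Algebra.adjoin A (σ : Set D)).map ψ ≤ E := by
      rw [AlgHom.map_adjoin, Algebra.adjoin_le_iff, ← Finset.coe_image]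
      exact ht
    obtain ⟨u, hu, huu, hxu⟩ := hσ x
    refine mem_of_isUnit hE (hle ⟨u, hu, rfl⟩) (huu.map ψ) ?_
    change ψ u * ψ x ∈ E
    rw [← map_mul, mul_comm]
    exact hle ⟨_, hxu, rfl⟩
  have := EssEt14.isLocalHom hE
  have := isLocalHom_stage D hDE
  have := isLocalHom E hE
  let j : D.comap E.val →ₐ[A] E := (ψ.comp (stageEquiv D hDE).toAlgHom).codRestrict E fun x => hψ _
  have hj : ∀ x : D.comap E.val, j x - x ∈ maximalIdeal E := fun x => by
    rw [← IsLocalRing.maximalIdeal_comap (algebraMap E S), Ideal.mem_comap, ← residue_eq_zero_iff,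
      map_sub (algebraMap E S), map_sub]
    exact sub_eq_zero.2 (hφ (stageEquiv D hDE x))
  have h := algHom_eq_of_residue_eq hG hE (D.comap E.val) (A'.comap (stageFrac E hE)) (D'.comap (stageFrac E hE))
    (mem_base_stage_iff hE A' hA') (mem_normalization_stage_iff hE D hDE D' hD')
    (residual_stage hE D hDE A' D' hA' hD' hres) j hj ⟨⟨d, hDE d.2⟩, d.2⟩
  exact congrArg Subtype.val h

set_option maxHeartbeats 1000000 in
include hG hA' hD' hres in
/-- An element of the maximal ideal of the subalgebra is congruent to an element of `m D`. -/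
theorem exists_mem_map_sub [Algebra.EssFiniteType A D] [IsLocalRing D] {E : Subalgebra A S} [IsLocalRing E]
    (hE : EGA4loc.IsEssentiallyEtale A E) (hDE : D ≤ E) (j : ℕ) {x : D} (hx : x ∈ maximalIdeal D) :
    ∃ y ∈ (maximalIdeal A).map (algebraMap A D),
      ((x : S) - (y : S)) ∈ (maximalIdeal A ^ (j + 1)).map (algebraMap A S) := by
  classical
  have := isLocalHom E hE
  have := EssEt14.isLocalHom hE
  have := EssEt14.formallyEtale hE
  have := EssEt14.essFiniteType hE
  have := isLocalHom_base D
  have := isNoetherianRing hE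
  letI : Algebra D E := (Subalgebra.inclusion hDE).toRingHom.toAlgebra
  have : IsScalarTower A D E := IsScalarTower.of_algHom (Subalgebra.inclusion hDE)
  have : IsScalarTower D E S := IsScalarTower.of_algebraMap_eq fun _ => rfl
  have : IsLocalHom (algebraMap D E) := ⟨fun d hd => (‹IsLocalHom (algebraMap D S)›).map_nonunit d (hd.map E.val)⟩
  let k := ResidueField A
  let kD := ResidueField D
  let kE := ResidueField E
  let kS := ResidueField S
  have : IsScalarTower k kD kE := IsScalarTower.of_algebraMap_eq fun y => by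
    obtain ⟨a, rfl⟩ := residue_surjective y
    exact congrArg (residue E) (IsScalarTower.algebraMap_apply A D E a)
  have : IsScalarTower kD kE kS := IsScalarTower.of_algebraMap_eq fun y => by
    obtain ⟨a, rfl⟩ := residue_surjective y
    rfl
  have : Module.Finite k kE := Algebra.FormallyUnramified.finite_of_free _ _
  have : Module.Finite kD kE := Module.Finite.of_restrictScalars_finite k _ _
  have : Algebra.IsSeparable k kE := inferInstance
  have : Algebra.IsSeparable kD kE := Algebra.isSeparable_tower_top_of_isSeparable k kD kE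
  have : FiniteDimensional k kD :=
    FiniteDimensional.of_injective (IsScalarTower.toAlgHom k kD kE).toLinearMap (algebraMap kD kE).injective
  have : IsSepClosure k kS := Hensel.IsStrictHenselization.isSepClosure
  have : IsSepClosed kS := IsSepClosure.sep_closed k
  let bθ := Module.Free.chooseBasis k kD
  let bf := Module.Free.chooseBasis kD kE
  choose d hd using fun a => residue_surjective (bθ a)
  choose f hf using fun b => residue_surjective (bf b)
  -- expansions modulo powers
  let g : _ × _ → E := fun p => algebraMap D E (d p.1) * f p.2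
  let W : Submodule A E := Submodule.span A (Set.range g)
  let m := maximalIdeal A
  have hstep : (⊤ : Submodule A E) ≤ W ⊔ m • ⊤ := fun y _ => by
    let bb := bθ.smulTower bf
    have hg : ∀ p, residue E (g p) = bb p := fun p => by
      rw [map_mul, Module.Basis.smulTower_apply, Algebra.smul_def, hf, ← hd]
      rfl
    choose c hc using fun p => residue_surjective (bb.repr (residue E y) p)
    let w : E := ∑ p, c p • g p
    have hw : w ∈ W := sum_mem fun p _ => W.smul_mem _ (Submodule.subset_span ⟨p, rfl⟩)
    have hyw : residue E (y - w) = 0 := by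
      rw [map_sub, map_sum, sub_eq_zero]
      refine (bb.sum_repr _).symm.trans (Finset.sum_congr rfl fun p _ => ?_)
      rw [← hc p, Algebra.smul_def (c p) (g p), map_mul, hg, Algebra.smul_def]
      rfl
    have hmem : y - w ∈ m • (⊤ : Submodule A E) := by
      rw [Ideal.smul_top_eq_map, Submodule.restrictScalars_mem, EssEt14.map_maximalIdeal hE,
        ← residue_eq_zero_iff]
      exact hyw
    exact add_sub_cancel w y ▸ Submodule.add_mem_sup hw hmem
  have hexp : ∀ i, (⊤ : Submodule A E) ≤ W ⊔ m ^ i • ⊤ := fun i => by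
    induction i with
    | zero => rw [pow_zero, one_smul]; exact le_sup_right
    | succ i ih =>
      refine ih.trans (sup_le le_sup_left ?_)
      refine (smul_mono_right _ hstep).trans ?_
      rw [Submodule.smul_sup, ← smul_assoc, smul_eq_mul, ← pow_succ]
      exact sup_le_sup Submodule.smul_le_right le_rfl
  let Q : Ideal S := (m ^ (j + 1)).map (algebraMap A S)
  have hQS : Q ≤ maximalIdeal S :=
    (Ideal.map_mono (Ideal.pow_le_self (Nat.succ_ne_zero j))).trans (map_maximalIdeal_le (algebraMap A S))
  have hQφ : ∀ (φ : E →ₐ[A] S), ∀ y ∈ m ^ (j + 1) • (⊤ : Submodule A E), φ y ∈ Q := fun φ y hy => by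
    rw [Ideal.smul_top_eq_map, Submodule.restrictScalars_mem] at hy
    have h := Ideal.mem_map_of_mem φ.toRingHom hy
    rw [Ideal.map_map, AlgHom.toRingHom_eq_coe, AlgHom.comp_algebraMap] at h
    exact h
  have hrep : ∀ y : E, ∃ c : _ × _ → A, y - ∑ p, c p • g p ∈ m ^ (j + 1) • (⊤ : Submodule A E) := fun y => by
    obtain ⟨w, hw, z, hz, rfl⟩ := Submodule.mem_sup.1 (hexp (j + 1) (Submodule.mem_top (x := y)))
    obtain ⟨c, rfl⟩ := (Submodule.mem_span_range_iff_exists_fun A).1 hw
    exact ⟨c, by rw [add_sub_cancel_left]; exact hz⟩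
  obtain ⟨cx, hcx⟩ := hrep (algebraMap D E x)
  obtain ⟨cu, hcu⟩ := hrep 1
  -- the embeddings
  have hsplit : ∀ y : kE, ((minpoly kD y).map (algebraMap kD kS)).Splits := fun y =>
    IsSepClosed.splits_codomain _ (Algebra.IsSeparable.isSeparable kD y)
  have hcard : Fintype.card (kE →ₐ[kD] kS) = Fintype.card (Module.Free.ChooseBasisIndex kD kE) := by
    rw [AlgHom.card_of_splits _ _ _ hsplit, Module.finrank_eq_card_basis bf]
  let τ := (Fintype.equivOfCardEq hcard).symm
  have hhS : HenselianLocalRing S := Hensel.IsStrictHenselization.henselian (R := A)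
  let α : Module.Free.ChooseBasisIndex kD kE → E →ₐ[A] kS := fun i =>
    { toRingHom := (τ i).toRingHom.comp (residue E)
      commutes' := fun a => by
        change τ i (residue E (algebraMap A E a)) = _
        have h1 : residue E (algebraMap A E a) = algebraMap kD kE (residue D (algebraMap A D a)) :=
          congrArg (residue E) (IsScalarTower.algebraMap_apply A D E a)
        rw [h1, (τ i).commutes]
        rfl }
  choose φ hφ using fun i => Hensel20.essEtale_lift hE (α i)
  have hfix : ∀ i (z : D), φ i (algebraMap D E z) = z := fun i z => by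
    refine map_eq_of_residue_eq hG D A' D' hA' hD' hres hE hDE (φ i) (fun z => ?_) z
    rw [hφ i]
    change τ i (residue E (algebraMap D E z)) = _
    exact (τ i).commutes (residue D z)
  let M : Matrix (Module.Free.ChooseBasisIndex kD kE) (Module.Free.ChooseBasisIndex kD kE) S :=
    fun i b => φ i (f b)
  have hM : IsUnit M.det := by
    refine isUnit_of_map_unit (residue S) _ ?_
    rw [RingHom.map_det, ← Matrix.isUnit_iff_isUnit_det, ← Matrix.linearIndependent_rows_iff_isUnit]
    have hli := (linearIndependent_toLinearMap kD kE kS).comp τ τ.injective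
    refine Fintype.linearIndependent_iff.2 fun c hc i => Fintype.linearIndependent_iff.1 hli c ?_ i
    refine bf.ext fun b => ?_
    have h := congrFun hc b
    simp only [Finset.sum_apply, Pi.smul_apply, Matrix.row_apply, RingHom.mapMatrix_apply, Matrix.map_apply,
      Pi.zero_apply, M] at h
    simp only [LinearMap.sum_apply, LinearMap.smul_apply, Function.comp_apply, LinearMap.zero_apply,
      AlgHom.toLinearMap_apply]
    refine Eq.trans (Finset.sum_congr rfl fun i _ => ?_) h
    rw [hφ i]
    change _ = c i • τ i (residue E (f b))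
    rw [hf]
  -- coefficients
  let C : (_ × _ → A) → Module.Free.ChooseBasisIndex kD kE → D := fun c b => ∑ a, c (a, b) • d a
  have hC : ∀ (ψ : E →ₐ[A] S), (∀ z : D, ψ (algebraMap D E z) = z) → ∀ c : _ × _ → A,
      ψ (∑ p, c p • g p) = ∑ b, ψ (f b) * (C c b : S) := fun ψ hψ c => by
    rw [map_sum, Fintype.sum_prod_type, Finset.sum_comm]
    refine Finset.sum_congr rfl fun b _ => ?_
    rw [AddSubmonoidClass.coe_finsetSum, Finset.mul_sum]
    refine Finset.sum_congr rfl fun a _ => ?_
    rw [map_smul, map_mul, hψ, Subalgebra.coe_smul, Algebra.smul_def, Algebra.smul_def]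
    ring
  have hv : ∀ b, (C cx b : S) - x * C cu b ∈ Q := by
    refine eq_nonsing_inv_mulVec M hM Q (fun b => (C cx b : S) - x * C cu b) fun i => ?_
    have h1 := hQφ (φ i) _ hcx
    have h2 := hQφ (φ i) _ hcu
    rw [map_sub, hfix, hC _ (hfix i)] at h1
    rw [map_sub, map_one, hC _ (hfix i)] at h2
    have h3 : M.mulVec (fun b => (C cx b : S) - x * C cu b) i =
        x * (1 - ∑ b, φ i (f b) * (C cu b : S)) - (x - ∑ b, φ i (f b) * (C cx b : S)) := by
      change ∑ b, φ i (f b) * ((C cx b : S) - x * C cu b) = _
      simp only [mul_sub, Finset.sum_sub_distrib, mul_one, Finset.mul_sum, mul_left_comm (x : S)]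
      ring
    rw [h3]
    exact sub_mem (Q.mul_mem_left _ h2) h1
  obtain ⟨b, hb⟩ : ∃ b, IsUnit (C cu b : S) := by
    by_contra hcon
    push Not at hcon
    have h1 := hQS (hQφ E.val _ hcu)
    rw [map_sub, map_one, hC E.val (fun z => rfl)] at h1
    have h2 : ∑ b, E.val (f b) * (C cu b : S) ∈ maximalIdeal S :=
      sum_mem fun b _ => Ideal.mul_mem_left _ _ (hcon b)
    exact (maximalIdeal.isMaximal S).ne_top ((Ideal.eq_top_iff_one _).2 (by simpa using add_mem h1 h2))
  obtain ⟨u, hu⟩ := isUnit_iff_exists_inv.1 (isUnit_of_map_unit (algebraMap D S) (C cu b) hb)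
  have hCm : C cx b ∈ (maximalIdeal A).map (algebraMap A D) := by
    have hres' : residue D (C cx b) = 0 := by
      rw [residue_eq_zero_iff]
      refine (IsLocalRing.maximalIdeal_comap (algebraMap D S)).le ?_
      rw [Ideal.mem_comap]
      change (C cx b : S) ∈ maximalIdeal S
      have hxS : (x : S) ∈ maximalIdeal S := by
        have := (IsLocalRing.maximalIdeal_comap (algebraMap D S)).ge hx
        exact this
      exact sub_add_cancel (C cx b : S) (x * C cu b) ▸ add_mem (hQS (hv b)) (Ideal.mul_mem_right _ _ hxS)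
    rw [map_sum] at hres'
    have hc := Fintype.linearIndependent_iff.1 bθ.linearIndependent (fun a => residue A (cx (a, b))) (by
      refine Eq.trans (Finset.sum_congr rfl fun a _ => ?_) hres'
      rw [Algebra.smul_def (cx (a, b)) (d a), map_mul, hd, Algebra.smul_def]
      rfl)
    refine sum_mem fun a _ => ?_
    rw [Algebra.smul_def]
    exact Ideal.mul_mem_right _ _ (Ideal.mem_map_of_mem _ ((residue_eq_zero_iff _).1 (hc a)))
  refine ⟨u * C cx b, Ideal.mul_mem_left _ _ hCm, ?_⟩
  have hu' : (C cu b : S) * (u : S) = 1 := congrArg Subtype.val hu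
  rw [show (x : S) - ((u * C cx b : D) : S) = -((u : S) * ((C cx b : S) - x * C cu b)) by
    rw [MulMemClass.coe_mul]
    linear_combination (-(x : S)) * hu']
  exact neg_mem (Q.mul_mem_left _ (hv b))

include hG hA' hD' hres in
/-- The residual criterion. -/
theorem essEtale_of_residual [IsLocalRing D]
    (hfg : ∃ t : Finset (FractionRing D), ∀ x : FractionRing D, ∃ a ∈ A⁰,
      algebraMap A (FractionRing D) a * x ∈ Algebra.adjoin A (t : Set (FractionRing D)))
    (hfin : {N : Ideal D' | N.IsMaximal}.Finite) : EGA4loc.IsEssentiallyEtale A D := by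
  classical
  obtain ⟨E, hDE, -, _, hE⟩ := exists_stage_of_fractionRing (minimalPrimes.finite_of_isNoetherianRing A) hfg ∅
  have := isLocalHom E hE
  have := EssEt14.isLocalHom hE
  have := isLocalHom_stage D hDE
  obtain ⟨hle, hsurj⟩ := exists_maximal_over_stage D A' D' hA' hD' hres hE hDE
  obtain ⟨hft, t, ht⟩ := essFiniteType_and_finite_of_semilocal hG hE (D.comap E.val)
    (D'.comap (stageFrac E hE)) (mem_normalization_stage_iff hE D hDE D' hD') hle
    (finite_maximal_stage hE D hDE D' hD' hfin) hsurj
  have : Algebra.EssFiniteType A D := (Algebra.EssFiniteType.iff_of_algEquiv (stageEquiv D hDE)).1 hft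
  have : IsNoetherianRing D := Algebra.EssFiniteType.isNoetherianRing A D
  -- the normalization as a finite module
  let P : Submodule D (FractionRing S) :=
    { carrier := D'
      add_mem' := fun ha hb => add_mem ha hb
      zero_mem' := zero_mem D'
      smul_mem' := fun c y hy => by
        change c • y ∈ D'
        rw [Algebra.smul_def]
        refine mul_mem ?_ hy
        exact (hD' _).2 ⟨isIntegral_algebraMap, 1, one_mem _, c, c.2, by rw [map_one, one_mul]; rfl⟩ }
  have hP : P.FG := by
    have hQ : P ≤ Submodule.span D (stageFrac E hE '' (t : Set (FractionRing E))) := fun y hy => by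
      obtain ⟨w, hw⟩ := normalization_le_range hE D hDE D' hD' (hy : y ∈ D')
      change stageFrac E hE w = y at hw
      subst hw
      have hwt := ht w hy
      clear hy
      induction hwt using Submodule.span_induction with
      | mem z hz => exact Submodule.subset_span ⟨z, hz, rfl⟩
      | zero => rw [map_zero]; exact zero_mem _
      | add a b _ _ ha hb => rw [map_add]; exact add_mem ha hb
      | smul c z _ hz =>
        rw [Algebra.smul_def, map_mul, show stageFrac E hE (algebraMap (D.comap E.val) (FractionRing E) c) =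
          algebraMap D (FractionRing S) (stageEquiv D hDE c) from stageFrac_algebraMap hE (c : E), ← Algebra.smul_def]
        exact Submodule.smul_mem _ _ hz
    have : Module.Finite D (Submodule.span D (stageFrac E hE '' (t : Set (FractionRing E)))) :=
      Module.Finite.iff_fg.2 (Submodule.fg_span (t.finite_toSet.image _))
    have : Module.Finite D P := Module.Finite.of_injective (Submodule.inclusion hQ) (Submodule.inclusion_injective hQ)
    exact Module.Finite.iff_fg.1 this
  obtain ⟨j, hj⟩ := exists_mem_of_mem_pow_smul (D := D) (K := FractionRing S)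
    ((IsFractionRing.injective S (FractionRing S)).comp Subtype.val_injective)
    (maximalIdeal A) P hP (one_mem D')
  have hm : (maximalIdeal A).map (algebraMap A D) = maximalIdeal D := by
    have := isLocalHom_base D
    refine le_antisymm (map_maximalIdeal_le _) fun x hx => ?_
    obtain ⟨y, hy, hxy⟩ := exists_mem_map_sub hG D A' D' hA' hD' hres hE hDE j hx
    have := faithfullyFlat E hE
    have hE' : (⟨_, hDE (x - y).2⟩ : E) ∈ (maximalIdeal A ^ j).map (algebraMap A E) := by
      rw [← Ideal.comap_map_eq_self_of_faithfullyFlat (B := S) ((maximalIdeal A ^ j).map (algebraMap A E)),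
        Ideal.mem_comap, Ideal.map_map, ← IsScalarTower.algebraMap_eq]
      exact Ideal.map_mono (Ideal.pow_le_pow_right (Nat.le_succ j)) hxy
    have h := mem_pow_smul_of_mem_map D A' D' hA' hD' hres hE hDE (maximalIdeal A ^ j) (x - y).2 hE'
    have h' := hj (x - y) h
    exact sub_add_cancel x y ▸ add_mem h' hy
  exact essEtale_of_map_eq D hm

end Groth.Agent.SubSh14
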