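import Mathlib
import Groth.Agent.SubSh14.EtaleNormalization

/-!
The Jacobson radical of an integral semilocal algebra tensored with an essentially etale algebra.
-/

set_option autoImplicit false

open IsLocalRing
open scoped TensorProduct

namespace Groth.Agent.SubSh14

universe u

theorem isIntegral_includeRight (A R E : Type u) [CommRing A] [CommRing R] [Algebra A R] [CommRing E] [Algebra A E]
    [Algebra.IsIntegral A R] :
    (Algebra.TensorProduct.includeRight : E →ₐ[A] R ⊗[A] E).toRingHom.IsIntegral := fun z => by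
  induction z using TensorProduct.induction_on with
  | zero => exact RingHom.isIntegralElem_zero _
  | add z w hz hw => exact RingHom.IsIntegralElem.add _ hz hw
  | tmul r e =>
    rw [show r ⊗ₜ[A] e = (r ⊗ₜ[A] (1 : E)) * ((1 : R) ⊗ₜ[A] e) by
      rw [Algebra.TensorProduct.tmul_mul_tmul, mul_one, one_mul]]
    refine RingHom.IsIntegralElem.mul _ ?_ (RingHom.isIntegralElem_map _)
    obtain ⟨f, hf, hfr⟩ := Algebra.IsIntegral.isIntegral (R := A) r
    refine ⟨f.map (algebraMap A E), hf.map _, ?_⟩
    rw [Polynomial.eval₂_map, show (Algebra.TensorProduct.includeRight : E →ₐ[A] R ⊗[A] E).toRingHom.comp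
        (algebraMap A E) = (Algebra.TensorProduct.includeLeft : R →ₐ[A] R ⊗[A] E).toRingHom.comp (algebraMap A R) by
      rw [AlgHom.toRingHom_eq_coe, AlgHom.toRingHom_eq_coe, AlgHom.comp_algebraMap, AlgHom.comp_algebraMap]]
    change Polynomial.eval₂ _ ((Algebra.TensorProduct.includeLeft : R →ₐ[A] R ⊗[A] E).toRingHom r) f = 0
    rw [← Polynomial.hom_eval₂, hfr, map_zero]

theorem jacobson_tensor_eq {A : Type u} [CommRing A] [IsLocalRing A] {E : Type u} [CommRing E] [IsLocalRing E]
    [Algebra A E] (hE : EGA4loc.IsEssentiallyEtale A E) (R : Type u) [CommRing R] [Algebra A R]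
    [Algebra.IsIntegral A R] (hfin : {n : Ideal R | n.IsMaximal}.Finite) :
    Ideal.jacobson (⊥ : Ideal (R ⊗[A] E)) =
      (Ideal.jacobson (⊥ : Ideal R)).map (Algebra.TensorProduct.includeLeft : R →ₐ[A] R ⊗[A] E) ⊔
        (maximalIdeal E).map (Algebra.TensorProduct.includeRight : E →ₐ[A] R ⊗[A] E) := by
  classical
  let iL := (Algebra.TensorProduct.includeLeft : R →ₐ[A] R ⊗[A] E)
  let iR := (Algebra.TensorProduct.includeRight : E →ₐ[A] R ⊗[A] E)
  have := EssEt14.isLocalHom hE
  have hPE : ∀ P : Ideal (R ⊗[A] E), P.IsMaximal → P.comap iR.toRingHom = maximalIdeal E := fun P hP =>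
    eq_maximalIdeal (Ideal.isMaximal_comap_of_isIntegral_of_isMaximal' iR.toRingHom (isIntegral_includeRight A R E) P)
  have hPR : ∀ P : Ideal (R ⊗[A] E), P.IsMaximal → (P.comap iL.toRingHom).IsMaximal := fun P hP => by
    have : (P.comap iL.toRingHom).IsPrime := Ideal.comap_isPrime _ _
    refine Ideal.isMaximal_of_isIntegral_of_isMaximal_comap (R := A) _ ?_
    rw [Ideal.comap_comap, AlgHom.toRingHom_eq_coe, AlgHom.comp_algebraMap, ← AlgHom.comp_algebraMap iR,
      ← Ideal.comap_comap]
    change ((P.comap iR.toRingHom).comap (algebraMap A E)).IsMaximal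
    rw [hPE P hP, IsLocalRing.maximalIdeal_comap]
    exact maximalIdeal.isMaximal A
  refine le_antisymm (fun z hz => ?_) ?_
  · set 𝔍 := (Ideal.jacobson (⊥ : Ideal R)).map iL ⊔ (maximalIdeal E).map iR with h𝔍
    let J : Ideal (R ⊗[A] E) :=
      { carrier := {u | u * z ∈ 𝔍}
        add_mem' := fun {a b} ha hb => by
          change (a + b) * z ∈ 𝔍
          rw [add_mul]; exact add_mem ha hb
        zero_mem' := by
          change 0 * z ∈ 𝔍
          rw [zero_mul]; exact zero_mem _
        smul_mem' := fun c u hu => by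
          change c * u * z ∈ 𝔍
          rw [mul_assoc]; exact 𝔍.mul_mem_left c hu }
    suffices h : (1 : R ⊗[A] E) ∈ J by
      have h' : 1 * z ∈ 𝔍 := h
      rwa [one_mul] at h'
    by_contra h1
    obtain ⟨P, hP, hJP⟩ := Ideal.exists_le_maximal J fun h => h1 (h ▸ Submodule.mem_top)
    have hzP : z ∈ P := by
      rw [Ideal.jacobson, Ideal.mem_sInf] at hz
      exact hz ⟨bot_le, hP⟩
    obtain ⟨u, hu, huz⟩ := (exists_etale_local_tensor hE R P).1 z hzP
    let n := P.comap iL.toRingHom
    have hn : n.IsMaximal := hPR P hP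
    obtain ⟨r, hr, hrn⟩ : ∃ r : R, (∀ n' : Ideal R, n'.IsMaximal → n' ≠ n → r ∈ n') ∧ r ∉ n := by
      let others := hfin.toFinset.erase n
      have hnle : ¬ others.inf id ≤ n := fun hle => by
        obtain ⟨n', hn', hle'⟩ := (Ideal.IsPrime.inf_le' hn.isPrime).1 hle
        rw [Finset.mem_erase, hfin.mem_toFinset] at hn'
        exact hn'.1 (hn'.2.eq_of_le hn.ne_top hle')
      obtain ⟨r, hr, hrn⟩ := SetLike.not_le_iff_exists.1 hnle
      exact ⟨r, fun n' hn' hne => (Finset.inf_le (Finset.mem_erase.2 ⟨hne, hfin.mem_toFinset.2 hn'⟩) : others.inf id ≤ id n') hr,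
        hrn⟩
    refine (Ideal.IsPrime.mul_notMem hP.isPrime (show iL r ∉ P from hrn) hu) (hJP ?_)
    change iL r * u * z ∈ 𝔍
    have hrjac : ∀ y ∈ n, r * y ∈ Ideal.jacobson (⊥ : Ideal R) := fun y hy => by
      rw [Ideal.jacobson, Ideal.mem_sInf]
      rintro n' ⟨-, hn'⟩
      by_cases hne : n' = n
      · exact Ideal.mul_mem_left _ _ (hne ▸ hy)
      · exact Ideal.mul_mem_right _ _ (hr n' hn' hne)
    rw [mul_assoc]
    refine le_sup_left (a := (Ideal.jacobson (⊥ : Ideal R)).map iL) ?_
    have key : ∀ w ∈ n.map iL.toRingHom, iL r * w ∈ (Ideal.jacobson (⊥ : Ideal R)).map iL := fun w hw => by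
      rw [Ideal.map] at hw
      induction hw using Submodule.span_induction with
      | mem w hw =>
        obtain ⟨y, hy, rfl⟩ := hw
        change iL r * iL y ∈ _
        rw [← map_mul]
        exact Ideal.mem_map_of_mem _ (hrjac y hy)
      | zero => rw [mul_zero]; exact zero_mem _
      | add a b _ _ ha hb => rw [mul_add]; exact add_mem ha hb
      | smul c a _ ha => rw [smul_eq_mul, mul_left_comm]; exact Ideal.mul_mem_left _ _ ha
    exact key _ huz
  · intro w hw
    rw [Ideal.jacobson, Ideal.mem_sInf]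
    rintro P ⟨-, hP⟩
    revert hw
    generalize hI : (Ideal.jacobson (⊥ : Ideal R)).map (Algebra.TensorProduct.includeLeft : R →ₐ[A] R ⊗[A] E) ⊔
        (maximalIdeal E).map (Algebra.TensorProduct.includeRight : E →ₐ[A] R ⊗[A] E) = I
    revert w
    suffices I ≤ P from fun w hw => this hw
    subst hI
    refine sup_le (Ideal.map_le_iff_le_comap.2 fun r hr => ?_) (Ideal.map_le_iff_le_comap.2 fun e he => ?_)
    · rw [Ideal.jacobson, Ideal.mem_sInf] at hr
      exact hr ⟨bot_le, hPR P hP⟩
    · exact (hPE P hP).ge he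

end Groth.Agent.SubSh14
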