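import Mathlib
import Groth.Agent.SubSh14.Transfer
import Groth.Agent.SubSh14.TensorJacobson

/-!
Residual structure of the normalization of an essentially etale subalgebra.
-/

set_option autoImplicit false

open IsLocalRing
open scoped nonZeroDivisors TensorProduct

namespace Groth.Agent.SubSh14

universe u

variable {A S : Type u} [CommRing A] [IsLocalRing A] [IsReduced A] [IsNoetherianRing A]
  [CommRing S] [IsLocalRing S] [Algebra A S] [IsLocalHom (algebraMap A S)] [Hensel.IsStrictHenselization A S]
  (hG : CAlg.IsGRing A)
  (D : Subalgebra A S) [IsLocalRing D] [IsLocalHom (algebraMap D S)] (A' D' : Subalgebra A (FractionRing S))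
  (hA' : ∀ x : FractionRing S, x ∈ A' ↔ (IsIntegral A x ∧
      ∃ a ∈ A⁰, ∃ b : A, algebraMap A (FractionRing S) a * x = algebraMap A (FractionRing S) b))
  (hD' : ∀ x : FractionRing S, x ∈ D' ↔ (IsIntegral D x ∧
      ∃ a ∈ A⁰, ∃ d ∈ D, algebraMap A (FractionRing S) a * x = algebraMap S (FractionRing S) d))

include hG hA' hD' in
/-- For an essentially etale subalgebra the normalization is the base change of the normalization
of the base. -/
theorem bijective_productMap (hle : A' ≤ D') (ι : D →ₐ[A] D')
    (hι : ∀ d : D, (ι d : (FractionRing S)) = algebraMap S (FractionRing S) d)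
    (hD : EGA4loc.IsEssentiallyEtale A D) :
    Function.Bijective (Algebra.TensorProduct.productMap (Subalgebra.inclusion hle) ι) ∧
      {N : Ideal D' | N.IsMaximal}.Finite ∧ Algebra.IsIntegral A A' ∧ {n : Ideal A' | n.IsMaximal}.Finite := by
  classical
  have := EssEt14.isLocalHom hD
  have := EssEt14.formallyEtale hD
  have := EssEt14.essFiniteType hD
  have := flat hD
  have : Module.FaithfullyFlat A D := Module.FaithfullyFlat.of_flat_of_isLocalHom
  let R := integralClosure A (FractionRing A)
  let K := FractionRing D
  let σ := stageFrac D hD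
  have hσ := stageFrac_injective hD
  let θ₀ : R →ₐ[A] FractionRing S := σ.comp ((liftBase A D).comp R.val)
  have hθ₀ : ∀ r, θ₀ r ∈ A' := fun r => by
    obtain ⟨a, ha, b, hab⟩ := exists_mul_algebraMap (r : FractionRing A)
    refine (hA' _).2 ⟨(show IsIntegral A (r : FractionRing A) from r.2).map (σ.comp (liftBase A D)), a, ha, b, ?_⟩
    change _ * (σ.comp (liftBase A D)) (r : FractionRing A) = _
    rw [← (σ.comp (liftBase A D)).commutes a, ← map_mul, hab, AlgHom.commutes]
  let θ : R →ₐ[A] A' := θ₀.codRestrict A' hθ₀
  have hinjB : Function.Injective (σ.comp (liftBase A D)) :=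
    hσ.comp (liftBase_injective (FaithfulSMul.algebraMap_injective A D))
  have hθsurj : Function.Surjective θ := fun x => by
    obtain ⟨hxA, a, ha, b, hab⟩ := (hA' x).1 x.2
    let y : FractionRing A := IsLocalization.mk' _ b (⟨a, ha⟩ : A⁰)
    have hy : (σ.comp (liftBase A D)) y = x := by
      have hu : IsUnit (algebraMap A (FractionRing S) a) := by
        have h : IsUnit (algebraMap A K a) := by
          rw [IsScalarTower.algebraMap_apply A D K]
          exact IsLocalization.map_units K (⟨_, algebraMap_mem_nonZeroDivisors (E := D) ha⟩ : (D : Type u)⁰)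
        rw [← σ.commutes]
        exact h.map σ
      refine hu.mul_left_cancel ?_
      rw [hab, ← (σ.comp (liftBase A D)).commutes a, ← map_mul, IsLocalization.mk'_spec'_mk, AlgHom.commutes]
    exact ⟨⟨y, (isIntegral_algHom_iff (σ.comp (liftBase A D)) hinjB).1 (hy ▸ hxA)⟩, Subtype.ext hy⟩
  let μ := Algebra.TensorProduct.productMap (Subalgebra.inclusion hle) ι
  let g := Algebra.TensorProduct.map θ (AlgHom.id A D)
  have hg : Function.Surjective g := TensorProduct.map_surjective hθsurj Function.surjective_id
  have hkey : ∀ t, ((μ (g t) : D') : FractionRing S) = σ (normMap A D t) := fun t => by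
    induction t using TensorProduct.induction_on with
    | zero => simp
    | add x y hx hy => simp [hx, hy]
    | tmul r d =>
      rw [Algebra.TensorProduct.map_tmul, Algebra.TensorProduct.productMap_apply_tmul, normMap_tmul, map_mul]
      change (σ (liftBase A D r)) * (ι (AlgHom.id A D d) : FractionRing S) = _
      rw [hι]
      exact congrArg _ (stageFrac_algebraMap hD d).symm
  have hνinj : Function.Injective fun t => σ (normMap A D t) := hσ.comp normMap_injective
  have hμsurj : Function.Surjective μ := fun x => by
    obtain ⟨hxD, a, ha, d, hd, hxa⟩ := (hD' x).1 x.2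
    obtain ⟨w, hw⟩ := mem_range_stageFrac hD ha hd hxa
    change σ w = x at hw
    have hwint : IsIntegral D w := by
      obtain ⟨f, hf, hfx⟩ := hxD
      refine ⟨f, hf, hσ ?_⟩
      rw [map_zero]
      change σ.toRingHom _ = 0
      rw [Polynomial.hom_eval₂, show σ.toRingHom.comp (algebraMap D K) = algebraMap D (FractionRing S) from
        RingHom.ext fun e => stageFrac_algebraMap hD e]
      exact (congrArg (fun z => Polynomial.eval₂ _ z f) hw).trans hfx
    obtain ⟨t, ht⟩ := mem_range_normMap hD hwint
    exact ⟨g t, Subtype.ext (by rw [hkey, ← hw]; exact congrArg σ ht)⟩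
  have hμinj : Function.Injective μ := fun y z h => by
    obtain ⟨s, rfl⟩ := hg y
    obtain ⟨t, rfl⟩ := hg z
    have h' := congrArg (Subtype.val : D' → FractionRing S) h
    rw [hkey, hkey] at h'
    rw [hνinj h']
  -- finiteness
  have := finite_integralClosure_fractionRing hG hD
  have hR : Module.Finite A R := by
    let f : R →ₐ[A] integralClosure A K := ((liftBase A D).comp R.val).codRestrict _ fun x => isIntegral_liftBase x.2
    exact Module.Finite.of_injective f.toLinearMap fun x y h =>
      Subtype.ext (liftBase_injective (FaithfulSMul.algebraMap_injective A D) (congrArg Subtype.val h))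
  have : Module.Finite A A' := Module.Finite.of_surjective θ.toLinearMap hθsurj
  refine ⟨⟨hμinj, hμsurj⟩, ?_, inferInstance, ?_⟩
  · let e := (normalizationEquiv hD D')
    have hfin : {N : Ideal (D'.comap σ) | N.IsMaximal}.Finite := by
      have hleD : D'.comap σ ≤ (integralClosure D K).restrictScalars A := fun x hx => by
        obtain ⟨y, hy⟩ := hμsurj ⟨σ x, hx⟩
        obtain ⟨t, rfl⟩ := hg y
        have h := congrArg (Subtype.val : D' → FractionRing S) hy
        rw [hkey] at h
        rw [← hσ h]
        exact isIntegral_normMap t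
      have hge : (integralClosure D K).restrictScalars A ≤ D'.comap σ := fun x hx => by
        obtain ⟨t, ht⟩ := mem_range_normMap hD hx
        change σ x ∈ D'
        rw [show σ x = ((μ (g t) : D') : FractionRing S) by rw [hkey]; exact congrArg σ ht.symm]
        exact (μ (g t)).2
      rw [le_antisymm hleD hge]
      exact finite_maximal (A := A) hD
    have hD'int : ∀ x : D', ∃ w : D'.comap σ, e w = x := fun x => by
      obtain ⟨y, hy⟩ := hμsurj x
      obtain ⟨t, rfl⟩ := hg y
      refine ⟨⟨normMap A D t, show σ _ ∈ D' from hkey t ▸ (μ (g t)).2⟩, ?_⟩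
      exact Subtype.ext ((hkey t).symm.trans (congrArg Subtype.val hy))
    have hbij : Function.Bijective e := ⟨fun x y h => Subtype.ext (hσ (congrArg Subtype.val h)), hD'int⟩
    refine (hfin.image fun N => N.map e).subset fun N hN => ⟨N.comap e, ?_, ?_⟩
    · exact (Ideal.isMaximal_comap_iff_of_bijective e hbij).2 hN
    · exact Ideal.map_comap_of_surjective e hbij.2 N
  · have h : {n : Ideal A' | n.IsMaximal} ⊆ (maximalIdeal A).primesOver A' := fun Q hQ => by
      have : Q.IsMaximal := hQ
      exact ⟨hQ.isPrime, ⟨(IsLocalRing.eq_maximalIdeal (Ideal.isMaximal_comap_of_isIntegral_of_isMaximal (R := A) Q)).symm⟩⟩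
    exact (Algebra.QuasiFinite.finite_primesOver (maximalIdeal A)).subset h

end Groth.Agent.SubSh14
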